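import Mathlib

set_option autoImplicit false

/-!
Congruences between short sums of powers of two modulo `d = (2 ^ n - 1) / f` with `f ∣ n`
(the order of the scalars of a solvable group of semilinear maps that is transitive on the
nonzero elements of the field with `2 ^ n` elements).
-/

namespace Cfsg.Agent.HSz

/-- powers of two modulo `2 ^ n - 1` depend on the exponent modulo `n`. -/
theorem hsz_arith_pow_mod (n a : ℕ) : 2 ^ a ≡ 2 ^ (a % n) [MOD 2 ^ n - 1] := by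
  have h1 : 2 ^ n ≡ 1 [MOD 2 ^ n - 1] := by
    have hpos : 1 ≤ 2 ^ n := Nat.one_le_two_pow
    have : 2 ^ n = (2 ^ n - 1) + 1 := by omega
    rw [Nat.ModEq, this]
    simp
  have h2 : 2 ^ a = (2 ^ n) ^ (a / n) * 2 ^ (a % n) := by
    rw [← pow_mul, ← pow_add, Nat.div_add_mod]
  rw [h2]
  calc (2 ^ n) ^ (a / n) * 2 ^ (a % n) ≡ 1 ^ (a / n) * 2 ^ (a % n) [MOD 2 ^ n - 1] :=
        (h1.pow _).mul_right _
    _ = 2 ^ (a % n) := by rw [one_pow, one_mul]

/-- `5 (w + 1) ≤ 2 ^ w` for `w ≥ 5`. -/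
theorem hsz_arith_five (w : ℕ) (hw : 5 ≤ w) : 5 * (w + 1) ≤ 2 ^ w := by
  induction w, hw using Nat.le_induction with
  | base => norm_num
  | succ w hw ih =>
    have h5 : 5 ≤ 2 ^ w := by
      calc 5 ≤ 2 ^ 5 := by norm_num
        _ ≤ 2 ^ w := Nat.pow_le_pow_right (by norm_num) hw
    rw [pow_succ]
    omega

/-- two congruent small numbers are equal. -/
theorem hsz_arith_small_eq (d P x0 x1 x2 x3 : ℕ) (hd : P + P ≤ d) (b0 : x0 ≤ P) (b1 : x1 ≤ P)
    (b2 : x2 ≤ P) (b3 : x3 ≤ P) (p0 : 1 ≤ x0) (p2 : 1 ≤ x2)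
    (h : x0 + x1 ≡ x2 + x3 [MOD d]) : x0 + x1 = x2 + x3 := by
  rcases Nat.lt_trichotomy (x0 + x1) (x2 + x3) with hlt | heq | hgt
  · exfalso
    have hdvd := (Nat.modEq_iff_dvd' hlt.le).1 h
    have h7 := Nat.le_of_dvd (by omega) hdvd
    omega
  · exact heq
  · exfalso
    have hdvd := (Nat.modEq_iff_dvd' hgt.le).1 h.symm
    have h7 := Nat.le_of_dvd (by omega) hdvd
    omega

/-- the lifting lemma: for `n ≥ 25` a congruence between two sums of two powers of two modulo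
`d` holds modulo `2 ^ n - 1`. -/
theorem hsz_arith_lift (n f d : ℕ) (hn : 25 ≤ n) (hfn : f ≤ n) (hfd : f * d = 2 ^ n - 1)
    (e : Fin 4 → ℕ) (he : ∀ t, e t < n)
    (h : 2 ^ e 0 + 2 ^ e 1 ≡ 2 ^ e 2 + 2 ^ e 3 [MOD d]) :
    2 ^ e 0 + 2 ^ e 1 ≡ 2 ^ e 2 + 2 ^ e 3 [MOD 2 ^ n - 1] := by
  obtain ⟨w, hw⟩ : ∃ w, w = n / 5 := ⟨_, rfl⟩
  have hw5 : 5 ≤ w := by omega
  have h5w : 5 * w ≤ n := by omega
  have hnw : n < 5 * (w + 1) := by omega
  have hwpos : 0 < w := by omega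
  -- a block of exponents that is not hit
  have hcard : (Finset.image (fun t : Fin 4 => e t / w) Finset.univ).card < (Finset.range 5).card := by
    calc (Finset.image (fun t : Fin 4 => e t / w) Finset.univ).card
        ≤ (Finset.univ : Finset (Fin 4)).card := Finset.card_image_le
      _ = 4 := by simp
      _ < (Finset.range 5).card := by simp
  obtain ⟨i, hi5, hiS⟩ := Finset.exists_mem_notMem_of_card_lt_card hcard
  rw [Finset.mem_range] at hi5
  have hne : ∀ t, e t / w ≠ i := by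
    intro t ht
    apply hiS
    rw [Finset.mem_image]
    exact ⟨t, Finset.mem_univ _, ht⟩
  obtain ⟨iw, hiw⟩ : ∃ iw, iw = i * w := ⟨_, rfl⟩
  have hiw1 : (i + 1) * w = iw + w := by rw [hiw]; ring
  have hiwn : iw + w ≤ n := by
    rw [← hiw1]
    calc (i + 1) * w ≤ 5 * w := Nat.mul_le_mul_right _ (by omega)
      _ ≤ n := h5w
  obtain ⟨r, hr⟩ : ∃ r, r = n - (iw + w) := ⟨_, rfl⟩
  -- the rotated exponents
  have hrot : ∀ t, (e t + r) % n + w + 1 ≤ n := by
    intro t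
    rcases Nat.lt_or_gt_of_ne (hne t) with hlt | hgt
    · have h1 : e t < iw := by
        rw [hiw]
        exact (Nat.div_lt_iff_lt_mul hwpos).1 hlt
      have h2 : e t + r < n := by omega
      rw [Nat.mod_eq_of_lt h2]
      omega
    · have h1 : iw + w ≤ e t := by
        rw [← hiw1]
        exact (Nat.le_div_iff_mul_le hwpos).1 hgt
      have h2 : n ≤ e t + r := by omega
      have het := he t
      have h3 : e t + r < n + n := by omega
      have h4 : (e t + r) % n = e t + r - n := by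
        rw [Nat.mod_eq_sub_mod h2, Nat.mod_eq_of_lt (by omega)]
      rw [h4]
      omega
  have hM : d ∣ 2 ^ n - 1 := Dvd.intro_left f hfd
  have hMpos : 0 < 2 ^ n - 1 := by
    have : 2 ^ 25 ≤ 2 ^ n := Nat.pow_le_pow_right (by norm_num) hn
    omega
  have hfpos : 0 < f := by
    rcases Nat.eq_zero_or_pos f with h0 | h0
    · rw [h0, zero_mul] at hfd
      omega
    · exact h0
  -- the rotated terms
  have hterm : ∀ t, 2 ^ r * 2 ^ e t ≡ 2 ^ ((e t + r) % n) [MOD 2 ^ n - 1] := by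
    intro t
    rw [← pow_add, add_comm]
    exact hsz_arith_pow_mod n (e t + r)
  have hbound : ∀ t, 2 ^ ((e t + r) % n) ≤ 2 ^ (n - w - 1) := by
    intro t
    apply Nat.pow_le_pow_right (by norm_num)
    have := hrot t
    omega
  have hdle : 2 ^ (n - w) ≤ d := by
    have h1 : n < 2 ^ w := lt_of_lt_of_le hnw (hsz_arith_five w hw5)
    have h2 : 2 ^ n = 2 ^ w * 2 ^ (n - w) := by
      rw [← pow_add]
      congr 1
      omega
    have h3 : n * 2 ^ (n - w) ≤ 2 ^ n - 1 := by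
      have h4 : (n + 1) * 2 ^ (n - w) ≤ 2 ^ w * 2 ^ (n - w) := Nat.mul_le_mul_right _ h1
      have h5 : 1 ≤ 2 ^ (n - w) := Nat.one_le_two_pow
      rw [h2]
      have : (n + 1) * 2 ^ (n - w) = n * 2 ^ (n - w) + 2 ^ (n - w) := by ring
      omega
    have h6 : f * 2 ^ (n - w) ≤ f * d := by
      calc f * 2 ^ (n - w) ≤ n * 2 ^ (n - w) := Nat.mul_le_mul_right _ hfn
        _ ≤ 2 ^ n - 1 := h3
        _ = f * d := hfd.symm
    exact Nat.le_of_mul_le_mul_left h6 hfpos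
  have hpow2 : 2 ^ (n - w) = 2 ^ (n - w - 1) + 2 ^ (n - w - 1) := by
    have : n - w = (n - w - 1) + 1 := by omega
    rw [this, pow_succ]
    simp
    ring
  have hXY : 2 ^ ((e 0 + r) % n) + 2 ^ ((e 1 + r) % n) ≡
      2 ^ ((e 2 + r) % n) + 2 ^ ((e 3 + r) % n) [MOD d] := by
    have h1 : 2 ^ r * (2 ^ e 0 + 2 ^ e 1) ≡ 2 ^ r * (2 ^ e 2 + 2 ^ e 3) [MOD d] := h.mul_left _
    have h2 : 2 ^ r * (2 ^ e 0 + 2 ^ e 1) ≡
        2 ^ ((e 0 + r) % n) + 2 ^ ((e 1 + r) % n) [MOD d] := by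
      rw [mul_add]
      exact ((hterm 0).of_dvd hM).add ((hterm 1).of_dvd hM)
    have h3 : 2 ^ r * (2 ^ e 2 + 2 ^ e 3) ≡
        2 ^ ((e 2 + r) % n) + 2 ^ ((e 3 + r) % n) [MOD d] := by
      rw [mul_add]
      exact ((hterm 2).of_dvd hM).add ((hterm 3).of_dvd hM)
    exact (h2.symm.trans h1).trans h3
  have heq : 2 ^ ((e 0 + r) % n) + 2 ^ ((e 1 + r) % n) =
      2 ^ ((e 2 + r) % n) + 2 ^ ((e 3 + r) % n) := by
    apply hsz_arith_small_eq d (2 ^ (n - w - 1)) _ _ _ _ _ (hbound 0) (hbound 1) (hbound 2)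
      (hbound 3) Nat.one_le_two_pow Nat.one_le_two_pow hXY
    rw [← hpow2]
    exact hdle
  -- back to the modulus `2 ^ n - 1`
  have hcop : Nat.gcd (2 ^ n - 1) (2 ^ r) = 1 := by
    apply Nat.Coprime.pow_right
    rw [Nat.coprime_comm, Nat.coprime_two_left]
    have h2n : 2 ^ n = 2 * 2 ^ (n - 1) := by
      rw [← pow_succ']
      congr 1
      omega
    rw [h2n]
    have : 1 ≤ 2 ^ (n - 1) := Nat.one_le_two_pow
    exact ⟨2 ^ (n - 1) - 1, by omega⟩
  have h1 : 2 ^ r * (2 ^ e 0 + 2 ^ e 1) ≡ 2 ^ r * (2 ^ e 2 + 2 ^ e 3) [MOD 2 ^ n - 1] := by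
    have h2 : 2 ^ r * (2 ^ e 0 + 2 ^ e 1) ≡
        2 ^ ((e 0 + r) % n) + 2 ^ ((e 1 + r) % n) [MOD 2 ^ n - 1] := by
      rw [mul_add]
      exact (hterm 0).add (hterm 1)
    have h3 : 2 ^ r * (2 ^ e 2 + 2 ^ e 3) ≡
        2 ^ ((e 2 + r) % n) + 2 ^ ((e 3 + r) % n) [MOD 2 ^ n - 1] := by
      rw [mul_add]
      exact (hterm 2).add (hterm 3)
    rw [heq] at h2
    exact h2.trans h3.symm
  exact Nat.ModEq.cancel_left_of_coprime hcop h1

/-- the pairs `(n, f)` with `n < 25`, `f ∣ n`, `f ∣ 2 ^ n - 1`, `f ≠ 1`. -/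
theorem hsz_arith_pairs (n f d : ℕ) (hn : 2 ≤ n) (hn25 : n < 25) (hfn : f ∣ n)
    (hfd : f * d = 2 ^ n - 1) :
    f = 1 ∨ (n = 6 ∧ f = 3) ∨ (n = 12 ∧ f = 3) ∨ (n = 18 ∧ f = 3) ∨ (n = 18 ∧ f = 9) ∨
      (n = 20 ∧ f = 5) ∨ (n = 21 ∧ f = 7) ∨ (n = 24 ∧ f = 3) := by
  have hf25 : f < 25 := lt_of_le_of_lt (Nat.le_of_dvd (by omega) hfn) hn25
  have hf2 : f ∣ 2 ^ n - 1 := Dvd.intro _ hfd
  have key : ∀ n : Fin 25, ∀ f : Fin 25, 2 ≤ n.val → f.val ∣ n.val → f.val ∣ 2 ^ n.val - 1 →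
      f.val = 1 ∨ (n.val = 6 ∧ f.val = 3) ∨ (n.val = 12 ∧ f.val = 3) ∨ (n.val = 18 ∧ f.val = 3) ∨
      (n.val = 18 ∧ f.val = 9) ∨ (n.val = 20 ∧ f.val = 5) ∨ (n.val = 21 ∧ f.val = 7) ∨
      (n.val = 24 ∧ f.val = 3) := by decide +kernel
  exact key ⟨n, hn25⟩ ⟨f, hf25⟩ hn hfn hf2

/-- the second congruence modulo `2 ^ n - 1`. -/
theorem hsz_arith_N3_core (n : ℕ) (hn : 2 ≤ n) (l k' m : ℕ) (hl : l < n) (hk' : 1 ≤ k')
    (hk'n : k' < n) (hm : m < n) (h : 2 ^ l + 2 ^ k' ≡ 1 + 2 ^ m [MOD 2 ^ n - 1]) :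
    l = 0 ∧ k' = m := by
  have h2n : 2 ^ n = 2 * 2 ^ (n - 1) := by
    rw [← pow_succ']
    congr 1
    omega
  have b1 : 2 ^ l ≤ 2 ^ (n - 1) := Nat.pow_le_pow_right (by norm_num) (by omega)
  have b2 : 2 ^ k' ≤ 2 ^ (n - 1) := Nat.pow_le_pow_right (by norm_num) (by omega)
  have b3 : 2 ^ m ≤ 2 ^ (n - 1) := Nat.pow_le_pow_right (by norm_num) (by omega)
  have p1 : 1 ≤ 2 ^ l := Nat.one_le_two_pow
  have p2 : 2 ≤ 2 ^ k' := by
    calc 2 = 2 ^ 1 := by norm_num
      _ ≤ 2 ^ k' := Nat.pow_le_pow_right (by norm_num) hk'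
  have p3 : 1 ≤ 2 ^ m := Nat.one_le_two_pow
  have p4 : 2 ≤ 2 ^ (n - 1) := by
    calc 2 = 2 ^ 1 := by norm_num
      _ ≤ 2 ^ (n - 1) := Nat.pow_le_pow_right (by norm_num) (by omega)
  have heq : 2 ^ l + 2 ^ k' = 1 + 2 ^ m := by
    rcases Nat.lt_trichotomy (2 ^ l + 2 ^ k') (1 + 2 ^ m) with hlt | heq | hgt
    · exfalso
      have hdvd := (Nat.modEq_iff_dvd' hlt.le).1 h
      have h7 := Nat.le_of_dvd (by omega) hdvd
      omega
    · exact heq
    · exfalso
      have hdvd := (Nat.modEq_iff_dvd' hgt.le).1 h.symm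
      have h7 := Nat.le_of_dvd (by omega) hdvd
      omega
  have hl0 : l = 0 := by
    by_contra hne
    have h1 : 2 ^ l = 2 * 2 ^ (l - 1) := by
      rw [← pow_succ']
      congr 1
      omega
    have h2 : 2 ^ k' = 2 * 2 ^ (k' - 1) := by
      rw [← pow_succ']
      congr 1
      omega
    have q1 : 1 ≤ 2 ^ (l - 1) := Nat.one_le_two_pow
    have q2 : 1 ≤ 2 ^ (k' - 1) := Nat.one_le_two_pow
    rcases Nat.eq_zero_or_pos m with hm0 | hm0
    · rw [hm0, pow_zero] at heq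
      omega
    · have h3 : 2 ^ m = 2 * 2 ^ (m - 1) := by
        rw [← pow_succ']
        congr 1
        omega
      omega
  refine ⟨hl0, ?_⟩
  rw [hl0, pow_zero] at heq
  have : 2 ^ k' = 2 ^ m := by omega
  exact Nat.pow_right_injective (le_refl 2) this

/-- the first congruence modulo `2 ^ n - 1`. -/
theorem hsz_arith_N2_core (n : ℕ) (hn : 2 ≤ n) (i j : ℕ) (hij : i < j) (hj : j < n) :
    ¬ 2 ^ i + 2 ^ j ≡ 1 [MOD 2 ^ n - 1] := by
  intro h
  have h2n : 2 ^ n = 2 * 2 ^ (n - 1) := by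
    rw [← pow_succ']
    congr 1
    omega
  have h2n1 : 2 ^ (n - 1) = 2 * 2 ^ (n - 2) := by
    rw [← pow_succ']
    congr 1
    omega
  have b1 : 2 ^ i ≤ 2 ^ (n - 2) := Nat.pow_le_pow_right (by norm_num) (by omega)
  have b2 : 2 ^ j ≤ 2 ^ (n - 1) := Nat.pow_le_pow_right (by norm_num) (by omega)
  have p1 : 1 ≤ 2 ^ i := Nat.one_le_two_pow
  have p2 : 2 ≤ 2 ^ j := by
    calc 2 = 2 ^ 1 := by norm_num
      _ ≤ 2 ^ j := Nat.pow_le_pow_right (by norm_num) (by omega)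
  have p3 : 1 ≤ 2 ^ (n - 2) := Nat.one_le_two_pow
  have hdvd := (Nat.modEq_iff_dvd' (by omega : 1 ≤ 2 ^ i + 2 ^ j)).1 h.symm
  have h7 := Nat.le_of_dvd (by omega) hdvd
  omega

/-- the property of the second congruence for a modulus `d`. -/
def hsz_arith_P3 (n d : ℕ) : Prop :=
  ∀ l k k' : Fin n, 1 ≤ k.val → 1 ≤ k'.val →
    (2 ^ l.val + 2 ^ k'.val) % d = (1 + 2 ^ ((l.val + k.val) % n)) % d → k = k'

/-- the property of the first congruence for a modulus `d`. -/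
def hsz_arith_P2 (n d : ℕ) : Prop :=
  ∀ i j : Fin n, i.val < j.val → (2 ^ i.val + 2 ^ j.val) % d ≠ 1 % d

instance (n d : ℕ) : Decidable (hsz_arith_P3 n d) := by
  unfold hsz_arith_P3
  infer_instance

instance (n d : ℕ) : Decidable (hsz_arith_P2 n d) := by
  unfold hsz_arith_P2
  infer_instance

theorem hsz_arith_P3_6 : hsz_arith_P3 6 21 := by decide +kernel
theorem hsz_arith_P3_12 : hsz_arith_P3 12 1365 := by decide +kernel
theorem hsz_arith_P3_18a : hsz_arith_P3 18 87381 := by decide +kernel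
theorem hsz_arith_P3_18b : hsz_arith_P3 18 29127 := by decide +kernel
theorem hsz_arith_P3_20 : hsz_arith_P3 20 209715 := by decide +kernel
theorem hsz_arith_P3_21 : hsz_arith_P3 21 299593 := by decide +kernel
theorem hsz_arith_P3_24 : hsz_arith_P3 24 5592405 := by decide +kernel
theorem hsz_arith_P2_6 : hsz_arith_P2 6 21 := by decide +kernel
theorem hsz_arith_P2_12 : hsz_arith_P2 12 1365 := by decide +kernel
theorem hsz_arith_P2_18a : hsz_arith_P2 18 87381 := by decide +kernel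
theorem hsz_arith_P2_18b : hsz_arith_P2 18 29127 := by decide +kernel
theorem hsz_arith_P2_20 : hsz_arith_P2 20 209715 := by decide +kernel
theorem hsz_arith_P2_21 : hsz_arith_P2 21 299593 := by decide +kernel
theorem hsz_arith_P2_24 : hsz_arith_P2 24 5592405 := by decide +kernel

/-- (N3) for all moduli `d = (2 ^ n - 1) / f`, `f ∣ n`. -/
theorem hsz_arith_N3 (n f d : ℕ) (hn : 2 ≤ n) (hfn : f ∣ n) (hfd : f * d = 2 ^ n - 1)
    (l k k' : ℕ) (hl : l < n) (hk : 1 ≤ k) (hkn : k < n) (hk' : 1 ≤ k') (hk'n : k' < n)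
    (h : 2 ^ l + 2 ^ k' ≡ 1 + 2 ^ (l + k) [MOD d]) : k = k' := by
  have hM : d ∣ 2 ^ n - 1 := Dvd.intro_left f hfd
  have hmn : (l + k) % n < n := Nat.mod_lt _ (by omega)
  have h' : 2 ^ l + 2 ^ k' ≡ 1 + 2 ^ ((l + k) % n) [MOD d] :=
    h.trans ((Nat.ModEq.refl 1).add ((hsz_arith_pow_mod n (l + k)).of_dvd hM))
  have fin : (l = 0 ∧ k' = (l + k) % n) → k = k' := by
    rintro ⟨h0, h1⟩
    rw [h0, zero_add, Nat.mod_eq_of_lt hkn] at h1
    exact h1.symm
  have small : hsz_arith_P3 n d → k = k' := by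
    intro H
    have := H ⟨l, hl⟩ ⟨k, hkn⟩ ⟨k', hk'n⟩ hk hk' h'
    exact congrArg Fin.val this
  rcases Nat.lt_or_ge n 25 with h25 | h25
  · rcases hsz_arith_pairs n f d hn h25 hfn hfd with h1 | ⟨rfl, rfl⟩ | ⟨rfl, rfl⟩ | ⟨rfl, rfl⟩ |
      ⟨rfl, rfl⟩ | ⟨rfl, rfl⟩ | ⟨rfl, rfl⟩ | ⟨rfl, rfl⟩
    · rw [h1, one_mul] at hfd
      rw [hfd] at h'
      exact fin (hsz_arith_N3_core n hn l k' _ hl hk' hk'n hmn h')
    · have hd : d = 21 := by norm_num at hfd; omega
      rw [hd] at small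
      exact small hsz_arith_P3_6
    · have hd : d = 1365 := by norm_num at hfd; omega
      rw [hd] at small
      exact small hsz_arith_P3_12
    · have hd : d = 87381 := by norm_num at hfd; omega
      rw [hd] at small
      exact small hsz_arith_P3_18a
    · have hd : d = 29127 := by norm_num at hfd; omega
      rw [hd] at small
      exact small hsz_arith_P3_18b
    · have hd : d = 209715 := by norm_num at hfd; omega
      rw [hd] at small
      exact small hsz_arith_P3_20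
    · have hd : d = 299593 := by norm_num at hfd; omega
      rw [hd] at small
      exact small hsz_arith_P3_21
    · have hd : d = 5592405 := by norm_num at hfd; omega
      rw [hd] at small
      exact small hsz_arith_P3_24
  · have hfle : f ≤ n := Nat.le_of_dvd (by omega) hfn
    have h2 : 2 ^ (![l, k', 0, (l + k) % n] 0) + 2 ^ (![l, k', 0, (l + k) % n] 1) ≡
        2 ^ (![l, k', 0, (l + k) % n] 2) + 2 ^ (![l, k', 0, (l + k) % n] 3) [MOD d] := by
      simpa using h'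
    have h3 := hsz_arith_lift n f d h25 hfle hfd ![l, k', 0, (l + k) % n] (by
      intro t
      fin_cases t
      · exact hl
      · exact hk'n
      · show 0 < n
        omega
      · exact hmn) h2
    have h4 : 2 ^ l + 2 ^ k' ≡ 1 + 2 ^ ((l + k) % n) [MOD 2 ^ n - 1] := by
      simpa using h3
    exact fin (hsz_arith_N3_core n hn l k' _ hl hk' hk'n hmn h4)

/-- (N2) for all moduli `d = (2 ^ n - 1) / f`, `f ∣ n`. -/
theorem hsz_arith_N2 (n f d : ℕ) (hn : 2 ≤ n) (hfn : f ∣ n) (hfd : f * d = 2 ^ n - 1)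
    (i j : ℕ) (hij : i < j) (hj : j < n) : ¬ 2 ^ i + 2 ^ j ≡ 1 [MOD d] := by
  intro h
  have small : ¬ hsz_arith_P2 n d := by
    intro H
    exact H ⟨i, by omega⟩ ⟨j, hj⟩ hij h
  rcases Nat.lt_or_ge n 25 with h25 | h25
  · rcases hsz_arith_pairs n f d hn h25 hfn hfd with h1 | ⟨rfl, rfl⟩ | ⟨rfl, rfl⟩ | ⟨rfl, rfl⟩ |
      ⟨rfl, rfl⟩ | ⟨rfl, rfl⟩ | ⟨rfl, rfl⟩ | ⟨rfl, rfl⟩
    · rw [h1, one_mul] at hfd
      rw [hfd] at h
      exact hsz_arith_N2_core n hn i j hij hj h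
    · have hd : d = 21 := by norm_num at hfd; omega
      rw [hd] at small
      exact small hsz_arith_P2_6
    · have hd : d = 1365 := by norm_num at hfd; omega
      rw [hd] at small
      exact small hsz_arith_P2_12
    · have hd : d = 87381 := by norm_num at hfd; omega
      rw [hd] at small
      exact small hsz_arith_P2_18a
    · have hd : d = 29127 := by norm_num at hfd; omega
      rw [hd] at small
      exact small hsz_arith_P2_18b
    · have hd : d = 209715 := by norm_num at hfd; omega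
      rw [hd] at small
      exact small hsz_arith_P2_20
    · have hd : d = 299593 := by norm_num at hfd; omega
      rw [hd] at small
      exact small hsz_arith_P2_21
    · have hd : d = 5592405 := by norm_num at hfd; omega
      rw [hd] at small
      exact small hsz_arith_P2_24
  · have hfle : f ≤ n := Nat.le_of_dvd (by omega) hfn
    -- write `1 = 2 ^ 0 + 2 ^ 0 - 1`: double the congruence
    have hM : d ∣ 2 ^ n - 1 := Dvd.intro_left f hfd
    have h1 : 2 ^ (i + 1) + 2 ^ ((j + 1) % n) ≡ 2 ^ 0 + 2 ^ 0 [MOD d] := by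
      have h2 : 2 * (2 ^ i + 2 ^ j) ≡ 2 * 1 [MOD d] := h.mul_left 2
      have h3 : 2 * (2 ^ i + 2 ^ j) = 2 ^ (i + 1) + 2 ^ (j + 1) := by ring
      rw [h3] at h2
      have h4 : 2 ^ (j + 1) ≡ 2 ^ ((j + 1) % n) [MOD d] :=
        (hsz_arith_pow_mod n (j + 1)).of_dvd hM
      exact ((Nat.ModEq.refl _).add h4.symm).trans h2
    have h2 : 2 ^ (![i + 1, (j + 1) % n, 0, 0] 0) + 2 ^ (![i + 1, (j + 1) % n, 0, 0] 1) ≡
        2 ^ (![i + 1, (j + 1) % n, 0, 0] 2) + 2 ^ (![i + 1, (j + 1) % n, 0, 0] 3) [MOD d] := by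
      simpa using h1
    have h3 := hsz_arith_lift n f d h25 hfle hfd ![i + 1, (j + 1) % n, 0, 0] (by
      intro t
      fin_cases t
      · show i + 1 < n
        omega
      · exact Nat.mod_lt _ (by omega)
      · show 0 < n
        omega
      · show 0 < n
        omega) h2
    have h4 : 2 ^ (i + 1) + 2 ^ ((j + 1) % n) ≡ 2 [MOD 2 ^ n - 1] := by
      simpa using h3
    have h5 : 2 * (2 ^ i + 2 ^ j) ≡ 2 * 1 [MOD 2 ^ n - 1] := by
      have h6 : 2 * (2 ^ i + 2 ^ j) = 2 ^ (i + 1) + 2 ^ (j + 1) := by ring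
      rw [h6]
      exact ((Nat.ModEq.refl _).add (hsz_arith_pow_mod n (j + 1))).trans h4
    have hcop : Nat.gcd (2 ^ n - 1) 2 = 1 := by
      have h2n : 2 ^ n = 2 * 2 ^ (n - 1) := by
        rw [← pow_succ']
        congr 1
        omega
      have h7 : 1 ≤ 2 ^ (n - 1) := Nat.one_le_two_pow
      have h8 : Nat.Coprime 2 (2 ^ n - 1) := by
        rw [Nat.coprime_two_left, h2n]
        exact ⟨2 ^ (n - 1) - 1, by omega⟩
      exact h8.symm
    exact hsz_arith_N2_core n hn i j hij hj (Nat.ModEq.cancel_left_of_coprime hcop h5)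

/-- the divisibility form of (N2). -/
theorem hsz_arith_N2_dvd (n f d : ℕ) (hn : 2 ≤ n) (hfn : f ∣ n) (hfd : f * d = 2 ^ n - 1)
    (i j : ℕ) (hij : i < j) (hj : j < n) : ¬ d ∣ 2 ^ i + 2 ^ j - 1 := by
  intro h
  apply hsz_arith_N2 n f d hn hfn hfd i j hij hj
  have p1 : 1 ≤ 2 ^ i := Nat.one_le_two_pow
  have p2 : 1 ≤ 2 ^ j := Nat.one_le_two_pow
  exact ((Nat.modEq_iff_dvd' (by omega : 1 ≤ 2 ^ i + 2 ^ j)).2 h).symm

/-- `n * n + 1 < 2 ^ n` for `n ≥ 5`. -/
theorem hsz_arith_sq_lt (n : ℕ) (hn : 5 ≤ n) : n * n + 1 < 2 ^ n := by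
  induction n, hn using Nat.le_induction with
  | base => norm_num
  | succ n hn ih =>
    rw [pow_succ]
    nlinarith

/-- the order of the scalars is larger than `n`. -/
theorem hsz_arith_d_gt (n f d : ℕ) (hn : 2 ≤ n) (hfn : f ∣ n) (hfd : f * d = 2 ^ n - 1) :
    n < d := by
  rcases Nat.lt_or_ge n 5 with h5 | h5
  · rcases hsz_arith_pairs n f d hn (by omega) hfn hfd with h1 | h | h | h | h | h | h | h
    · rw [h1, one_mul] at hfd
      rw [hfd]
      have : n + 1 < 2 ^ n := by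
        interval_cases n <;> norm_num
      omega
    all_goals omega
  · have hfle : f ≤ n := Nat.le_of_dvd (by omega) hfn
    have h1 := hsz_arith_sq_lt n h5
    by_contra hle
    push Not at hle
    have h2 : f * d ≤ n * n := Nat.mul_le_mul hfle hle
    omega

/-- the square of the order of the scalars is larger than `2 ^ n - 1`. -/
theorem hsz_arith_dd_gt (n f d : ℕ) (hn : 2 ≤ n) (hfn : f ∣ n) (hfd : f * d = 2 ^ n - 1) :
    2 ^ n - 1 < d * d := by
  have h1 := hsz_arith_d_gt n f d hn hfn hfd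
  have hfle : f ≤ n := Nat.le_of_dvd (by omega) hfn
  have hdpos : 0 < d := by omega
  calc 2 ^ n - 1 = f * d := hfd.symm
    _ ≤ n * d := Nat.mul_le_mul_right _ hfle
    _ < d * d := Nat.mul_lt_mul_of_pos_right h1 hdpos

end Cfsg.Agent.HSz
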