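import Mathlib
import Cfsg.Prelude.Def_Local

set_option autoImplicit false

/-!
The hypotheses and the conclusion of the theorem of Shaw on finite solvable groups with one class
of involutions (statement S3797), as predicates on a group and a Sylow 2-subgroup.
-/

namespace Cfsg.Agent.HSz

universe u

/-- the conclusion of S3797 for a group `G` and a Sylow 2-subgroup `S`. -/
def hsz_Concl (G : Type u) [Group G] (S : Sylow 2 G) : Prop :=
  Cfsg.PLengthLE 2 1 G ∧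
    ((∃ m r : ℕ, Nonempty (↥(S : Subgroup G) ≃* (Fin r → Multiplicative (ZMod (2 ^ m))))) ∨
      (¬ IsMulCommutative (S : Subgroup G) ∧ ∃ Y : Subgroup (MulAut ↥(S : Subgroup G)),
        Group.IsSolvable Y ∧ ∀ x y : ↥(S : Subgroup G), x ≠ 1 → x ^ 2 = 1 → y ≠ 1 → y ^ 2 = 1 →
          ∃ a ∈ Y, a x = y))

/-- the hypotheses of S3797 on `G` and `S` besides solvability. -/
def hsz_HypG (G : Type u) [Group G] (S : Sylow 2 G) : Prop :=
  Even (Nat.card G) ∧
    (∃ x y : G, x ∈ (S : Subgroup G) ∧ y ∈ (S : Subgroup G) ∧ x ≠ y ∧ x ≠ 1 ∧ x ^ 2 = 1 ∧ y ≠ 1 ∧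
      y ^ 2 = 1) ∧
    ∀ x y : G, x ≠ 1 → x ^ 2 = 1 → y ≠ 1 → y ^ 2 = 1 → IsConj x y

end Cfsg.Agent.HSz
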