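import Mathlib

set_option autoImplicit false

/-!
Definitions for the theorem of Higman and Shaw on 2-groups with a solvable group of automorphisms
that is transitive on the involutions (statements S3776 and S3797): the class of pairs of a
2-group `G` whose elements of order at most two form a central subgroup, and a group `A` acting
on `G` and transitive on the involutions; restriction of the action to invariant subgroups and
the induced action on quotients; the coordinate facts about a group acting transitively on the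
nonzero elements of an elementary abelian 2-group.
-/

namespace Cfsg.Agent.HSz

open Subgroup
open scoped commutatorElement

variable {A : Type*} [Group A] {G : Type*} [Group G]

/-- the subgroup `X` is invariant under the action. -/
def hsz_Inv (ρ : A →* MulAut G) (X : Subgroup G) : Prop := ∀ a : A, ∀ x : G, x ∈ X → ρ a x ∈ X

/-- the action restricted to an invariant subgroup. -/
def hsz_res (ρ : A →* MulAut G) (X : Subgroup G) (hX : hsz_Inv ρ X) : A →* MulAut X where
  toFun a :=
    { toFun := fun x => ⟨ρ a x, hX a x x.2⟩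
      invFun := fun x => ⟨ρ a⁻¹ x, hX a⁻¹ x x.2⟩
      left_inv := by
        intro x
        apply Subtype.ext
        show ρ a⁻¹ (ρ a x) = x
        rw [← MulAut.mul_apply, ← map_mul, inv_mul_cancel, map_one, MulAut.one_apply]
      right_inv := by
        intro x
        apply Subtype.ext
        show ρ a (ρ a⁻¹ x) = x
        rw [← MulAut.mul_apply, ← map_mul, mul_inv_cancel, map_one, MulAut.one_apply]
      map_mul' := by
        intro x y
        apply Subtype.ext
        show ρ a (x * y) = ρ a x * ρ a y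
        rw [map_mul] }
  map_one' := by
    apply MulEquiv.ext
    intro x
    apply Subtype.ext
    show ρ 1 x = x
    rw [map_one, MulAut.one_apply]
  map_mul' := by
    intro a b
    apply MulEquiv.ext
    intro x
    apply Subtype.ext
    show ρ (a * b) x = ρ a (ρ b x)
    rw [map_mul, MulAut.mul_apply]

@[simp]
theorem hsz_res_coe (ρ : A →* MulAut G) (X : Subgroup G) (hX : hsz_Inv ρ X) (a : A) (x : X) :
    ((hsz_res ρ X hX a x : X) : G) = ρ a x := rfl

/-- an invariant subgroup is mapped onto itself. -/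
theorem hsz_Inv_map (ρ : A →* MulAut G) (X : Subgroup G) (hX : hsz_Inv ρ X) (a : A) :
    X.map (ρ a).toMonoidHom = X := by
  apply le_antisymm
  · rintro _ ⟨x, hx, rfl⟩
    exact hX a x hx
  · intro x hx
    refine ⟨ρ a⁻¹ x, hX a⁻¹ x hx, ?_⟩
    show ρ a (ρ a⁻¹ x) = x
    rw [← MulAut.mul_apply, ← map_mul, mul_inv_cancel, map_one, MulAut.one_apply]

/-- the action induced on the quotient by an invariant normal subgroup. -/
def hsz_quo (ρ : A →* MulAut G) (N : Subgroup G) [N.Normal] (hN : hsz_Inv ρ N) :
    A →* MulAut (G ⧸ N) where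
  toFun a := QuotientGroup.congr N N (ρ a) (hsz_Inv_map ρ N hN a)
  map_one' := by
    apply MulEquiv.ext
    intro x
    induction x using QuotientGroup.induction_on with
    | H x =>
      show ((ρ 1 x : G) : G ⧸ N) = (x : G ⧸ N)
      rw [map_one, MulAut.one_apply]
  map_mul' := by
    intro a b
    apply MulEquiv.ext
    intro x
    induction x using QuotientGroup.induction_on with
    | H x =>
      show ((ρ (a * b) x : G) : G ⧸ N) = ((ρ a (ρ b x) : G) : G ⧸ N)
      rw [map_mul, MulAut.mul_apply]

@[simp]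
theorem hsz_quo_mk (ρ : A →* MulAut G) (N : Subgroup G) [N.Normal] (hN : hsz_Inv ρ N) (a : A)
    (x : G) : hsz_quo ρ N hN a (x : G ⧸ N) = ((ρ a x : G) : G ⧸ N) := rfl

/-- the class: a finite 2-group whose elements of order at most two are central, with at least
two involutions, and an action that is transitive on the involutions. -/
structure hsz_C (ρ : A →* MulAut G) : Prop where
  fin : Finite G
  pg : IsPGroup 2 G
  cent : ∀ x : G, x ^ 2 = 1 → x ∈ center G
  four : ∃ x y : G, x ≠ y ∧ x ≠ 1 ∧ x ^ 2 = 1 ∧ y ≠ 1 ∧ y ^ 2 = 1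
  trans : ∀ x y : G, x ≠ 1 → x ^ 2 = 1 → y ≠ 1 → y ^ 2 = 1 → ∃ a : A, ρ a x = y

/-- the subgroup of the central elements of order at most two. -/
def hsz_V (G : Type*) [Group G] : Subgroup G where
  carrier := {x | x ∈ center G ∧ x ^ 2 = 1}
  mul_mem' := by
    rintro x y ⟨hx, hx2⟩ ⟨hy, hy2⟩
    refine ⟨mul_mem hx hy, ?_⟩
    have hc : Commute x y := (mem_center_iff.1 hx y).symm
    rw [hc.mul_pow, hx2, hy2, one_mul]
  one_mem' := ⟨one_mem _, one_pow 2⟩
  inv_mem' := by
    rintro x ⟨hx, hx2⟩
    exact ⟨inv_mem hx, by rw [inv_pow, hx2, inv_one]⟩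

theorem hsz_mem_V {x : G} : x ∈ hsz_V G ↔ x ∈ center G ∧ x ^ 2 = 1 := Iff.rfl

theorem hsz_V_le_center (G : Type*) [Group G] : hsz_V G ≤ center G := fun _ hx => hx.1

/-- the subgroup `V` is normal. -/
instance hsz_V_normal (G : Type*) [Group G] : (hsz_V G).Normal := by
  constructor
  intro x hx g
  have h1 : g * x * g⁻¹ = x := by
    rw [(mem_center_iff.1 hx.1 g), mul_assoc, mul_inv_cancel, mul_one]
  rw [h1]
  exact hx

/-- the subgroup `V` is commutative. -/
instance hsz_V_commGroup (G : Type*) [Group G] : CommGroup (hsz_V G) :=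
  { (hsz_V G).toGroup with
    mul_comm := fun x y => Subtype.ext (mem_center_iff.1 y.2.1 x) }

/-- in the class the subgroup `V` is the set of the elements of order at most two. -/
theorem hsz_C.mem_V {ρ : A →* MulAut G} (h : hsz_C ρ) {x : G} : x ∈ hsz_V G ↔ x ^ 2 = 1 :=
  ⟨fun hx => hx.2, fun hx => ⟨h.cent x hx, hx⟩⟩

/-- good: the centre is `V` and the quotient by `V` is elementary abelian. -/
def hsz_Good (G : Type*) [Group G] : Prop :=
  (∀ x : G, x ∈ center G → x ^ 2 = 1) ∧ (∀ x : G, (x ^ 2) ^ 2 = 1) ∧ ∀ x y : G, ⁅x, y⁆ ^ 2 = 1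

/-- an action on an elementary abelian 2-group (written additively) with at least four elements
that is transitive on the nonzero elements. -/
structure hsz_T {W : Type*} [AddCommGroup W] (act : A →* AddMonoid.End W) : Prop where
  fin : Finite W
  two : ∀ w : W, w + w = 0
  four : ∃ x y : W, x ≠ y ∧ x ≠ 0 ∧ y ≠ 0
  trans : ∀ x y : W, x ≠ 0 → y ≠ 0 → ∃ a : A, act a x = y

/-- the conjugation action on the additive endomorphisms. -/
def hsz_cj {W : Type*} [AddCommGroup W] (act : A →* AddMonoid.End W) (a : A) (φ : W →+ W) : W →+ W :=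
  (act a : W →+ W).comp (φ.comp (act a⁻¹ : W →+ W))

@[simp]
theorem hsz_cj_apply {W : Type*} [AddCommGroup W] (act : A →* AddMonoid.End W) (a : A) (φ : W →+ W)
    (w : W) : hsz_cj act a φ w = act a (φ (act a⁻¹ w)) := rfl

/-- (K1): there is no nonzero alternating biadditive equivariant map. -/
def hsz_K1 {W : Type*} [AddCommGroup W] (act : A →* AddMonoid.End W) : Prop :=
  ∀ b : W →+ W →+ W, (∀ x, b x x = 0) → (∀ a x y, b (act a x) (act a y) = act a (b x y)) →
    ∀ x y, b x y = 0

/-- (CI-3) and (K3) for an element `ξ` and a number `d`: `ξ ^ j` fixes a nonzero vector only if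
`d ∣ j`, in which case it is trivial; `d * d` exceeds the number of nonzero vectors; and every
additive subgroup of the endomorphisms that is invariant under conjugation, irreducible, and
without nonzero fixed point of `ξ` consists of zero and of injective endomorphisms. -/
def hsz_K3 {W : Type*} [AddCommGroup W] (act : A →* AddMonoid.End W) (ξ : A) (d : ℕ) : Prop :=
  (∀ j : ℕ, (∃ w : W, w ≠ 0 ∧ act (ξ ^ j) w = w) → d ∣ j) ∧
  (∀ j : ℕ, d ∣ j → ∀ w : W, act (ξ ^ j) w = w) ∧
  Nat.card W - 1 < d * d ∧
  ∀ T : AddSubgroup (W →+ W), (∀ a : A, ∀ φ ∈ T, hsz_cj act a φ ∈ T) →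
    (∀ T' : AddSubgroup (W →+ W), T' ≤ T → (∀ a : A, ∀ φ ∈ T', hsz_cj act a φ ∈ T') →
      T' = ⊥ ∨ T' = T) →
    (∀ φ ∈ T, hsz_cj act ξ φ = φ → φ = 0) →
    ∀ φ ∈ T, φ ≠ 0 → Function.Injective φ

/-- the coordinate facts for all transitive actions of `A` on elementary abelian 2-groups of a
universe. -/
def hsz_Hyp.{u, v} (A : Type v) [Group A] : Prop :=
  ∀ (W : Type u) [AddCommGroup W] (act : A →* AddMonoid.End W), hsz_T act →
    hsz_K1 act ∧ ∃ ξ : A, ∃ d : ℕ, hsz_K3 act ξ d

/-- coordinates: the module is the additive group of a finite field of `2 ^ n` elements on which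
every `a` acts as `x ↦ c a * x ^ (2 ^ s a)`; the element `ξ` acts as the scalar `c ξ` of order `d`,
and the index `f` of `d` in `2 ^ n - 1` divides `n`. -/
def hsz_Coord {W : Type*} [AddCommGroup W] (act : A →* AddMonoid.End W) (ξ : A) (d : ℕ) : Prop :=
  ∃ (F : Type) (_ : Field F) (_ : Fintype F) (e : W ≃+ F) (c : A → F) (s : A → ℕ) (n f : ℕ),
    CharP F 2 ∧ Fintype.card F = 2 ^ n ∧ 2 ≤ n ∧ (∀ a, c a ≠ 0) ∧
    (∀ a w, e (act a w) = c a * e w ^ 2 ^ s a) ∧ s ξ = 0 ∧ orderOf (c ξ) = d ∧ f ∣ n ∧
    f * d = 2 ^ n - 1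

/-- the subgroup `V` is invariant under every action. -/
theorem hsz_Inv_V (ρ : A →* MulAut G) : hsz_Inv ρ (hsz_V G) := by
  rintro a x ⟨hx, hx2⟩
  refine ⟨?_, by rw [← map_pow, hx2, map_one]⟩
  rw [mem_center_iff] at hx ⊢
  intro g
  have h1 : g = ρ a (ρ a⁻¹ g) := by
    rw [← MulAut.mul_apply, ← map_mul, mul_inv_cancel, map_one, MulAut.one_apply]
  rw [h1, ← map_mul, ← map_mul, hx]

/-- the action on `V`, written additively. -/
def hsz_actV (ρ : A →* MulAut G) : A →* AddMonoid.End (Additive (hsz_V G)) where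
  toFun a := MonoidHom.toAdditive ((hsz_res ρ (hsz_V G) (hsz_Inv_V ρ) a).toMonoidHom)
  map_one' := by
    apply AddMonoidHom.ext
    intro x
    show Additive.ofMul (hsz_res ρ (hsz_V G) (hsz_Inv_V ρ) 1 (Additive.toMul x)) = x
    rw [map_one]
    rfl
  map_mul' := by
    intro a b
    apply AddMonoidHom.ext
    intro x
    show Additive.ofMul (hsz_res ρ (hsz_V G) (hsz_Inv_V ρ) (a * b) (Additive.toMul x)) =
      Additive.ofMul (hsz_res ρ (hsz_V G) (hsz_Inv_V ρ) a
        (hsz_res ρ (hsz_V G) (hsz_Inv_V ρ) b (Additive.toMul x)))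
    rw [map_mul]
    rfl

@[simp]
theorem hsz_actV_apply (ρ : A →* MulAut G) (a : A) (x : Additive (hsz_V G)) :
    ((Additive.toMul (hsz_actV ρ a x) : hsz_V G) : G) = ρ a ((Additive.toMul x : hsz_V G) : G) :=
  rfl

/-- the action on `V` of a member of the class is transitive on the nonzero elements. -/
theorem hsz_T_of_C {ρ : A →* MulAut G} (h : hsz_C ρ) : hsz_T (hsz_actV ρ) := by
  haveI := h.fin
  refine ⟨inferInstance, ?_, ?_, ?_⟩
  · intro w
    have : (Additive.toMul w : hsz_V G) * Additive.toMul w = 1 := by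
      apply Subtype.ext
      have := (Additive.toMul w : hsz_V G).2.2
      rw [pow_two] at this
      exact this
    exact congrArg Additive.ofMul this
  · obtain ⟨x, y, hxy, hx1, hx2, hy1, hy2⟩ := h.four
    refine ⟨Additive.ofMul ⟨x, h.mem_V.2 hx2⟩, Additive.ofMul ⟨y, h.mem_V.2 hy2⟩, ?_, ?_, ?_⟩
    · intro he
      apply hxy
      exact congrArg (fun z : Additive (hsz_V G) => ((Additive.toMul z : hsz_V G) : G)) he
    · intro he
      apply hx1
      exact congrArg (fun z : Additive (hsz_V G) => ((Additive.toMul z : hsz_V G) : G)) he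
    · intro he
      apply hy1
      exact congrArg (fun z : Additive (hsz_V G) => ((Additive.toMul z : hsz_V G) : G)) he
  · intro x y hx hy
    have hx1 : ((Additive.toMul x : hsz_V G) : G) ≠ 1 := by
      intro he
      apply hx
      have : (Additive.toMul x : hsz_V G) = 1 := Subtype.ext he
      exact congrArg Additive.ofMul this
    have hy1 : ((Additive.toMul y : hsz_V G) : G) ≠ 1 := by
      intro he
      apply hy
      have : (Additive.toMul y : hsz_V G) = 1 := Subtype.ext he
      exact congrArg Additive.ofMul this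
    obtain ⟨a, ha⟩ := h.trans _ _ hx1 (Additive.toMul x : hsz_V G).2.2 hy1
      (Additive.toMul y : hsz_V G).2.2
    refine ⟨a, ?_⟩
    have : (Additive.toMul (hsz_actV ρ a x) : hsz_V G) = Additive.toMul y := Subtype.ext ha
    exact congrArg Additive.ofMul this

end Cfsg.Agent.HSz
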