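import Mathlib
import Cfsg.Agent.HSz.Defs
import Cfsg.Agent.Helper5.HupFinal

set_option autoImplicit false
set_option linter.unusedVariables false
set_option linter.style.haveILetI false
set_option linter.unusedSectionVars false

/-!
Coordinates for a finite solvable group acting transitively on the nonzero elements of an
elementary abelian 2-group (package `Coord` of the proof of S3776 and S3797): by the theorem of
Huppert (S3360) the module is the additive group of a finite field on which the group acts by
semilinear maps of degree one; every field automorphism is a power of the squaring map; the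
elements acting as scalars give a cyclic group of scalars whose index in the multiplicative
group divides the degree of the field.
-/

namespace Cfsg.Agent.HSz

universe u v

/-- every element of the acting group is bijective on the module: left inverse. -/
theorem hsz_coord_act_inv_act {A : Type v} [Group A] {W : Type u} [AddCommGroup W]
    (act : A →* AddMonoid.End W) (a : A) (w : W) : act a⁻¹ (act a w) = w := by
  have h : act a⁻¹ * act a = 1 := by rw [← map_mul, inv_mul_cancel, map_one]
  exact DFunLike.congr_fun h w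

/-- every element of the acting group is bijective on the module: right inverse. -/
theorem hsz_coord_act_act_inv {A : Type v} [Group A] {W : Type u} [AddCommGroup W]
    (act : A →* AddMonoid.End W) (a : A) (w : W) : act a (act a⁻¹ w) = w := by
  have h : act a * act a⁻¹ = 1 := by rw [← map_mul, mul_inv_cancel, map_one]
  exact DFunLike.congr_fun h w

/-- the action as a homomorphism into the linear automorphisms over the field of two elements. -/
noncomputable def hsz_coord_rho {A : Type v} [Group A] {W : Type u} [AddCommGroup W]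
    [Module (ZMod 2) W] (act : A →* AddMonoid.End W) : A →* (W ≃ₗ[ZMod 2] W) :=
  MonoidHom.mk'
    (fun a => LinearEquiv.ofLinearMap ((act a : W →+ W).toZModLinearMap 2)
      ((act a⁻¹ : W →+ W).toZModLinearMap 2)
      (by
        apply LinearMap.ext
        intro w
        exact hsz_coord_act_act_inv act a w)
      (by
        apply LinearMap.ext
        intro w
        exact hsz_coord_act_inv_act act a w))
    (by
      intro a b
      apply LinearEquiv.ext
      intro w
      show act (a * b) w = act a (act b w)
      rw [map_mul]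
      rfl)

theorem hsz_coord_rho_apply {A : Type v} [Group A] {W : Type u} [AddCommGroup W]
    [Module (ZMod 2) W] (act : A →* AddMonoid.End W) (a : A) (w : W) :
    hsz_coord_rho act a w = act a w := rfl

/-- the semilinear coordinates given by the theorem of Huppert. -/
theorem hsz_coord_semilinear {A : Type v} [Group A] [Finite A] (hsol : Group.IsSolvable A)
    {W : Type u} [AddCommGroup W] (act : A →* AddMonoid.End W) (ht : hsz_T act) :
    ∃ (F : Type) (_ : Field F) (_ : Fintype F) (e : W ≃+ F),
      ∀ a : A, ∃ (c : F) (σ : F ≃+* F), ∀ w : W, e (act a w) = c * σ (e w) := by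
  haveI := ht.fin
  letI : Module (ZMod 2) W := AddCommGroup.zmodModule (n := 2) (by
    intro x
    rw [two_nsmul]
    exact ht.two x)
  obtain ⟨x0, y0, hxy, hx0, hy0⟩ := ht.four
  haveI : Nontrivial W := ⟨⟨x0, 0, hx0⟩⟩
  let ρ := hsz_coord_rho act
  let G : Subgroup (W ≃ₗ[ZMod 2] W) := ρ.range
  haveI : Finite G := Finite.of_surjective ρ.rangeRestrict ρ.rangeRestrict_surjective
  haveI : Group.IsSolvable G := Group.isSolvable_of_surjective ρ.rangeRestrict_surjective
  have htrans : ∀ v w : W, v ≠ 0 → w ≠ 0 → ∃ g : G, G.subtype g v = w := by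
    intro v w hv hw
    obtain ⟨a, ha⟩ := ht.trans v w hv hw
    exact ⟨⟨ρ a, a, rfl⟩, ha⟩
  rcases Cfsg.Agent.Helper5.Hup.huppert (q := 2) (V := W) (G := G) inferInstance G.subtype
    Subtype.val_injective htrans with ⟨F, iF, iFt, e, he⟩ | hcard
  · refine ⟨F, iF, iFt, e, ?_⟩
    intro a
    obtain ⟨c, σ, h⟩ := he ⟨ρ a, a, rfl⟩
    exact ⟨c, σ, h⟩
  · exfalso
    have h2 : 2 ∣ Nat.card W := by
      have h1 : addOrderOf x0 = 2 := by
        apply addOrderOf_eq_prime
        · rw [two_nsmul]
          exact ht.two x0
        · exact hx0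
      rw [← h1]
      exact addOrderOf_dvd_natCard x0
    simp only [Set.mem_insert_iff, Set.mem_singleton_iff] at hcard
    omega

/-- a field all of whose elements have additive order at most two has characteristic two. -/
theorem hsz_coord_charP {F : Type*} [Field F] (h : ∀ x : F, x + x = 0) : CharP F 2 :=
  CharTwo.of_one_ne_zero_of_two_eq_zero one_ne_zero (by
    rw [← one_add_one_eq_two]
    exact h 1)

/-- the powers of the squaring automorphism of a finite field of characteristic two. -/
theorem hsz_coord_frob_pow_apply {F : Type*} [Field F] [Finite F] [Algebra (ZMod 2) F] (k : ℕ)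
    (x : F) : (FiniteField.frobeniusAlgEquivOfAlgebraic (ZMod 2) F ^ k) x = x ^ 2 ^ k := by
  rw [AlgEquiv.coe_pow, FiniteField.coe_frobeniusAlgEquivOfAlgebraic_iterate, ZMod.card]

/-- every automorphism of a finite field of characteristic two is a power of the squaring map. -/
theorem hsz_coord_aut {F : Type*} [Field F] [Finite F] [Algebra (ZMod 2) F] (σ : F ≃+* F) :
    ∃ k, k < Module.finrank (ZMod 2) F ∧ ∀ x, σ x = x ^ 2 ^ k := by
  have hcomm : ∀ r : ZMod 2, σ (algebraMap (ZMod 2) F r) = algebraMap (ZMod 2) F r := by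
    intro r
    have h : (σ : F →+* F).comp (algebraMap (ZMod 2) F) = algebraMap (ZMod 2) F :=
      Subsingleton.elim _ _
    exact RingHom.congr_fun h r
  obtain ⟨k, hk⟩ := (FiniteField.bijective_frobeniusAlgEquivOfAlgebraic_pow (ZMod 2) F).2
    (AlgEquiv.ofRingEquiv (f := σ) hcomm)
  refine ⟨k.1, k.2, fun x => ?_⟩
  have h := DFunLike.congr_fun hk x
  rw [hsz_coord_frob_pow_apply] at h
  rw [h]
  rfl

/-- two powers of the squaring automorphism with exponents below the degree agree only if the
exponents agree. -/
theorem hsz_coord_frob_pow_inj {F : Type*} [Field F] [Finite F] [Algebra (ZMod 2) F] {k l : ℕ}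
    (hk : k < Module.finrank (ZMod 2) F) (hl : l < Module.finrank (ZMod 2) F)
    (h : FiniteField.frobeniusAlgEquivOfAlgebraic (ZMod 2) F ^ k =
      FiniteField.frobeniusAlgEquivOfAlgebraic (ZMod 2) F ^ l) : k = l := by
  have := (FiniteField.bijective_frobeniusAlgEquivOfAlgebraic_pow (ZMod 2) F).1
    (a₁ := ⟨k, hk⟩) (a₂ := ⟨l, hl⟩) h
  exact congrArg Fin.val this

/-- coordinates from the theorem of Huppert. -/
theorem hsz_coord_exists {A : Type v} [Group A] [Finite A] (hsol : Group.IsSolvable A)
    {W : Type u} [AddCommGroup W] (act : A →* AddMonoid.End W) (ht : hsz_T act) :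
    ∃ ξ : A, ∃ d : ℕ, hsz_Coord act ξ d := by
  classical
  obtain ⟨F, iF, iFt, e, he⟩ := hsz_coord_semilinear hsol act ht
  haveI := ht.fin
  obtain ⟨x0, y0, hxy, hx0, hy0⟩ := ht.four
  have hF2 : ∀ x : F, x + x = 0 := by
    intro x
    obtain ⟨w, rfl⟩ := e.surjective x
    rw [← map_add, ht.two, map_zero]
  haveI : CharP F 2 := hsz_coord_charP hF2
  letI : Algebra (ZMod 2) F := ZMod.algebra F 2
  set n := Module.finrank (ZMod 2) F with hn
  have hcard : Fintype.card F = 2 ^ n := by
    rw [Module.card_eq_pow_finrank (K := ZMod 2) (V := F), ZMod.card]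
  have hn2 : 2 ≤ n := by
    have h3 : 2 < Fintype.card F := by
      rw [Fintype.two_lt_card_iff]
      refine ⟨e x0, e y0, 0, ?_, ?_, ?_⟩
      · exact fun h => hxy (e.injective h)
      · exact fun h => hx0 (e.injective (h.trans (map_zero e).symm))
      · exact fun h => hy0 (e.injective (h.trans (map_zero e).symm))
    rw [hcard] at h3
    by_contra hlt
    have : n = 0 ∨ n = 1 := by omega
    rcases this with h | h <;> rw [h] at h3 <;> omega
  have hn0 : 0 < n := by omega
  -- the coordinates of the elements of the group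
  have hex : ∀ a : A, ∃ (c : F) (k : ℕ), k < n ∧ ∀ w : W, e (act a w) = c * e w ^ 2 ^ k := by
    intro a
    obtain ⟨c, σ, h⟩ := he a
    obtain ⟨k, hk, hσ⟩ := hsz_coord_aut σ
    exact ⟨c, k, hk, fun w => by rw [h, hσ]⟩
  choose c s hs hcs using hex
  have hc : ∀ a, c a ≠ 0 := by
    intro a h0
    apply hx0
    have h1 : act a x0 = 0 := by
      apply e.injective
      rw [hcs, h0, zero_mul, map_zero]
    rw [← hsz_coord_act_inv_act act a x0, h1, map_zero]
  -- the composition rule
  have hrel : ∀ (a b : A) (x : F),
      c (a * b) * x ^ 2 ^ s (a * b) = c a * c b ^ 2 ^ s a * (x ^ 2 ^ s b) ^ 2 ^ s a := by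
    intro a b x
    obtain ⟨w, rfl⟩ := e.surjective x
    rw [← hcs (a * b) w]
    have h1 : act (a * b) w = act a (act b w) := by
      rw [map_mul]
      rfl
    rw [h1, hcs a, hcs b, mul_pow, mul_assoc]
  have hcmul : ∀ a b : A, c (a * b) = c a * c b ^ 2 ^ s a := by
    intro a b
    have h := hrel a b 1
    simpa using h
  have hsmul : ∀ (a b : A) (x : F), x ^ 2 ^ s (a * b) = (x ^ 2 ^ s b) ^ 2 ^ s a := by
    intro a b x
    have h := hrel a b x
    rw [← hcmul a b] at h
    exact mul_left_cancel₀ (hc (a * b)) h
  -- the homomorphism to the automorphisms of the field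
  let Sg : A →* (F ≃ₐ[ZMod 2] F) :=
    MonoidHom.mk' (fun a => FiniteField.frobeniusAlgEquivOfAlgebraic (ZMod 2) F ^ s a) (by
      intro a b
      apply AlgEquiv.ext
      intro x
      rw [AlgEquiv.mul_apply, hsz_coord_frob_pow_apply, hsz_coord_frob_pow_apply,
        hsz_coord_frob_pow_apply]
      exact hsmul a b x)
  have hSg : ∀ a, Sg a = FiniteField.frobeniusAlgEquivOfAlgebraic (ZMod 2) F ^ s a := fun a => rfl
  have hker : ∀ a, a ∈ Sg.ker ↔ s a = 0 := by
    intro a
    rw [MonoidHom.mem_ker, hSg]
    constructor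
    · intro h
      rw [← pow_zero (FiniteField.frobeniusAlgEquivOfAlgebraic (ZMod 2) F)] at h
      exact hsz_coord_frob_pow_inj (hs a) hn0 h
    · intro h
      rw [h, pow_zero]
  -- the scalars
  let c₀ : Sg.ker →* Fˣ :=
    MonoidHom.mk' (fun a => Units.mk0 (c a.1) (hc a.1)) (by
      intro a b
      apply Units.ext
      show c (a.1 * b.1) = c a.1 * c b.1
      rw [hcmul, (hker a.1).1 a.2, pow_zero, pow_one])
  have hc₀ : ∀ a : Sg.ker, ((c₀ a : Fˣ) : F) = c a.1 := fun a => rfl
  let Λ : Subgroup Fˣ := c₀.range
  haveI : IsCyclic Λ := isCyclic_subgroup_units Λ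
  obtain ⟨g, hg⟩ := IsCyclic.exists_generator (α := Λ)
  obtain ⟨ξ₀, hξ₀⟩ := g.2
  have hdvd : Nat.card Λ ∣ 2 ^ n - 1 := by
    have h1 := Subgroup.card_subgroup_dvd_card Λ
    rw [Nat.card_units, Nat.card_eq_fintype_card (α := F), hcard] at h1
    exact h1
  have hdpos : 0 < Nat.card Λ := Nat.card_pos
  refine ⟨ξ₀.1, Nat.card Λ, F, iF, iFt, e, c, s, n, (2 ^ n - 1) / Nat.card Λ, inferInstance, hcard,
    hn2, hc, hcs, (hker ξ₀.1).1 ξ₀.2, ?_, ?_, Nat.div_mul_cancel hdvd⟩
  · rw [← hc₀ ξ₀, orderOf_units, hξ₀, Subgroup.orderOf_coe]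
    exact orderOf_eq_card_of_forall_mem_zpowers hg
  · -- the counting
    letI : MulAction A W := MulAction.compHom W act
    have hsmul_def : ∀ (a : A) (w : W), a • w = act a w := fun a w => rfl
    -- the orbit of a nonzero element
    have horb : MulAction.orbit A x0 = {(0 : W)}ᶜ := by
      ext w
      rw [MulAction.mem_orbit_iff, Set.mem_compl_iff, Set.mem_singleton_iff]
      constructor
      · rintro ⟨a, rfl⟩ h0
        apply hx0
        rw [hsmul_def] at h0
        rw [← hsz_coord_act_inv_act act a x0, h0, map_zero]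
      · intro hw
        exact ht.trans x0 w hx0 hw
    have hidx : (MulAction.stabilizer A x0).index = 2 ^ n - 1 := by
      rw [MulAction.index_stabilizer, horb, Set.ncard_compl, Set.ncard_singleton,
        Nat.card_congr e.toEquiv, Nat.card_eq_fintype_card, hcard]
    have h1 : Nat.card (MulAction.stabilizer A x0) * (2 ^ n - 1) = Nat.card A := by
      rw [← hidx]
      exact Subgroup.card_mul_index _
    have h2 : Nat.card Sg.ker * Nat.card Sg.range = Nat.card A := by
      rw [← Subgroup.index_ker]
      exact Subgroup.card_mul_index _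
    have h3 : Nat.card c₀.ker * Nat.card Λ = Nat.card Sg.ker := by
      rw [← Subgroup.index_ker]
      exact Subgroup.card_mul_index _
    have h4 : Nat.card c₀.ker ∣ Nat.card (MulAction.stabilizer A x0) := by
      rw [← Subgroup.card_map_of_injective (K := c₀.ker) (f := Sg.ker.subtype)
        Subtype.val_injective]
      apply Subgroup.card_dvd_of_le
      rintro _ ⟨a, ha, rfl⟩
      rw [MulAction.mem_stabilizer_iff, hsmul_def]
      apply e.injective
      have hca : c a.1 = 1 := by
        rw [← hc₀ a, (MonoidHom.mem_ker).1 ha]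
        rfl
      show e (act a.1 x0) = e x0
      rw [hcs, hca, (hker a.1).1 a.2, pow_zero, pow_one, one_mul]
    have h5 : Nat.card Sg.range ∣ n := by
      have h := Subgroup.card_subgroup_dvd_card Sg.range
      have hn' : Nat.card (F ≃ₐ[ZMod 2] F) = n := by
        rw [← Nat.card_congr (Equiv.ofBijective _
          (FiniteField.bijective_frobeniusAlgEquivOfAlgebraic_pow (ZMod 2) F)), Nat.card_fin]
      rwa [hn'] at h
    obtain ⟨j, hj⟩ := h4
    have hk0 : 0 < Nat.card c₀.ker := Nat.card_pos
    -- d * m = j * (2 ^ n - 1)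
    have h6 : Nat.card Λ * Nat.card Sg.range = j * (2 ^ n - 1) := by
      have h7 : Nat.card c₀.ker * (Nat.card Λ * Nat.card Sg.range) =
          Nat.card c₀.ker * (j * (2 ^ n - 1)) := by
        rw [← mul_assoc, h3, h2, ← mul_assoc, ← hj, h1]
      exact Nat.eq_of_mul_eq_mul_left hk0 h7
    have h8 : (2 ^ n - 1) / Nat.card Λ ∣ Nat.card Sg.range := by
      have h9 : (2 ^ n - 1) / Nat.card Λ * Nat.card Λ ∣ Nat.card Sg.range * Nat.card Λ := by
        rw [Nat.div_mul_cancel hdvd, mul_comm, h6]
        exact Dvd.intro_left j rfl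
      exact Nat.dvd_of_mul_dvd_mul_right hdpos h9
    exact h8.trans h5

end Cfsg.Agent.HSz
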