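import Mathlib
import Cfsg.Agent.HSz.Defs
import Cfsg.Agent.HSz.Coord

set_option autoImplicit false
set_option linter.unusedVariables false
set_option linter.style.haveILetI false
set_option linter.unusedSectionVars false

/-!
The additive endomorphisms of a finite field of `2 ^ n` elements (package `EndBasis` of the proof
of S3776 and S3797): every additive map of the field into itself is in a unique way a sum of the
maps `x ↦ a k * x ^ 2 ^ k`, `k < n`; the rule for the coefficients of a conjugate by a map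
`x ↦ c * x ^ 2 ^ s`.
-/

namespace Cfsg.Agent.HSz

open Finset

variable {F : Type*} [Field F] [Fintype F] [CharP F 2]

/-- the additive map `x ↦ x ^ 2 ^ k`. -/
noncomputable def hsz_eb_frob (F : Type*) [Field F] [CharP F 2] (k : ℕ) : F →+ F where
  toFun x := x ^ 2 ^ k
  map_zero' := zero_pow (by positivity)
  map_add' x y := add_pow_char_pow x y 2 k

@[simp]
theorem hsz_eb_frob_apply (k : ℕ) (x : F) : hsz_eb_frob F k x = x ^ 2 ^ k := rfl

/-- the map `x ↦ x ^ 2 ^ k` is injective. -/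
theorem hsz_eb_pow_injective (k : ℕ) : Function.Injective fun x : F => x ^ 2 ^ k := by
  haveI : ExpChar F 2 := ExpChar.prime Nat.prime_two
  have h := iterateFrobenius_inj F 2 k
  intro x y hxy
  apply h
  rw [iterateFrobenius_def, iterateFrobenius_def]
  exact hxy

/-- the map `x ↦ x ^ 2 ^ k` is surjective. -/
theorem hsz_eb_pow_surjective (k : ℕ) : Function.Surjective fun x : F => x ^ 2 ^ k :=
  ((Finite.injective_iff_surjective).1 (hsz_eb_pow_injective k))

/-- the degree of the field over the prime field. -/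
theorem hsz_eb_finrank [Algebra (ZMod 2) F] {n : ℕ} (hcard : Fintype.card F = 2 ^ n) :
    Module.finrank (ZMod 2) F = n := by
  have h := Module.card_eq_pow_finrank (K := ZMod 2) (V := F)
  rw [ZMod.card, hcard] at h
  exact (Nat.pow_right_injective (le_refl 2) h).symm

/-- `x ^ 2 ^ n = x`. -/
theorem hsz_eb_pow_card {n : ℕ} (hcard : Fintype.card F = 2 ^ n) (x : F) : x ^ 2 ^ n = x := by
  rw [← hcard]
  exact FiniteField.pow_card x

/-- two of the maps `x ↦ x ^ 2 ^ k` with `k < n` agree only if the exponents agree. -/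
theorem hsz_eb_frob_inj {n : ℕ} (hcard : Fintype.card F = 2 ^ n) {k l : ℕ} (hk : k < n)
    (hl : l < n) (h : ∀ x : F, x ^ 2 ^ k = x ^ 2 ^ l) : k = l := by
  letI : Algebra (ZMod 2) F := ZMod.algebra F 2
  have hn := hsz_eb_finrank (F := F) hcard
  apply hsz_coord_frob_pow_inj (F := F) (by rw [hn]; exact hk) (by rw [hn]; exact hl)
  apply AlgEquiv.ext
  intro x
  rw [hsz_coord_frob_pow_apply, hsz_coord_frob_pow_apply]
  exact h x

/-- the sum of the maps `x ↦ a k * x ^ 2 ^ k`, as an additive map of the coefficients. -/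
noncomputable def hsz_eb_sum (F : Type*) [Field F] [Fintype F] [CharP F 2] (n : ℕ) :
    (Fin n → F) →+ (F →+ F) where
  toFun a := ∑ k : Fin n, (AddMonoidHom.mulLeft (a k)).comp (hsz_eb_frob F k)
  map_zero' := by
    apply AddMonoidHom.ext
    intro x
    simp
  map_add' a b := by
    apply AddMonoidHom.ext
    intro x
    simp [add_mul, Finset.sum_add_distrib]

theorem hsz_eb_sum_apply (n : ℕ) (a : Fin n → F) (x : F) :
    hsz_eb_sum F n a x = ∑ k : Fin n, a k * x ^ 2 ^ (k : ℕ) := by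
  simp [hsz_eb_sum]

/-- uniqueness of the coefficients. -/
theorem hsz_eb_unique {n : ℕ} (hcard : Fintype.card F = 2 ^ n) (a : Fin n → F)
    (h : ∀ x : F, ∑ k : Fin n, a k * x ^ 2 ^ (k : ℕ) = 0) : a = 0 := by
  have hli := linearIndependent_monoidHom F F
  let v : Fin n → (F →* F) := fun k => powMonoidHom (2 ^ (k : ℕ))
  have hv : Function.Injective v := by
    intro k l hkl
    apply Fin.ext
    apply hsz_eb_frob_inj hcard k.2 l.2
    intro x
    exact DFunLike.congr_fun hkl x
  have hli' := hli.comp v hv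
  rw [Fintype.linearIndependent_iff] at hli'
  funext k
  apply hli' a
  funext x
  rw [Finset.sum_apply]
  simpa [v] using h x

/-- the sum map is injective. -/
theorem hsz_eb_sum_injective {n : ℕ} (hcard : Fintype.card F = 2 ^ n) :
    Function.Injective (hsz_eb_sum F n) := by
  rw [injective_iff_map_eq_zero]
  intro a ha
  apply hsz_eb_unique hcard
  intro x
  rw [← hsz_eb_sum_apply, ha]
  rfl

/-- the sum map is bijective. -/
theorem hsz_eb_sum_bijective {n : ℕ} (hcard : Fintype.card F = 2 ^ n) :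
    Function.Bijective (hsz_eb_sum F n) := by
  letI : Algebra (ZMod 2) F := ZMod.algebra F 2
  have hn := hsz_eb_finrank (F := F) hcard
  let b := Module.finBasis (ZMod 2) F
  let Ψ : (F →+ F) → (Fin (Module.finrank (ZMod 2) F) → F) := fun φ k => φ (b k)
  have hΨ : Function.Injective Ψ := by
    intro φ ψ h
    have h1 : φ.toZModLinearMap 2 = ψ.toZModLinearMap 2 := by
      apply b.ext
      intro k
      exact congrFun h k
    apply AddMonoidHom.ext
    intro x
    exact LinearMap.congr_fun h1 x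
  haveI : Finite (F →+ F) := Finite.of_injective Ψ hΨ
  apply (hsz_eb_sum_injective hcard).bijective_of_nat_card_le
  have h1 := Nat.card_le_card_of_injective Ψ hΨ
  rw [hn] at h1
  exact h1

/-- every additive map is a sum of the maps `x ↦ a k * x ^ 2 ^ k`. -/
theorem hsz_eb_exists {n : ℕ} (hcard : Fintype.card F = 2 ^ n) (φ : F →+ F) :
    ∃ a : Fin n → F, ∀ x : F, φ x = ∑ k : Fin n, a k * x ^ 2 ^ (k : ℕ) := by
  obtain ⟨a, ha⟩ := (hsz_eb_sum_bijective hcard).2 φ
  refine ⟨a, fun x => ?_⟩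
  rw [← ha, hsz_eb_sum_apply]

/-- the coefficients of an additive map. -/
noncomputable def hsz_eb_coef {n : ℕ} (hcard : Fintype.card F = 2 ^ n) : (F →+ F) →+ (Fin n → F) :=
  (AddEquiv.ofBijective (hsz_eb_sum F n) (hsz_eb_sum_bijective hcard)).symm.toAddMonoidHom

theorem hsz_eb_sum_coef {n : ℕ} (hcard : Fintype.card F = 2 ^ n) (φ : F →+ F) :
    hsz_eb_sum F n (hsz_eb_coef hcard φ) = φ :=
  (AddEquiv.ofBijective (hsz_eb_sum F n) (hsz_eb_sum_bijective hcard)).apply_symm_apply φ

theorem hsz_eb_coef_sum {n : ℕ} (hcard : Fintype.card F = 2 ^ n) (a : Fin n → F) :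
    hsz_eb_coef hcard (hsz_eb_sum F n a) = a :=
  (AddEquiv.ofBijective (hsz_eb_sum F n) (hsz_eb_sum_bijective hcard)).symm_apply_apply a

/-- an additive map is the sum given by its coefficients. -/
theorem hsz_eb_coef_spec {n : ℕ} (hcard : Fintype.card F = 2 ^ n) (φ : F →+ F) (x : F) :
    φ x = ∑ k : Fin n, hsz_eb_coef hcard φ k * x ^ 2 ^ (k : ℕ) := by
  rw [← hsz_eb_sum_apply, hsz_eb_sum_coef]

/-- the coefficients are determined by the map. -/
theorem hsz_eb_coef_eq {n : ℕ} (hcard : Fintype.card F = 2 ^ n) (φ : F →+ F) (a : Fin n → F)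
    (h : ∀ x : F, φ x = ∑ k : Fin n, a k * x ^ 2 ^ (k : ℕ)) : hsz_eb_coef hcard φ = a := by
  have h1 : φ = hsz_eb_sum F n a := by
    apply AddMonoidHom.ext
    intro x
    rw [h x, hsz_eb_sum_apply]
  rw [h1, hsz_eb_coef_sum]

/-- a map all of whose coefficients vanish is zero. -/
theorem hsz_eb_eq_zero_of_coef {n : ℕ} (hcard : Fintype.card F = 2 ^ n) (φ : F →+ F)
    (h : ∀ k, hsz_eb_coef hcard φ k = 0) : φ = 0 := by
  apply AddMonoidHom.ext
  intro x
  rw [hsz_eb_coef_spec hcard φ x]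
  simp [h]

/-- the coefficients of a conjugate: if `φ' ∘ θ = θ ∘ φ` for `θ x = c * x ^ 2 ^ s` then the
coefficient `k` of `φ'` times `c ^ 2 ^ k` is `c` times the image of the coefficient `k` of `φ`. -/
theorem hsz_eb_conj {n : ℕ} (hcard : Fintype.card F = 2 ^ n) (φ φ' : F →+ F) (c : F) (s : ℕ)
    (h : ∀ x : F, φ' (c * x ^ 2 ^ s) = c * φ x ^ 2 ^ s) (k : Fin n) :
    hsz_eb_coef hcard φ' k * c ^ 2 ^ (k : ℕ) = c * hsz_eb_coef hcard φ k ^ 2 ^ s := by
  have key : (fun k : Fin n => hsz_eb_coef hcard φ' k * c ^ 2 ^ (k : ℕ) -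
      c * hsz_eb_coef hcard φ k ^ 2 ^ s) = 0 := by
    apply hsz_eb_unique hcard
    intro y
    obtain ⟨x, rfl⟩ := hsz_eb_pow_surjective (F := F) s y
    have h1 := h x
    rw [hsz_eb_coef_spec hcard φ' (c * x ^ 2 ^ s), hsz_eb_coef_spec hcard φ x] at h1
    have h2 : (∑ k : Fin n, hsz_eb_coef hcard φ k * x ^ 2 ^ (k : ℕ)) ^ 2 ^ s =
        ∑ k : Fin n, (hsz_eb_coef hcard φ k * x ^ 2 ^ (k : ℕ)) ^ 2 ^ s :=
      map_sum (hsz_eb_frob F s) _ _
    rw [h2, Finset.mul_sum] at h1
    simp only [sub_mul, Finset.sum_sub_distrib]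
    rw [sub_eq_zero]
    rw [show (∑ k : Fin n, hsz_eb_coef hcard φ' k * c ^ 2 ^ (k : ℕ) * (fun x : F => x ^ 2 ^ s) x ^ 2 ^ (k : ℕ)) =
      ∑ k : Fin n, hsz_eb_coef hcard φ' k * (c * x ^ 2 ^ s) ^ 2 ^ (k : ℕ) from
      Finset.sum_congr rfl (fun k _ => by simp only [mul_pow, mul_assoc])]
    rw [h1]
    apply Finset.sum_congr rfl
    intro k _
    simp only [mul_pow, ← pow_mul, mul_assoc]
    rw [mul_comm (2 ^ (k : ℕ)) (2 ^ s)]
  have := congrFun key k
  simpa [sub_eq_zero] using this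

end Cfsg.Agent.HSz
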