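import Mathlib
import Cfsg.Agent.HSz.Defs
import Cfsg.Agent.HSz.Arith
import Cfsg.Agent.HSz.Coord
import Cfsg.Agent.HSz.EndBasis

set_option autoImplicit false
set_option linter.unusedVariables false
set_option linter.style.haveILetI false
set_option linter.unusedSectionVars false

/-!
(CI-3) and (K3) from the coordinates (package `K3` of the proof of S3776 and S3797): the powers of
`ξ` act as the powers of a scalar `λ` of order `d`; an irreducible invariant additive subgroup `T`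
of the endomorphisms on which `ξ` has no nonzero fixed point lies in one of the spaces
`F · x ^ 2 ^ k`, because the coefficient maps are zero or injective on `T` and two injective ones
would make `λ ^ (1 - 2 ^ k')` a conjugate of `λ ^ (1 - 2 ^ k)`, against the arithmetic fact (N3).
-/

namespace Cfsg.Agent.HSz

open Finset Polynomial

universe u v

/-- In a finite field of characteristic two, if every vanishing sum of distinct powers of `μ`
also vanishes on `μ'`, then `μ'` is a conjugate `μ ^ 2 ^ l` of `μ`. -/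
theorem hsz_k3_conj {F : Type*} [Field F] [Finite F] [Algebra (ZMod 2) F] (μ μ' : F)
    (h : ∀ J : Finset ℕ, ∑ j ∈ J, μ ^ j = 0 → ∑ j ∈ J, μ' ^ j = 0) :
    ∃ l, l < Module.finrank (ZMod 2) F ∧ μ' = μ ^ 2 ^ l := by
  have hint : IsIntegral (ZMod 2) μ := Algebra.IsIntegral.isIntegral μ
  have hsum : ∀ x : F, aeval x (minpoly (ZMod 2) μ) =
      ∑ j ∈ (minpoly (ZMod 2) μ).support, x ^ j := by
    intro x
    rw [aeval_def, eval₂_eq_sum, Polynomial.sum]
    apply Finset.sum_congr rfl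
    intro j hj
    have hc : (minpoly (ZMod 2) μ).coeff j = 1 := by
      have hne : (minpoly (ZMod 2) μ).coeff j ≠ 0 := Polynomial.mem_support_iff.1 hj
      generalize (minpoly (ZMod 2) μ).coeff j = t at hne
      fin_cases t
      · exact absurd rfl hne
      · rfl
    rw [hc, map_one, one_mul]
  have h0 : aeval μ' (minpoly (ZMod 2) μ) = 0 := by
    rw [hsum]
    apply h
    rw [← hsum]
    exact minpoly.aeval _ _
  have hconj : IsConjRoot (ZMod 2) μ μ' := isConjRoot_of_aeval_eq_zero hint h0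
  obtain ⟨σ, hσ⟩ := (isConjRoot_iff_exists_algEquiv (K := ZMod 2) (L := F)).1 hconj
  obtain ⟨l, hl, hl2⟩ := hsz_coord_aut (F := F) (σ.symm : F ≃ₐ[ZMod 2] F).toRingEquiv
  refine ⟨l, hl, ?_⟩
  have := hl2 μ
  rw [← this, ← hσ]
  simp

/-- the arithmetic bridge: from `μ = λ ^ (1 - 2 ^ k)`, `μ' = λ ^ (1 - 2 ^ k')`, `μ' = μ ^ 2 ^ l`
to the congruence of `hsz_arith_N3`. -/
theorem hsz_k3_bridge {F : Type*} [Field F] (lam μ μ' : F) (hlam : lam ≠ 0) (k k' l : ℕ)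
    (h1 : μ * lam ^ 2 ^ k = lam) (h2 : μ' * lam ^ 2 ^ k' = lam) (h3 : μ' = μ ^ 2 ^ l) :
    2 ^ l + 2 ^ k' ≡ 1 + 2 ^ (l + k) [MOD orderOf lam] := by
  have hu : orderOf (Units.mk0 lam hlam) = orderOf lam := by
    rw [← orderOf_units, Units.val_mk0]
  rw [← hu, ← pow_eq_pow_iff_modEq]
  apply Units.ext
  rw [Units.val_pow_eq_pow_val, Units.val_pow_eq_pow_val, Units.val_mk0]
  have e1 : lam ^ 2 ^ l = μ ^ 2 ^ l * lam ^ 2 ^ (l + k) := by
    conv_lhs => rw [← h1]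
    rw [mul_pow, ← pow_mul, ← pow_add, add_comm k l]
  have e2 : lam ^ (2 ^ l + 2 ^ k') = lam ^ 2 ^ l * lam ^ 2 ^ k' := pow_add _ _ _
  have e3 : lam ^ (1 + 2 ^ (l + k)) = lam * lam ^ 2 ^ (l + k) := by rw [pow_add, pow_one]
  have e4 : lam * lam ^ 2 ^ (l + k) = μ ^ 2 ^ l * lam ^ 2 ^ k' * lam ^ 2 ^ (l + k) := by
    rw [← h3, h2]
  rw [e2, e3, e4, e1]
  ring

/-- the powers of `ξ` act as the powers of the scalar. -/
theorem hsz_k3_xi_pow {A : Type v} [Group A] {W : Type u} [AddCommGroup W] {F : Type*} [Field F]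
    (act : A →* AddMonoid.End W) (e : W ≃+ F) (ξ : A) (lam : F)
    (h : ∀ w, e (act ξ w) = lam * e w) (j : ℕ) (w : W) : e (act (ξ ^ j) w) = lam ^ j * e w := by
  induction j generalizing w with
  | zero => rw [pow_zero, pow_zero, one_mul, map_one]; rfl
  | succ j ih =>
    rw [pow_succ, map_mul]
    show e (act (ξ ^ j) (act ξ w)) = _
    rw [ih, h, pow_succ, mul_assoc]

/-- transport of an endomorphism of `W` to the field. -/
noncomputable def hsz_k3_tr {W : Type u} [AddCommGroup W] {F : Type*} [Field F] (e : W ≃+ F) :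
    (W →+ W) →+ (F →+ F) where
  toFun φ := (e.toAddMonoidHom.comp φ).comp e.symm.toAddMonoidHom
  map_zero' := by
    apply AddMonoidHom.ext
    intro x
    simp
  map_add' φ ψ := by
    apply AddMonoidHom.ext
    intro x
    simp

theorem hsz_k3_tr_apply {W : Type u} [AddCommGroup W] {F : Type*} [Field F] (e : W ≃+ F)
    (φ : W →+ W) (x : F) : hsz_k3_tr e φ x = e (φ (e.symm x)) := rfl

theorem hsz_k3_tr_apply' {W : Type u} [AddCommGroup W] {F : Type*} [Field F] (e : W ≃+ F)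
    (φ : W →+ W) (w : W) : hsz_k3_tr e φ (e w) = e (φ w) := by
  rw [hsz_k3_tr_apply, AddEquiv.symm_apply_apply]

theorem hsz_k3_tr_eq_zero {W : Type u} [AddCommGroup W] {F : Type*} [Field F] (e : W ≃+ F)
    (φ : W →+ W) (h : hsz_k3_tr e φ = 0) : φ = 0 := by
  apply AddMonoidHom.ext
  intro w
  have h1 := hsz_k3_tr_apply' e φ w
  rw [h] at h1
  have h2 : e (φ w) = e 0 := by rw [← h1, map_zero]; rfl
  exact e.injective h2

/-- the conjugation formula for the coefficients. -/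
theorem hsz_k3_cj {A : Type v} [Group A] {W : Type u} [AddCommGroup W] {F : Type*} [Field F]
    [Fintype F] [CharP F 2] {n : ℕ} (hcard : Fintype.card F = 2 ^ n)
    (act : A →* AddMonoid.End W) (e : W ≃+ F) (a : A) (c : F) (s : ℕ)
    (h : ∀ w, e (act a w) = c * e w ^ 2 ^ s) (φ : W →+ W) (k : Fin n) :
    hsz_eb_coef hcard (hsz_k3_tr e (hsz_cj act a φ)) k * c ^ 2 ^ (k : ℕ) =
      c * hsz_eb_coef hcard (hsz_k3_tr e φ) k ^ 2 ^ s := by
  apply hsz_eb_conj hcard (hsz_k3_tr e φ) (hsz_k3_tr e (hsz_cj act a φ)) c s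
  intro x
  obtain ⟨w, rfl⟩ := e.surjective x
  rw [← h w, hsz_k3_tr_apply', hsz_cj_apply, hsz_coord_act_inv_act, h, hsz_k3_tr_apply']

/-- part 4 of (K3) in coordinates. -/
theorem hsz_k3_part4 {A : Type v} [Group A] {W : Type u} [AddCommGroup W]
    (act : A →* AddMonoid.End W) (ξ : A) (d : ℕ)
    {F : Type} [Field F] [Fintype F] [CharP F 2] (e : W ≃+ F) (c : A → F) (s : A → ℕ) (n f : ℕ)
    (hcard : Fintype.card F = 2 ^ n) (hn : 2 ≤ n) (hc0 : ∀ a, c a ≠ 0)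
    (hact : ∀ a w, e (act a w) = c a * e w ^ 2 ^ s a) (hsξ : s ξ = 0) (hord : orderOf (c ξ) = d)
    (hfn : f ∣ n) (hfd : f * d = 2 ^ n - 1)
    (T : AddSubgroup (W →+ W)) (hTinv : ∀ a : A, ∀ φ ∈ T, hsz_cj act a φ ∈ T)
    (hTirr : ∀ T' : AddSubgroup (W →+ W), T' ≤ T → (∀ a : A, ∀ φ ∈ T', hsz_cj act a φ ∈ T') →
      T' = ⊥ ∨ T' = T)
    (hTfix : ∀ φ ∈ T, hsz_cj act ξ φ = φ → φ = 0) :
    ∀ φ ∈ T, φ ≠ 0 → Function.Injective φ := by
  classical
  letI : Algebra (ZMod 2) F := ZMod.algebra F 2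
  have hlam0 : c ξ ≠ 0 := hc0 ξ
  let u : Fin n → (W →+ W) →+ F := fun k =>
    ((Pi.evalAddMonoidHom (fun _ : Fin n => F) k).comp (hsz_eb_coef hcard)).comp (hsz_k3_tr e)
  have hu : ∀ k φ, u k φ = hsz_eb_coef hcard (hsz_k3_tr e φ) k := fun k φ => rfl
  have hxi : ∀ j w, e (act (ξ ^ j) w) = (c ξ) ^ j * e w ^ 2 ^ 0 := by
    intro j w
    rw [pow_zero, pow_one]
    apply hsz_k3_xi_pow act e ξ (c ξ) _ j w
    intro w
    rw [hact, hsξ, pow_zero, pow_one]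
  have hcjxi : ∀ j φ k, u k (hsz_cj act (ξ ^ j) φ) * ((c ξ) ^ j) ^ 2 ^ (k : ℕ) =
      (c ξ) ^ j * u k φ := by
    intro j φ k
    have := hsz_k3_cj hcard act e (ξ ^ j) ((c ξ) ^ j) 0 (hxi j) φ k
    rwa [pow_zero, pow_one] at this
  have hker : ∀ k : Fin n, (∀ φ ∈ T, u k φ = 0) ∨ (∀ φ ∈ T, u k φ = 0 → φ = 0) := by
    intro k
    have hKinv : ∀ a : A, ∀ φ ∈ T ⊓ (u k).ker, hsz_cj act a φ ∈ T ⊓ (u k).ker := by
      intro a φ hφ
      refine ⟨hTinv a φ hφ.1, ?_⟩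
      show u k (hsz_cj act a φ) = 0
      have h1 := hsz_k3_cj hcard act e a (c a) (s a) (hact a) φ k
      have h2 : u k φ = 0 := hφ.2
      rw [← hu, ← hu, h2, zero_pow (by positivity), mul_zero] at h1
      rcases mul_eq_zero.1 h1 with h3 | h3
      · exact h3
      · exact absurd ((pow_eq_zero_iff (by positivity)).1 h3) (hc0 a)
    rcases hTirr (T ⊓ (u k).ker) inf_le_left hKinv with hK | hK
    · right
      intro φ hφ h0
      have : φ ∈ T ⊓ (u k).ker := ⟨hφ, h0⟩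
      rw [hK] at this
      exact AddSubgroup.mem_bot.1 this
    · left
      intro φ hφ
      have : φ ∈ T ⊓ (u k).ker := by rw [hK]; exact hφ
      exact this.2
  intro φ₀ hφ₀T hφ₀
  obtain ⟨k, hk⟩ : ∃ k, u k φ₀ ≠ 0 := by
    by_contra hcon
    push Not at hcon
    exact hφ₀ (hsz_k3_tr_eq_zero e φ₀ (hsz_eb_eq_zero_of_coef hcard _ hcon))
  have hkinj : ∀ φ ∈ T, u k φ = 0 → φ = 0 := by
    rcases hker k with h | h
    · exact absurd (h φ₀ hφ₀T) hk
    · exact h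
  have hidx : ∀ k' : Fin n, (∀ φ ∈ T, u k' φ = 0 → φ = 0) → 1 ≤ (k' : ℕ) := by
    intro k' hinj
    by_contra h0
    have h0' : (k' : ℕ) = 0 := by omega
    have h1 := hcjxi 1 φ₀ k'
    rw [pow_one, h0', pow_zero, pow_one, pow_one] at h1
    have h2 : u k' (hsz_cj act ξ φ₀ - φ₀) = 0 := by
      rw [map_sub, sub_eq_zero]
      have : u k' (hsz_cj act ξ φ₀) * c ξ = u k' φ₀ * c ξ := by rw [h1, mul_comm]
      exact mul_right_cancel₀ hlam0 this
    have h3 := hinj _ (T.sub_mem (hTinv ξ φ₀ hφ₀T) hφ₀T) h2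
    exact hφ₀ (hTfix φ₀ hφ₀T (sub_eq_zero.1 h3))
  have hscal : ∀ k' : Fin n, ∀ j φ, u k' (hsz_cj act (ξ ^ j) φ) =
      (c ξ * ((c ξ) ^ 2 ^ (k' : ℕ))⁻¹) ^ j * u k' φ := by
    intro k' j φ
    have h1 := hcjxi j φ k'
    have h2 : ((c ξ) ^ j) ^ 2 ^ (k' : ℕ) = ((c ξ) ^ 2 ^ (k' : ℕ)) ^ j := by
      rw [← pow_mul, ← pow_mul, mul_comm]
    rw [h2] at h1
    have h3 : ((c ξ) ^ 2 ^ (k' : ℕ)) ^ j ≠ 0 := pow_ne_zero _ (pow_ne_zero _ hlam0)
    rw [mul_pow, inv_pow, mul_assoc, mul_comm _ (u k' φ), ← mul_assoc, ← h1, mul_assoc,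
      mul_inv_cancel₀ h3, mul_one]
  have hother : ∀ k' : Fin n, k' ≠ k → ∀ φ ∈ T, u k' φ = 0 := by
    intro k' hk'k
    rcases hker k' with h | hk'inj
    · exact h
    · exfalso
      have hk1 := hidx k hkinj
      have hk'1 := hidx k' hk'inj
      have hpk : (c ξ) ^ 2 ^ (k : ℕ) ≠ 0 := pow_ne_zero _ hlam0
      have hpk' : (c ξ) ^ 2 ^ (k' : ℕ) ≠ 0 := pow_ne_zero _ hlam0
      have hμ1 : (c ξ * ((c ξ) ^ 2 ^ (k : ℕ))⁻¹) * (c ξ) ^ 2 ^ (k : ℕ) = c ξ := by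
        rw [mul_assoc, inv_mul_cancel₀ hpk, mul_one]
      have hμ'1 : (c ξ * ((c ξ) ^ 2 ^ (k' : ℕ))⁻¹) * (c ξ) ^ 2 ^ (k' : ℕ) = c ξ := by
        rw [mul_assoc, inv_mul_cancel₀ hpk', mul_one]
      have hconj : ∀ J : Finset ℕ, ∑ j ∈ J, (c ξ * ((c ξ) ^ 2 ^ (k : ℕ))⁻¹) ^ j = 0 →
          ∑ j ∈ J, (c ξ * ((c ξ) ^ 2 ^ (k' : ℕ))⁻¹) ^ j = 0 := by
        intro J hJ
        have hΦT : (∑ j ∈ J, hsz_cj act (ξ ^ j) φ₀) ∈ T :=
          T.sum_mem (fun j _ => hTinv _ _ hφ₀T)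
        have h1 : u k (∑ j ∈ J, hsz_cj act (ξ ^ j) φ₀) =
            (∑ j ∈ J, (c ξ * ((c ξ) ^ 2 ^ (k : ℕ))⁻¹) ^ j) * u k φ₀ := by
          rw [map_sum, Finset.sum_mul]
          exact Finset.sum_congr rfl (fun j _ => hscal k j φ₀)
        have h2 : (∑ j ∈ J, hsz_cj act (ξ ^ j) φ₀) = 0 :=
          hkinj _ hΦT (by rw [h1, hJ, zero_mul])
        have h3 : u k' (∑ j ∈ J, hsz_cj act (ξ ^ j) φ₀) =
            (∑ j ∈ J, (c ξ * ((c ξ) ^ 2 ^ (k' : ℕ))⁻¹) ^ j) * u k' φ₀ := by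
          rw [map_sum, Finset.sum_mul]
          exact Finset.sum_congr rfl (fun j _ => hscal k' j φ₀)
        rw [h2, map_zero] at h3
        have h4 : u k' φ₀ ≠ 0 := fun h => hφ₀ (hk'inj φ₀ hφ₀T h)
        exact (mul_eq_zero.1 h3.symm).resolve_right h4
      obtain ⟨l, hl, hl2⟩ := hsz_k3_conj _ _ hconj
      rw [hsz_eb_finrank hcard] at hl
      have hmod := hsz_k3_bridge (c ξ) _ _ hlam0 k k' l hμ1 hμ'1 hl2
      rw [hord] at hmod
      have := hsz_arith_N3 n f d hn hfn hfd l k k' hl hk1 k.2 hk'1 k'.2 hmod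
      exact hk'k (Fin.ext this.symm)
  intro w w' hww
  have h1 : ∀ φ ∈ T, ∀ x, hsz_k3_tr e φ x = u k φ * x ^ 2 ^ (k : ℕ) := by
    intro φ hφ x
    rw [hsz_eb_coef_spec hcard (hsz_k3_tr e φ) x, Finset.sum_eq_single k]
    · rfl
    · intro k' _ hk'
      have := hother k' hk' φ hφ
      rw [hu] at this
      rw [this, zero_mul]
    · intro h
      exact absurd (Finset.mem_univ k) h
  have h2 := h1 φ₀ hφ₀T (e w)
  have h3 := h1 φ₀ hφ₀T (e w')
  rw [hsz_k3_tr_apply'] at h2 h3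
  rw [hww] at h2
  have h4 : (e w) ^ 2 ^ (k : ℕ) = (e w') ^ 2 ^ (k : ℕ) := mul_left_cancel₀ hk (h2.symm.trans h3)
  exact e.injective (hsz_eb_pow_injective (k : ℕ) h4)

/-- (CI-3) and (K3) from the coordinates. -/
theorem hsz_K3_of_coord {A : Type v} [Group A] {W : Type u} [AddCommGroup W]
    (act : A →* AddMonoid.End W) (ξ : A) (d : ℕ) (hc : hsz_Coord act ξ d) : hsz_K3 act ξ d := by
  obtain ⟨F, iF, iFt, e, c, s, n, f, hchar, hcard, hn, hc0, hact, hsξ, hord, hfn, hfd⟩ := hc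
  have hxi1 : ∀ w, e (act ξ w) = c ξ * e w := by
    intro w
    rw [hact, hsξ, pow_zero, pow_one]
  have hxi := hsz_k3_xi_pow act e ξ (c ξ) hxi1
  refine ⟨?_, ?_, ?_, ?_⟩
  · rintro j ⟨w, hw, hfix⟩
    have h1 := hxi j w
    rw [hfix] at h1
    have hew : e w ≠ 0 := fun h => hw (e.injective (by rw [h, map_zero]))
    have h2 : (c ξ) ^ j = 1 := by
      have : (c ξ) ^ j * e w = 1 * e w := by rw [← h1, one_mul]
      exact mul_right_cancel₀ hew this
    rw [← hord]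
    exact orderOf_dvd_of_pow_eq_one h2
  · intro j hj w
    have h2 : (c ξ) ^ j = 1 := by
      rw [← hord] at hj
      exact orderOf_dvd_iff_pow_eq_one.1 hj
    apply e.injective
    rw [hxi, h2, one_mul]
  · have hW : Nat.card W = 2 ^ n := by
      rw [Nat.card_congr e.toEquiv, Nat.card_eq_fintype_card, hcard]
    rw [hW]
    exact hsz_arith_dd_gt n f d hn hfn hfd
  · intro T hTinv hTirr hTfix
    exact hsz_k3_part4 act ξ d e c s n f hcard hn hc0 hact hsξ hord hfn hfd T hTinv hTirr hTfix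

end Cfsg.Agent.HSz
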