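import Mathlib
import Cfsg.Agent.HSz.Defs
import Cfsg.Agent.HSz.Arith
import Cfsg.Agent.HSz.Coord
import Cfsg.Agent.HSz.K3

set_option autoImplicit false
set_option linter.unusedVariables false
set_option linter.style.haveILetI false
set_option linter.unusedSectionVars false

/-!
What the proof of S3797 needs from the coordinates (package `CoordFacts`): the order `d` of the
scalars is odd and at least two; a power of `ξ` fixing a nonzero vector is trivial; every conjugate
of `ξ` acts as a power of `ξ`.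
-/

namespace Cfsg.Agent.HSz

universe u v

/-- from the coordinates: `d` is odd and at least two, `ξ ^ j` fixes a nonzero vector only if
`d ∣ j`, it is trivial if `d ∣ j`, and every conjugate of `ξ` acts as a power of `ξ`. -/
theorem hsz_coord_facts {A : Type v} [Group A] {W : Type u} [AddCommGroup W]
    (act : A →* AddMonoid.End W) (ξ : A) (d : ℕ) (hc : hsz_Coord act ξ d) :
    Odd d ∧ 2 ≤ d ∧ (∀ j : ℕ, (∃ w : W, w ≠ 0 ∧ act (ξ ^ j) w = w) → d ∣ j) ∧
      (∀ j : ℕ, d ∣ j → ∀ w : W, act (ξ ^ j) w = w) ∧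
      ∀ a : A, ∃ i : ℕ, ∀ w : W, act (a * ξ * a⁻¹) w = act (ξ ^ i) w := by
  have hK3 := hsz_K3_of_coord act ξ d hc
  obtain ⟨F, iF, iFt, e, c, s, n, f, hchar, hcard, hn2, hc0, hform, hsξ, hord, hfn, hfd⟩ := hc
  refine ⟨?_, ?_, hK3.1, hK3.2.1, ?_⟩
  · -- `d` divides the odd number `2 ^ n - 1`
    have hodd : Odd (2 ^ n - 1) := by
      have h1 : 2 ^ n = 2 * 2 ^ (n - 1) := by
        rw [← pow_succ']
        congr 1
        omega
      have hp : 1 ≤ 2 ^ (n - 1) := Nat.one_le_two_pow
      rw [Nat.odd_iff]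
      omega
    have hdvd : d ∣ 2 ^ n - 1 := Dvd.intro_left f hfd
    exact hodd.of_dvd_nat hdvd
  · have := hsz_arith_d_gt n f d hn2 hfn hfd
    omega
  · intro a
    refine ⟨2 ^ s a, fun w => ?_⟩
    have hξ : ∀ w, e (act ξ w) = c ξ * e w := by
      intro w
      rw [hform, hsξ, pow_zero, pow_one]
    apply e.injective
    rw [hsz_k3_xi_pow act e ξ (c ξ) hξ]
    have h1 : act (a * ξ * a⁻¹) w = act a (act ξ (act a⁻¹ w)) := by
      rw [map_mul, map_mul]
      rfl
    rw [h1, hform a, hξ, mul_pow, ← mul_assoc, mul_comm (c a), mul_assoc, ← hform a,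
      hsz_coord_act_act_inv]

end Cfsg.Agent.HSz
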