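import Mathlib
import Cfsg.Agent.HSz.Defs

set_option autoImplicit false

/-!
Frame lemmas for the theorem of Higman and Shaw: invariant subgroups of members of the class are
members, they contain `V`; fixed-point-free elements stay fixed-point-free on quotients.
-/

namespace Cfsg.Agent.HSz

open Subgroup
open scoped commutatorElement

universe u v

variable {A : Type v} [Group A] {G : Type u} [Group G]

/-- a nonidentity element of a 2-group has a power that is an involution. -/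
theorem hsz_exists_invol (pg : IsPGroup 2 G) (x : G) (hx : x ≠ 1) :
    ∃ m : ℕ, x ^ m ≠ 1 ∧ (x ^ m) ^ 2 = 1 := by
  obtain ⟨k, hk⟩ := IsPGroup.iff_orderOf.1 pg x
  have hk0 : k ≠ 0 := by
    intro h0
    rw [h0, pow_zero, orderOf_eq_one_iff] at hk
    exact hx hk
  obtain ⟨l, rfl⟩ := Nat.exists_eq_succ_of_ne_zero hk0
  refine ⟨2 ^ l, ?_, ?_⟩
  · apply pow_ne_one_of_lt_orderOf (by positivity)
    rw [hk, pow_succ]
    have : 0 < 2 ^ l := by positivity
    omega
  · rw [← pow_mul, ← pow_succ, ← hk, pow_orderOf_eq_one]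

/-- a nontrivial invariant subgroup contains `V`. -/
theorem hsz_C.V_le {ρ : A →* MulAut G} (h : hsz_C ρ) (X : Subgroup G) (hX : hsz_Inv ρ X)
    (hne : ∃ x ∈ X, x ≠ 1) : hsz_V G ≤ X := by
  obtain ⟨x, hxX, hx1⟩ := hne
  obtain ⟨m, hm1, hm2⟩ := hsz_exists_invol h.pg x hx1
  intro v hv
  by_cases hv1 : v = 1
  · rw [hv1]; exact one_mem _
  · obtain ⟨a, ha⟩ := h.trans (x ^ m) v hm1 hm2 hv1 hv.2
    rw [← ha]
    exact hX a _ (pow_mem hxX m)

/-- a nontrivial invariant subgroup is a member of the class. -/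
theorem hsz_C.res {ρ : A →* MulAut G} (h : hsz_C ρ) (X : Subgroup G) (hX : hsz_Inv ρ X)
    (hne : ∃ x ∈ X, x ≠ 1) : hsz_C (hsz_res ρ X hX) := by
  haveI := h.fin
  have hV := h.V_le X hX hne
  refine ⟨inferInstance, h.pg.to_subgroup X, ?_, ?_, ?_⟩
  · intro x hx
    have hx' : (x : G) ^ 2 = 1 := by
      have := congrArg (fun z : X => (z : G)) hx
      simpa using this
    have hc := h.cent _ hx'
    rw [mem_center_iff] at hc ⊢
    intro g
    apply Subtype.ext
    exact hc g
  · obtain ⟨x, y, hxy, hx1, hx2, hy1, hy2⟩ := h.four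
    refine ⟨⟨x, hV (h.mem_V.2 hx2)⟩, ⟨y, hV (h.mem_V.2 hy2)⟩, ?_, ?_, ?_, ?_, ?_⟩
    · intro he; exact hxy (congrArg Subtype.val he)
    · intro he; exact hx1 (congrArg Subtype.val he)
    · apply Subtype.ext; exact hx2
    · intro he; exact hy1 (congrArg Subtype.val he)
    · apply Subtype.ext; exact hy2
  · intro x y hx1 hx2 hy1 hy2
    have hx1' : (x : G) ≠ 1 := fun he => hx1 (Subtype.ext he)
    have hy1' : (y : G) ≠ 1 := fun he => hy1 (Subtype.ext he)
    have hx2' : (x : G) ^ 2 = 1 := by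
      have := congrArg (fun z : X => (z : G)) hx2
      simpa using this
    have hy2' : (y : G) ^ 2 = 1 := by
      have := congrArg (fun z : X => (z : G)) hy2
      simpa using this
    obtain ⟨a, ha⟩ := h.trans _ _ hx1' hx2' hy1' hy2'
    exact ⟨a, Subtype.ext ha⟩

/-- the goodness of a subgroup, in terms of the elements of `G`. -/
theorem hsz_Good_subgroup_iff (X : Subgroup G) : hsz_Good X ↔
    (∀ x ∈ X, (∀ y ∈ X, x * y = y * x) → x ^ 2 = 1) ∧ (∀ x ∈ X, (x ^ 2) ^ 2 = 1) ∧
      ∀ x ∈ X, ∀ y ∈ X, ⁅x, y⁆ ^ 2 = 1 := by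
  constructor
  · rintro ⟨h1, h2, h3⟩
    refine ⟨?_, ?_, ?_⟩
    · intro x hx hc
      have hm : (⟨x, hx⟩ : X) ∈ center X := by
        rw [mem_center_iff]
        intro g
        apply Subtype.ext
        exact (hc g g.2).symm
      have := congrArg (fun z : X => (z : G)) (h1 ⟨x, hx⟩ hm)
      simpa using this
    · intro x hx
      have := congrArg (fun z : X => (z : G)) (h2 ⟨x, hx⟩)
      simpa using this
    · intro x hx y hy
      have := congrArg (fun z : X => (z : G)) (h3 ⟨x, hx⟩ ⟨y, hy⟩)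
      simpa [commutatorElement_def] using this
  · rintro ⟨h1, h2, h3⟩
    refine ⟨?_, ?_, ?_⟩
    · intro x hx
      apply Subtype.ext
      have := h1 x x.2 (fun y hy => by
        have := (mem_center_iff.1 hx ⟨y, hy⟩)
        exact (congrArg (fun z : X => (z : G)) this).symm)
      simpa using this
    · intro x
      apply Subtype.ext
      simpa using h2 x x.2
    · intro x y
      apply Subtype.ext
      simpa [commutatorElement_def] using h3 x x.2 y y.2

/-- an element `b` of `A` that fixes no nonidentity element of `G` fixes no nonidentity element of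
the quotient by an invariant subgroup. -/
theorem hsz_fpf_quot [Finite G] (ρ : A →* MulAut G) (b : A) (hb : ∀ x : G, ρ b x = x → x = 1)
    (N : Subgroup G) (hN : ∀ x ∈ N, ρ b x ∈ N) (x : G) (hx : x⁻¹ * ρ b x ∈ N) : x ∈ N := by
  obtain ⟨f, hf⟩ : ∃ f : N → N, ∀ w : N, ((f w : N) : G) = (w : G) * (ρ b (w : G))⁻¹ :=
    ⟨fun w => ⟨(w : G) * (ρ b (w : G))⁻¹, mul_mem w.2 (inv_mem (hN _ w.2))⟩, fun _ => rfl⟩
  have hinj : Function.Injective f := by
    intro w w' hww
    have h1 : (w : G) * (ρ b (w : G))⁻¹ = (w' : G) * (ρ b (w' : G))⁻¹ := by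
      rw [← hf, ← hf, hww]
    have h2 : ρ b ((w' : G)⁻¹ * (w : G)) = (w' : G)⁻¹ * (w : G) := by
      rw [map_mul, map_inv]
      have h3 : (w' : G)⁻¹ * (w : G) = (ρ b (w' : G))⁻¹ * ρ b (w : G) := by
        have h4 : (w : G) = (w' : G) * (ρ b (w' : G))⁻¹ * ρ b (w : G) := by
          rw [← h1, inv_mul_cancel_right]
        calc (w' : G)⁻¹ * (w : G) = (w' : G)⁻¹ * ((w' : G) * (ρ b (w' : G))⁻¹ * ρ b (w : G)) := by
              rw [← h4]
          _ = (ρ b (w' : G))⁻¹ * ρ b (w : G) := by group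
      rw [h3]
    have h5 := hb _ h2
    apply Subtype.ext
    have : (w : G) = (w' : G) * ((w' : G)⁻¹ * (w : G)) := by group
    rw [this, h5, mul_one]
  obtain ⟨w, hw⟩ := (Finite.injective_iff_surjective.1 hinj) ⟨x⁻¹ * ρ b x, hx⟩
  have hw' : (w : G) * (ρ b (w : G))⁻¹ = x⁻¹ * ρ b x := by
    rw [← hf, hw]
  have hfix : ρ b (x * (w : G)) = x * (w : G) := by
    rw [map_mul]
    have : ρ b x = x * ((w : G) * (ρ b (w : G))⁻¹) := by
      rw [hw', mul_inv_cancel_left]
    rw [this]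
    group
  have h1 := hb _ hfix
  have : x = (w : G)⁻¹ := eq_inv_of_mul_eq_one_left h1
  rw [this]
  exact inv_mem w.2

/-- powers of `ξ` whose exponent is not divisible by `d` fix no nonidentity element of `G`. -/
theorem hsz_fpf_of_K3 {ρ : A →* MulAut G} (h : hsz_C ρ) (ξ : A) (d : ℕ)
    (hK : hsz_K3 (hsz_actV ρ) ξ d) (j : ℕ) (hj : ¬ d ∣ j) (x : G) (hx : ρ (ξ ^ j) x = x) :
    x = 1 := by
  by_contra hx1
  obtain ⟨m, hm1, hm2⟩ := hsz_exists_invol h.pg x hx1
  apply hj
  apply hK.1 j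
  refine ⟨Additive.ofMul ⟨x ^ m, h.mem_V.2 hm2⟩, ?_, ?_⟩
  · intro he
    apply hm1
    exact congrArg (fun z : Additive (hsz_V G) => ((Additive.toMul z : hsz_V G) : G)) he
  · have : (Additive.toMul (hsz_actV ρ (ξ ^ j) (Additive.ofMul ⟨x ^ m, h.mem_V.2 hm2⟩)) : hsz_V G)
        = ⟨x ^ m, h.mem_V.2 hm2⟩ := by
      apply Subtype.ext
      rw [hsz_actV_apply]
      show ρ (ξ ^ j) (x ^ m) = x ^ m
      rw [map_pow, hx]
    exact congrArg Additive.ofMul this

/-- powers of `ξ` whose exponent is not divisible by `d` fix no nonidentity element of the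
quotient of `G` by an invariant subgroup. -/
theorem hsz_fpf_quot_of_K3 {ρ : A →* MulAut G} (h : hsz_C ρ) (ξ : A) (d : ℕ)
    (hK : hsz_K3 (hsz_actV ρ) ξ d) (j : ℕ) (hj : ¬ d ∣ j) (N : Subgroup G) (hN : hsz_Inv ρ N)
    (x : G) (hx : x⁻¹ * ρ (ξ ^ j) x ∈ N) : x ∈ N := by
  haveI := h.fin
  exact hsz_fpf_quot ρ (ξ ^ j) (hsz_fpf_of_K3 h ξ d hK j hj) N (fun y hy => hN _ y hy) x hx

/-- the number `d` of (K3) is at least two. -/
theorem hsz_K3_two_le {ρ : A →* MulAut G} (h : hsz_C ρ) (ξ : A) (d : ℕ)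
    (hK : hsz_K3 (hsz_actV ρ) ξ d) : 2 ≤ d := by
  haveI := h.fin
  have h3 := hK.2.2.1
  obtain ⟨x, y, hxy, hx1, hx2, hy1, hy2⟩ := h.four
  have hcard : 2 < Nat.card (Additive (hsz_V G)) := by
    have hinj : Function.Injective (fun i : Fin 3 =>
        (![Additive.ofMul (1 : hsz_V G), Additive.ofMul ⟨x, h.mem_V.2 hx2⟩,
          Additive.ofMul ⟨y, h.mem_V.2 hy2⟩] i : Additive (hsz_V G))) := by
      intro i j hij
      have key : ∀ i : Fin 3, ((Additive.toMul ((![Additive.ofMul (1 : hsz_V G),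
          Additive.ofMul ⟨x, h.mem_V.2 hx2⟩, Additive.ofMul ⟨y, h.mem_V.2 hy2⟩] i :
          Additive (hsz_V G))) : hsz_V G) : G) = ![1, x, y] i := by
        intro i
        fin_cases i <;> rfl
      have h1 : ![1, x, y] i = ![1, x, y] j := by
        rw [← key i, ← key j]
        exact congrArg (fun z : Additive (hsz_V G) => ((Additive.toMul z : hsz_V G) : G)) hij
      fin_cases i <;> fin_cases j <;> simp at h1 <;> first | rfl | (exfalso; tauto)
    have := Nat.card_le_card_of_injective _ hinj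
    rw [Nat.card_eq_fintype_card, Fintype.card_fin] at this
    omega
  by_contra hd
  have : d = 0 ∨ d = 1 := by omega
  rcases this with rfl | rfl <;> omega

end Cfsg.Agent.HSz
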