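import Mathlib
import Cfsg.Agent.HSz.Defs

set_option autoImplicit false
set_option linter.style.haveILetI false

/-!
Package H of the S3797 wrapper: an abelian 2-group with a group of automorphisms that is transitive
on the involutions is homocyclic.
-/

namespace Cfsg.Agent.HSz

universe u v

/-- in a product of groups `H i` of exponent `2 ^ m i`, each containing an element of order
`2 ^ m i`, in which any two involutions are related by an automorphism, all `m i` are equal. -/
theorem hsz_hom_eq {ι : Type*} [DecidableEq ι] (H : ι → Type*) [∀ i, Group (H i)]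
    (m : ι → ℕ) (hm : ∀ i, 1 ≤ m i) (hcyc : ∀ i, ∃ g : H i, orderOf g = 2 ^ m i)
    (hexp : ∀ i (z : H i), z ^ 2 ^ m i = 1)
    (htr : ∀ x y : (∀ i, H i), x ≠ 1 → x ^ 2 = 1 → y ≠ 1 → y ^ 2 = 1 →
      ∃ φ : (∀ i, H i) ≃* (∀ i, H i), φ x = y) :
    ∀ i j, m i = m j := by
  have key : ∀ i j, ¬ m i < m j := by
    intro i j hij
    obtain ⟨gi, hgi⟩ := hcyc i
    obtain ⟨gj, hgj⟩ := hcyc j
    obtain ⟨ki, hki⟩ : ∃ k, m i = k + 1 := ⟨m i - 1, by have := hm i; omega⟩
    obtain ⟨kj, hkj⟩ : ∃ k, m j = k + 1 := ⟨m j - 1, by have := hm j; omega⟩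
    have hxi1 : gi ^ 2 ^ ki ≠ 1 := by
      apply pow_ne_one_of_lt_orderOf (by positivity)
      rw [hgi, hki]
      exact Nat.pow_lt_pow_right (by norm_num) (by omega)
    have hxj1 : gj ^ 2 ^ kj ≠ 1 := by
      apply pow_ne_one_of_lt_orderOf (by positivity)
      rw [hgj, hkj]
      exact Nat.pow_lt_pow_right (by norm_num) (by omega)
    have hxi2 : (gi ^ 2 ^ ki) ^ 2 = 1 := by
      rw [← pow_mul, ← pow_succ, ← hki]
      exact hexp i gi
    have hxj2 : (gj ^ 2 ^ kj) ^ 2 = 1 := by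
      rw [← pow_mul, ← pow_succ, ← hkj]
      exact hexp j gj
    have hX1 : (Pi.mulSingle j (gj ^ 2 ^ kj) : ∀ i, H i) ≠ 1 := by
      intro h
      apply hxj1
      have := congrFun h j
      rwa [Pi.mulSingle_eq_same] at this
    have hY1 : (Pi.mulSingle i (gi ^ 2 ^ ki) : ∀ i, H i) ≠ 1 := by
      intro h
      apply hxi1
      have := congrFun h i
      rwa [Pi.mulSingle_eq_same] at this
    have hX2 : (Pi.mulSingle j (gj ^ 2 ^ kj) : ∀ i, H i) ^ 2 = 1 := by
      rw [← Pi.mulSingle_pow, hxj2, Pi.mulSingle_one]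
    have hY2 : (Pi.mulSingle i (gi ^ 2 ^ ki) : ∀ i, H i) ^ 2 = 1 := by
      rw [← Pi.mulSingle_pow, hxi2, Pi.mulSingle_one]
    obtain ⟨φ, hφ⟩ := htr _ _ hX1 hX2 hY1 hY2
    have h1 : (Pi.mulSingle j (gj ^ 2 ^ kj) : ∀ i, H i) = (Pi.mulSingle j gj) ^ 2 ^ kj := by
      rw [← Pi.mulSingle_pow]
    rw [h1, map_pow] at hφ
    have h2 := congrFun hφ i
    rw [Pi.pow_apply, Pi.mulSingle_eq_same] at h2
    apply hxi1
    rw [← h2]
    have h3 : 2 ^ kj = 2 ^ m i * 2 ^ (kj - m i) := by
      rw [← pow_add]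
      congr 1
      omega
    rw [h3, pow_mul, hexp, one_pow]
  intro i j
  rcases Nat.lt_trichotomy (m i) (m j) with h | h | h
  · exact absurd h (key i j)
  · exact h
  · exact absurd h (key j i)

/-- an abelian 2-group with a group of automorphisms that is transitive on the involutions is
homocyclic. -/
theorem hsz_homocyclic {S : Type u} [Group S] [Finite S] (hS : IsPGroup 2 S)
    (hab : ∀ x y : S, x * y = y * x) (Y : Subgroup (MulAut S))
    (hY : ∀ x y : S, x ≠ 1 → x ^ 2 = 1 → y ≠ 1 → y ^ 2 = 1 → ∃ a ∈ Y, a x = y) :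
    ∃ m r : ℕ, Nonempty (S ≃* (Fin r → Multiplicative (ZMod (2 ^ m)))) := by
  classical
  letI : CommGroup S := { ‹Group S› with mul_comm := hab }
  obtain ⟨ι, iι, n, hn, ⟨e⟩⟩ := CommGroup.equiv_prod_multiplicative_zmod_of_finite S
  have : Fact (Nat.Prime 2) := ⟨Nat.prime_two⟩
  -- each `n i` is a power of two
  have hpow : ∀ i, ∃ k, 1 ≤ k ∧ n i = 2 ^ k := by
    intro i
    have hne : ∀ i, NeZero (n i) := fun i => ⟨by have := hn i; omega⟩
    obtain ⟨a, ha⟩ := IsPGroup.iff_card.1 hS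
    have hcard : Nat.card S = ∏ i, n i := by
      rw [Nat.card_congr e.toEquiv, Nat.card_pi]
      apply Finset.prod_congr rfl
      intro i _
      rw [Nat.card_congr Multiplicative.toAdd, Nat.card_eq_fintype_card, ZMod.card]
    have hdvd : n i ∣ 2 ^ a := by
      rw [← ha, hcard]
      exact Finset.dvd_prod_of_mem n (Finset.mem_univ i)
    obtain ⟨k, _, hk⟩ := (Nat.dvd_prime_pow Nat.prime_two).1 hdvd
    refine ⟨k, ?_, hk⟩
    by_contra h0
    have hk0 : k = 0 := by omega
    have := hn i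
    rw [hk, hk0] at this
    omega
  choose m hm1 hm using hpow
  have hne : ∀ i, NeZero (n i) := fun i => ⟨by have := hn i; omega⟩
  -- generators and exponents of the factors
  have hcyc : ∀ i, ∃ g : Multiplicative (ZMod (n i)), orderOf g = 2 ^ m i := by
    intro i
    refine ⟨Multiplicative.ofAdd (1 : ZMod (n i)), ?_⟩
    rw [orderOf_ofAdd_eq_addOrderOf, ZMod.addOrderOf_one, hm]
  have hexp : ∀ i (z : Multiplicative (ZMod (n i))), z ^ 2 ^ m i = 1 := by
    intro i z
    have h1 : Nat.card (Multiplicative (ZMod (n i))) = 2 ^ m i := by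
      rw [Nat.card_congr Multiplicative.toAdd, Nat.card_eq_fintype_card, ZMod.card, hm]
    rw [← h1]
    exact pow_card_eq_one'
  have htr : ∀ x y : (∀ i, Multiplicative (ZMod (n i))), x ≠ 1 → x ^ 2 = 1 → y ≠ 1 → y ^ 2 = 1 →
      ∃ φ : (∀ i, Multiplicative (ZMod (n i))) ≃* (∀ i, Multiplicative (ZMod (n i))),
        φ x = y := by
    intro x y hx1 hx2 hy1 hy2
    have hx1' : e.symm x ≠ 1 := by
      intro h
      apply hx1
      have := congrArg e h
      rwa [MulEquiv.apply_symm_apply, map_one] at this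
    have hy1' : e.symm y ≠ 1 := by
      intro h
      apply hy1
      have := congrArg e h
      rwa [MulEquiv.apply_symm_apply, map_one] at this
    have hx2' : (e.symm x) ^ 2 = 1 := by rw [← map_pow, hx2, map_one]
    have hy2' : (e.symm y) ^ 2 = 1 := by rw [← map_pow, hy2, map_one]
    obtain ⟨a, _, ha⟩ := hY _ _ hx1' hx2' hy1' hy2'
    refine ⟨e.symm.trans (a.trans e), ?_⟩
    show e (a (e.symm x)) = y
    rw [ha, MulEquiv.apply_symm_apply]
  have hall := hsz_hom_eq (fun i => Multiplicative (ZMod (n i))) m hm1 hcyc hexp htr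
  -- assemble
  rcases isEmpty_or_nonempty ι with hι | ⟨⟨i₀⟩⟩
  · refine ⟨0, 0, ⟨?_⟩⟩
    have h1 : Subsingleton S := e.toEquiv.subsingleton
    exact
      { toFun := fun _ => 1
        invFun := fun _ => 1
        left_inv := fun x => Subsingleton.elim _ _
        right_inv := fun x => Subsingleton.elim _ _
        map_mul' := fun x y => by simp }
  · refine ⟨m i₀, Fintype.card ι, ⟨?_⟩⟩
    have hni : ∀ i, n i = 2 ^ m i₀ := fun i => by rw [hm i, hall i i₀]
    exact e.trans ((MulEquiv.piCongrRight (fun i =>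
      AddEquiv.toMultiplicative (ZMod.ringEquivCongr (hni i)).toAddEquiv)).trans
      (MulEquiv.arrowCongr (Fintype.equivFin ι) (MulEquiv.refl _)))

/-- an abelian member of the class is homocyclic. -/
theorem hsz_homocyclic_of_C {A : Type v} [Group A] {G : Type u} [Group G] (ρ : A →* MulAut G)
    (h : hsz_C ρ) (hab : ∀ x y : G, x * y = y * x) :
    ∃ m r : ℕ, Nonempty (G ≃* (Fin r → Multiplicative (ZMod (2 ^ m)))) := by
  have hfin := h.fin
  apply hsz_homocyclic h.pg hab ρ.range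
  intro x y hx1 hx2 hy1 hy2
  obtain ⟨a, ha⟩ := h.trans x y hx1 hx2 hy1 hy2
  exact ⟨ρ a, ⟨a, rfl⟩, ha⟩

end Cfsg.Agent.HSz
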