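import Mathlib
import Cfsg.Agent.HSz.Defs
import Cfsg.Agent.HSz.Arith
import Cfsg.Agent.HSz.EndBasis

set_option autoImplicit false
set_option linter.unusedVariables false
set_option linter.style.haveILetI false
set_option linter.unusedSectionVars false

/-!
(K1) from the coordinates (package `K1` of the proof of S3776 and S3797): a biadditive map of a
finite field of `2 ^ n` elements is a sum of the maps `c i j * x ^ 2 ^ i * y ^ 2 ^ j`; the
equivariance under the scalar `λ` of order `d` leaves only the terms with `d ∣ 2 ^ i + 2 ^ j - 1`,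
which the arithmetic fact (N2) excludes for `i ≠ j`; the diagonal terms of an alternating map
vanish.
-/

namespace Cfsg.Agent.HSz

open Finset

universe u v

/-- the field version: a biadditive alternating map of the field that is equivariant under the
multiplication by `lam` vanishes. -/
theorem hsz_k1_field {F : Type*} [Field F] [Fintype F] [CharP F 2] {n f d : ℕ}
    (hcard : Fintype.card F = 2 ^ n) (hn2 : 2 ≤ n) (hfn : f ∣ n) (hfd : f * d = 2 ^ n - 1)
    (lam : F) (hlam : lam ≠ 0) (hord : orderOf lam = d)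
    (B : F → F →+ F) (hBadd : ∀ x x', B (x + x') = B x + B x')
    (hBalt : ∀ x, B x x = 0) (hBeq : ∀ x y, B (lam * x) (lam * y) = lam * B x y) :
    ∀ x y, B x y = 0 := by
  -- the coefficients in the second variable
  have hB0 : B 0 = 0 := by
    have h := hBadd 0 0
    rw [add_zero] at h
    exact left_eq_add.mp h
  let aj : Fin n → (F →+ F) := fun j =>
    { toFun := fun x => hsz_eb_coef hcard (B x) j
      map_zero' := by rw [hB0, map_zero]; rfl
      map_add' := fun x x' => by rw [hBadd, map_add]; rfl }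
  have haj : ∀ j x, aj j x = hsz_eb_coef hcard (B x) j := fun j x => rfl
  have hexp1 : ∀ x y, B x y = ∑ j : Fin n, aj j x * y ^ 2 ^ (j : ℕ) := by
    intro x y
    exact hsz_eb_coef_spec hcard (B x) y
  -- equivariance of the coefficients in the second variable
  have heq1 : ∀ (j : Fin n) (x : F), aj j (lam * x) * lam ^ 2 ^ (j : ℕ) = lam * aj j x := by
    intro j x
    have h := hsz_eb_conj hcard (B x) (B (lam * x)) lam 0 (by
      intro y
      rw [pow_zero, pow_one, pow_one]
      exact hBeq x y) j
    rw [pow_zero, pow_one] at h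
    exact h
  -- the double coefficients
  let cc : Fin n → Fin n → F := fun i j => hsz_eb_coef hcard (aj j) i
  have hexp2 : ∀ j x, aj j x = ∑ i : Fin n, cc i j * x ^ 2 ^ (i : ℕ) := by
    intro j x
    exact hsz_eb_coef_spec hcard (aj j) x
  have heq2 : ∀ i j : Fin n, cc i j * lam ^ 2 ^ (i : ℕ) * lam ^ 2 ^ (j : ℕ) = lam * cc i j := by
    intro i j
    have key : (fun i : Fin n => cc i j * lam ^ 2 ^ (i : ℕ) * lam ^ 2 ^ (j : ℕ) - lam * cc i j) =
        0 := by
      apply hsz_eb_unique hcard
      intro x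
      have h := heq1 j x
      rw [hexp2 j (lam * x), hexp2 j x, Finset.sum_mul, Finset.mul_sum] at h
      simp only [sub_mul, Finset.sum_sub_distrib]
      rw [sub_eq_zero]
      calc ∑ i : Fin n, cc i j * lam ^ 2 ^ (i : ℕ) * lam ^ 2 ^ (j : ℕ) * x ^ 2 ^ (i : ℕ)
          = ∑ i : Fin n, cc i j * (lam * x) ^ 2 ^ (i : ℕ) * lam ^ 2 ^ (j : ℕ) :=
            Finset.sum_congr rfl (fun i _ => by rw [mul_pow]; ring)
        _ = ∑ i : Fin n, lam * (cc i j * x ^ 2 ^ (i : ℕ)) := h
        _ = ∑ i : Fin n, lam * cc i j * x ^ 2 ^ (i : ℕ) :=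
            Finset.sum_congr rfl (fun i _ => by ring)
    have := congrFun key i
    simpa [sub_eq_zero] using this
  -- the off-diagonal coefficients vanish
  have hoff : ∀ i j : Fin n, i ≠ j → cc i j = 0 := by
    intro i j hij
    by_contra hne
    have h := heq2 i j
    have h1 : lam ^ (2 ^ (i : ℕ) + 2 ^ (j : ℕ)) = lam := by
      have h2 : cc i j * lam ^ (2 ^ (i : ℕ) + 2 ^ (j : ℕ)) = cc i j * lam := by
        rw [pow_add, ← mul_assoc, h, mul_comm]
      exact mul_left_cancel₀ hne h2
    have hpos : 1 ≤ 2 ^ (i : ℕ) + 2 ^ (j : ℕ) := by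
      have hp1 := Nat.one_le_two_pow (n := (i : ℕ))
      have hp2 := Nat.one_le_two_pow (n := (j : ℕ))
      omega
    have h3 : lam ^ (2 ^ (i : ℕ) + 2 ^ (j : ℕ) - 1) = 1 := by
      have h4 : lam ^ (2 ^ (i : ℕ) + 2 ^ (j : ℕ) - 1) * lam = 1 * lam := by
        rw [← pow_succ, Nat.sub_add_cancel hpos, h1, one_mul]
      exact mul_right_cancel₀ hlam h4
    have hdvd : d ∣ 2 ^ (i : ℕ) + 2 ^ (j : ℕ) - 1 := by
      rw [← hord]
      exact orderOf_dvd_of_pow_eq_one h3
    rcases lt_or_gt_of_ne (fun h => hij (Fin.ext h) : (i : ℕ) ≠ (j : ℕ)) with hlt | hgt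
    · exact hsz_arith_N2_dvd n f d hn2 hfn hfd i j hlt j.2 hdvd
    · rw [add_comm] at hdvd
      exact hsz_arith_N2_dvd n f d hn2 hfn hfd j i hgt i.2 hdvd
  -- the diagonal coefficients vanish
  have hdiag : ∀ j : Fin n, cc j j = 0 := by
    have key : (fun j : Fin n => cc j j) = 0 := by
      apply hsz_eb_unique hcard
      intro z
      obtain ⟨x, rfl⟩ := hsz_eb_pow_surjective (F := F) 1 z
      have h := hBalt x
      rw [hexp1 x x] at h
      rw [← h]
      apply Finset.sum_congr rfl
      intro j _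
      rw [hexp2 j x, Finset.sum_eq_single j]
      · show cc j j * (x ^ 2 ^ 1) ^ 2 ^ (j : ℕ) = cc j j * x ^ 2 ^ (j : ℕ) * x ^ 2 ^ (j : ℕ)
        rw [pow_one, ← pow_mul, two_mul, pow_add]
        ring
      · intro i _ hij
        rw [hoff i j hij, zero_mul]
      · intro h
        exact absurd (Finset.mem_univ j) h
    intro j
    exact congrFun key j
  have hcc : ∀ i j : Fin n, cc i j = 0 := by
    intro i j
    by_cases hij : i = j
    · rw [hij]
      exact hdiag j
    · exact hoff i j hij
  intro x y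
  rw [hexp1 x y]
  apply Finset.sum_eq_zero
  intro j _
  rw [hexp2 j x]
  simp [hcc]

/-- (K1) from the coordinates. -/
theorem hsz_K1_of_coord {A : Type v} [Group A] {W : Type u} [AddCommGroup W]
    (act : A →* AddMonoid.End W) (ξ : A) (d : ℕ) (hc : hsz_Coord act ξ d) : hsz_K1 act := by
  obtain ⟨F, iF, iFt, e, c, s, n, f, hchar, hcard, hn2, hc0, hform, hsξ, hord, hfn, hfd⟩ := hc
  intro b halt heq x y
  haveI := hchar
  let B : F → F →+ F := fun x =>
    e.toAddMonoidHom.comp ((b (e.symm x)).comp e.symm.toAddMonoidHom)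
  have hB : ∀ x y, B x y = e (b (e.symm x) (e.symm y)) := fun x y => rfl
  have hξ : ∀ w, e (act ξ w) = c ξ * e w := by
    intro w
    rw [hform, hsξ, pow_zero, pow_one]
  have hsymm : ∀ x : F, e.symm (c ξ * x) = act ξ (e.symm x) := by
    intro x
    apply e.injective
    rw [e.apply_symm_apply, hξ, e.apply_symm_apply]
  have key := hsz_k1_field hcard hn2 hfn hfd (c ξ) (hc0 ξ) hord B (by
      intro x x'
      apply AddMonoidHom.ext
      intro y
      rw [AddMonoidHom.add_apply, hB, hB, hB, map_add, map_add b, AddMonoidHom.add_apply,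
        map_add]) (by
      intro x
      rw [hB, halt, map_zero]) (by
      intro x y
      rw [hB, hsymm, hsymm, heq, hξ, hB]) (e x) (e y)
  rw [hB, e.symm_apply_apply, e.symm_apply_apply] at key
  exact e.injective (key.trans (map_zero e).symm)

end Cfsg.Agent.HSz
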