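import Mathlib
import Cfsg.Agent.HSz.Defs
import Cfsg.Agent.HSz.Coord
import Cfsg.Agent.HSz.K1
import Cfsg.Agent.HSz.K3

set_option autoImplicit false

/-!
The coordinate hypotheses `hsz_Hyp` of the proof of S3776 and S3797 hold for every finite solvable
group: coordinates from the theorem of Huppert (`hsz_coord_exists`), then (K1) and (K3).
-/

namespace Cfsg.Agent.HSz

universe u v

/-- the coordinate hypotheses hold for every finite solvable group. -/
theorem hsz_hyp {A : Type v} [Group A] [Finite A] (hsol : Group.IsSolvable A) : hsz_Hyp.{u} A := by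
  intro W _ act ht
  obtain ⟨ξ, d, hc⟩ := hsz_coord_exists hsol act ht
  exact ⟨hsz_K1_of_coord act ξ d hc, ξ, d, hsz_K3_of_coord act ξ d hc⟩

end Cfsg.Agent.HSz
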