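import Mathlib
import Cfsg.Agent.HSz.Defs
import Cfsg.Agent.HSz.EndBasis

set_option autoImplicit false
set_option linter.unusedVariables false
set_option linter.style.haveILetI false
set_option linter.unusedSectionVars false

/-!
A field lemma for (K3) (proof of S3776 and S3797): in a finite field of `2 ^ n` elements, an
element `μ'` that satisfies every relation `∑ j ∈ J, μ ^ j = 0` of an element `μ` is one of the
conjugates `μ ^ 2 ^ l`, `l < n`, of `μ`.
-/

namespace Cfsg.Agent.HSz

open Finset Polynomial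

/-- the value of a polynomial over the field of two elements is the sum of the powers with the
exponents in its support. -/
theorem hsz_k3c_aeval {F : Type*} [Field F] [Algebra (ZMod 2) F] (P : (ZMod 2)[X]) (x : F) :
    aeval x P = ∑ j ∈ P.support, x ^ j := by
  have hcoef : ∀ a : ZMod 2, a ≠ 0 → a = 1 := by decide
  rw [aeval_def, eval₂_eq_sum, sum_def]
  apply Finset.sum_congr rfl
  intro j hj
  rw [hcoef _ (mem_support_iff.1 hj), map_one, one_mul]

/-- an element satisfying all the relations of `μ` over the prime field is a conjugate of `μ`. -/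
theorem hsz_k3c_conj {F : Type*} [Field F] [Fintype F] [CharP F 2] {n : ℕ}
    (hcard : Fintype.card F = 2 ^ n) (μ μ' : F)
    (h : ∀ J : Finset ℕ, ∑ j ∈ J, μ ^ j = 0 → ∑ j ∈ J, μ' ^ j = 0) :
    ∃ l, l < n ∧ μ' = μ ^ 2 ^ l := by
  letI : Algebra (ZMod 2) F := ZMod.algebra F 2
  have hn := hsz_eb_finrank (F := F) hcard
  have halg : IsAlgebraic (ZMod 2) μ := Algebra.IsAlgebraic.isAlgebraic μ
  have h1 : aeval μ' (minpoly (ZMod 2) μ) = 0 := by
    rw [hsz_k3c_aeval]
    apply h
    rw [← hsz_k3c_aeval]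
    exact minpoly.aeval (ZMod 2) μ
  obtain ⟨σ, hσ⟩ := minpoly.exists_algEquiv_of_root' halg h1
  obtain ⟨l, hl, hσl⟩ := hsz_coord_aut (σ : F ≃+* F)
  refine ⟨l, by rw [← hn]; exact hl, ?_⟩
  rw [← hσ, ← hσl μ]
  rfl

end Cfsg.Agent.HSz
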