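import Mathlib
import Cfsg.Agent.HSz.Defs
import Cfsg.Agent.HSz.Frame

set_option autoImplicit false

/-!
L0 of the theorem of Higman and Shaw: abelian invariant subgroups of a member of the class.  In an
abelian invariant subgroup with an element of order at least `2 ^ (k + 1)` every element of `V` is
a `2 ^ k`-th power, and in exponent exactly `2 ^ (k + 1)` the elements of order at most `2 ^ k`
are the squares.
-/

namespace Cfsg.Agent.HSz

open Subgroup

universe u v

variable {A : Type v} [Group A] {G : Type u} [Group G]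

/-- the `n`-th power map of a subgroup whose elements commute. -/
def hsz_l0_pow (X : Subgroup G) (hab : ∀ x ∈ X, ∀ y ∈ X, x * y = y * x) (n : ℕ) : X →* X :=
  MonoidHom.mk' (fun x => x ^ n) (by
    intro a b
    have hc : Commute a b := Subtype.ext (hab a a.2 b b.2)
    exact hc.mul_pow n)

@[simp]
theorem hsz_l0_pow_apply (X : Subgroup G) (hab : ∀ x ∈ X, ∀ y ∈ X, x * y = y * x) (n : ℕ) (x : X) :
    hsz_l0_pow X hab n x = x ^ n := rfl

/-- in an abelian invariant subgroup with an element of order at least `2 ^ (k + 1)` every element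
of `V` is a `2 ^ k`-th power. -/
theorem hsz_L0_cover {ρ : A →* MulAut G} (h : hsz_C ρ) (X : Subgroup G) (hX : hsz_Inv ρ X)
    (hab : ∀ x ∈ X, ∀ y ∈ X, x * y = y * x) (k : ℕ) (z : G) (hzX : z ∈ X) (hz : z ^ 2 ^ k ≠ 1) :
    ∀ v : G, v ^ 2 = 1 → ∃ y ∈ X, y ^ 2 ^ k = v := by
  intro v hv
  by_cases hv1 : v = 1
  · exact ⟨1, one_mem X, by rw [one_pow, hv1]⟩
  obtain ⟨m, hm1, hm2⟩ := hsz_exists_invol h.pg (z ^ 2 ^ k) hz
  obtain ⟨a, ha⟩ := h.trans _ _ hm1 hm2 hv1 hv
  refine ⟨ρ a (z ^ m), hX a _ (X.pow_mem hzX m), ?_⟩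
  rw [← map_pow, ← pow_mul, mul_comm, pow_mul, ha]

/-- in an abelian invariant subgroup of exponent exactly `2 ^ (k + 1)` the elements of order at
most `2 ^ k` are squares. -/
theorem hsz_L0_ker {ρ : A →* MulAut G} (h : hsz_C ρ) (X : Subgroup G) (hX : hsz_Inv ρ X)
    (hab : ∀ x ∈ X, ∀ y ∈ X, x * y = y * x) (k : ℕ) (hexp : ∀ x ∈ X, x ^ 2 ^ (k + 1) = 1)
    (z₀ : G) (hz₀X : z₀ ∈ X) (hz₀ : z₀ ^ 2 ^ k ≠ 1) :
    ∀ z ∈ X, z ^ 2 ^ k = 1 → ∃ y ∈ X, y ^ 2 = z := by
  have hfin : Finite G := h.fin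
  set fk : X →* X := hsz_l0_pow X hab (2 ^ k) with hfk
  set sq : X →* X := hsz_l0_pow X hab 2 with hsq
  -- the range of the `2 ^ k`-th power map is the kernel of the squaring map
  have h1 : fk.range = sq.ker := by
    ext x
    rw [MonoidHom.mem_range, MonoidHom.mem_ker]
    constructor
    · rintro ⟨y, rfl⟩
      apply Subtype.ext
      show ((y : G) ^ 2 ^ k) ^ 2 = 1
      rw [← pow_mul, ← pow_succ]
      exact hexp y y.2
    · intro hx
      have hx2 : (x : G) ^ 2 = 1 := congrArg Subtype.val hx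
      obtain ⟨y, hyX, hy⟩ := hsz_L0_cover h X hX hab k z₀ hz₀X hz₀ (x : G) hx2
      exact ⟨⟨y, hyX⟩, Subtype.ext hy⟩
  -- the squares lie in the kernel of the `2 ^ k`-th power map
  have h2 : sq.range ≤ fk.ker := by
    rintro _ ⟨y, rfl⟩
    rw [MonoidHom.mem_ker]
    apply Subtype.ext
    show ((y : G) ^ 2) ^ 2 ^ k = 1
    rw [← pow_mul, ← pow_succ']
    exact hexp y y.2
  -- the two subgroups have the same number of elements
  have h3 : Nat.card fk.ker * Nat.card fk.range = Nat.card X := by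
    rw [← Subgroup.index_ker]
    exact Subgroup.card_mul_index _
  have h4 : Nat.card sq.ker * Nat.card sq.range = Nat.card X := by
    rw [← Subgroup.index_ker]
    exact Subgroup.card_mul_index _
  have h5 : Nat.card fk.ker = Nat.card sq.range := by
    rw [h1] at h3
    have hpos : 0 < Nat.card sq.ker := Nat.card_pos
    have : Nat.card sq.ker * Nat.card fk.ker = Nat.card sq.ker * Nat.card sq.range := by
      rw [h4, mul_comm, h3]
    exact Nat.eq_of_mul_eq_mul_left hpos this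
  have h6 : sq.range = fk.ker := Subgroup.eq_of_le_of_card_ge h2 h5.le
  intro z hzX hz
  have hzk : (⟨z, hzX⟩ : X) ∈ fk.ker := by
    rw [MonoidHom.mem_ker]
    exact Subtype.ext hz
  rw [← h6] at hzk
  obtain ⟨y, hy⟩ := hzk
  exact ⟨(y : G), y.2, congrArg Subtype.val hy⟩

end Cfsg.Agent.HSz
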