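import Mathlib
import Cfsg.Agent.HSz.Defs
import Cfsg.Agent.HSz.Frame
import Cfsg.Agent.HSz.L0

set_option autoImplicit false

/-!
Higman–Shaw, lemma L1: a nonabelian member of the class whose derived subgroup lies in `V` is good.
-/

namespace Cfsg.Agent.HSz

open Subgroup
open scoped commutatorElement

universe u v

section core

variable {G : Type*} [Group G]

theorem hsz_l1_comm_mul_left (x y g : G)
    (h : ∀ t : G, ⁅y, g⁆ * t = t * ⁅y, g⁆) : ⁅x * y, g⁆ = ⁅x, g⁆ * ⁅y, g⁆ := by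
  have h1 : ⁅x * y, g⁆ = x * ⁅y, g⁆ * x⁻¹ * ⁅x, g⁆ := by
    simp only [commutatorElement_def]; group
  rw [h1, ← h x]
  have h2 := h ⁅x, g⁆
  calc ⁅y, g⁆ * x * x⁻¹ * ⁅x, g⁆ = ⁅y, g⁆ * ⁅x, g⁆ := by group
    _ = ⁅x, g⁆ * ⁅y, g⁆ := h2

theorem hsz_l1_comm_mul_right (x g h : G)
    (hc : ∀ t : G, ⁅x, h⁆ * t = t * ⁅x, h⁆) : ⁅x, g * h⁆ = ⁅x, g⁆ * ⁅x, h⁆ := by
  have h1 : ⁅x, g * h⁆ = ⁅x, g⁆ * (g * ⁅x, h⁆ * g⁻¹) := by
    simp only [commutatorElement_def]; group
  rw [h1, ← hc g]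
  congr 1
  group

theorem hsz_l1_comm_central_left (x z y : G) (hz : z ∈ center G) : ⁅x * z, y⁆ = ⁅x, y⁆ := by
  rw [commutatorElement_def, commutatorElement_def]
  have h1 : x * z * y * (x * z)⁻¹ * y⁻¹ = x * (z * (y * z⁻¹)) * x⁻¹ * y⁻¹ := by group
  rw [h1, ← mem_center_iff.1 hz (y * z⁻¹)]
  group

theorem hsz_l1_comm_central_right (x y z : G) (hz : z ∈ center G) : ⁅x, y * z⁆ = ⁅x, y⁆ := by
  rw [commutatorElement_def, commutatorElement_def]
  have h1 : x * (y * z) * x⁻¹ * (y * z)⁻¹ = x * y * (z * (x⁻¹ * z⁻¹)) * y⁻¹ := by group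
  rw [h1, ← mem_center_iff.1 hz (x⁻¹ * z⁻¹)]
  group

/-- in a group of class two whose commutators are involutions the squares are central. -/
theorem hsz_l1_sq_central (hcen : ∀ x y : G, ⁅x, y⁆ ∈ center G) (hder : ∀ x y : G, ⁅x, y⁆ ^ 2 = 1)
    (x : G) : x ^ 2 ∈ center G := by
  rw [mem_center_iff]
  intro g
  have h1 : ⁅x ^ 2, g⁆ = ⁅x, g⁆ ^ 2 := by
    rw [pow_two, pow_two, hsz_l1_comm_mul_left x x g
      (fun t => ((mem_center_iff.1 (hcen x g)) t).symm)]
  rw [hder, commutatorElement_def] at h1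
  have : x ^ 2 * g = x ^ 2 * g * (x ^ 2)⁻¹ * g⁻¹ * g * x ^ 2 := by group
  rw [this, h1, one_mul]

/-- the square of a product in a group of class two. -/
theorem hsz_l1_mul_sq (hcen : ∀ x y : G, ⁅x, y⁆ ∈ center G) (x y : G) :
    (x * y) ^ 2 = ⁅y, x⁆ * (x ^ 2 * y ^ 2) := by
  have h1 : y * x = ⁅y, x⁆ * (x * y) := by rw [commutatorElement_def]; group
  have h2 : (x * y) ^ 2 = x * (y * x) * y := by rw [pow_two]; group
  rw [h2, h1, ← mul_assoc x, mem_center_iff.1 (hcen y x) x, pow_two, pow_two]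
  group

/-- the `2 ^ (k + 1)`-th power map is multiplicative in a group of class two whose commutators
are involutions, for `1 ≤ k`. -/
theorem hsz_l1_pow_mul (hcen : ∀ x y : G, ⁅x, y⁆ ∈ center G) (hder : ∀ x y : G, ⁅x, y⁆ ^ 2 = 1)
    (k : ℕ) (hk : 1 ≤ k) (x y : G) :
    (x * y) ^ 2 ^ (k + 1) = x ^ 2 ^ (k + 1) * y ^ 2 ^ (k + 1) := by
  have e : ∀ t : G, t ^ 2 ^ (k + 1) = (t ^ 2) ^ 2 ^ k := by
    intro t
    rw [← pow_mul, pow_succ, mul_comm]
  rw [e, e x, e y, hsz_l1_mul_sq hcen]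
  have hx := hsz_l1_sq_central hcen hder x
  have hy := hsz_l1_sq_central hcen hder y
  have c1 : Commute ⁅y, x⁆ (x ^ 2 * y ^ 2) := ((mem_center_iff.1 (hcen y x)) _).symm
  have c2 : Commute (x ^ 2) (y ^ 2) := ((mem_center_iff.1 hx) _).symm
  rw [c1.mul_pow, c2.mul_pow]
  obtain ⟨j, rfl⟩ : ∃ j, k = j + 1 := ⟨k - 1, by omega⟩
  have : ⁅y, x⁆ ^ 2 ^ (j + 1) = 1 := by
    rw [pow_succ, mul_comm, pow_mul, hder, one_pow]
  rw [this, one_mul]

end core

section bilin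

variable {A : Type v} [Group A] {G : Type u} [Group G]

/-- from a multiplicative equivariant map `P` of `G` onto `V` with kernel the centre, the
commutator induces a nonzero alternating biadditive equivariant map on `V`. -/
theorem hsz_l1_bilin {ρ : A →* MulAut G} (h : hsz_C ρ)
    (hder : ∀ x y : G, ⁅x, y⁆ ^ 2 = 1) (hna : ∃ x y : G, x * y ≠ y * x)
    (P : G → G) (hPV : ∀ x, (P x) ^ 2 = 1) (hPmul : ∀ x y, P (x * y) = P x * P y)
    (hPker : ∀ x, P x = 1 → x ∈ center G) (hPsurj : ∀ v : G, v ^ 2 = 1 → ∃ x, P x = v)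
    (hPeqv : ∀ a x, P (ρ a x) = ρ a (P x)) :
    ∃ b : Additive (hsz_V G) →+ Additive (hsz_V G) →+ Additive (hsz_V G),
      (∀ x, b x x = 0) ∧
      (∀ a x y, b (hsz_actV ρ a x) (hsz_actV ρ a y) = hsz_actV ρ a (b x y)) ∧
      ∃ x y, b x y ≠ 0 := by
  classical
  have hcen : ∀ x y : G, ⁅x, y⁆ ∈ center G := fun x y => h.cent _ (hder x y)
  have hcomm : ∀ x y t : G, ⁅x, y⁆ * t = t * ⁅x, y⁆ :=
    fun x y t => ((mem_center_iff.1 (hcen x y)) t).symm
  have hP1 : P 1 = 1 := by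
    have := hPmul 1 1
    rw [one_mul] at this
    exact (mul_eq_left.1 this.symm)
  have hPinv : ∀ x, P x⁻¹ = (P x)⁻¹ := by
    intro x
    have := hPmul x⁻¹ x
    rw [inv_mul_cancel, hP1] at this
    exact eq_inv_of_mul_eq_one_left this.symm
  have hCL : ∀ x x' : G, P x = P x' → x⁻¹ * x' ∈ center G := by
    intro x x' hxx
    apply hPker
    rw [hPmul, hPinv, hxx, inv_mul_cancel]
  have hcongL : ∀ x x' y : G, P x = P x' → ⁅x, y⁆ = ⁅x', y⁆ := by
    intro x x' y hxx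
    have : x' = x * (x⁻¹ * x') := by group
    rw [this, hsz_l1_comm_central_left _ _ _ (hCL x x' hxx)]
  have hcongR : ∀ x y y' : G, P y = P y' → ⁅x, y⁆ = ⁅x, y'⁆ := by
    intro x y y' hyy
    have : y' = y * (y⁻¹ * y') := by group
    rw [this, hsz_l1_comm_central_right _ _ _ (hCL y y' hyy)]
  have hsec : ∀ v : hsz_V G, ∃ x : G, P x = (v : G) := fun v => hPsurj v v.2.2
  choose s hs using hsec
  let B : hsz_V G → hsz_V G → hsz_V G := fun v w => ⟨⁅s v, s w⁆, h.mem_V.2 (hder _ _)⟩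
  have hBval : ∀ v w, ((B v w : hsz_V G) : G) = ⁅s v, s w⁆ := fun v w => rfl
  have hB_left : ∀ v v' w, B (v * v') w = B v w * B v' w := by
    intro v v' w
    apply Subtype.ext
    rw [Subgroup.coe_mul, hBval, hBval, hBval]
    have h1 : P (s (v * v')) = P (s v * s v') := by
      rw [hs, hPmul, hs, hs, Subgroup.coe_mul]
    rw [hcongL _ _ _ h1, hsz_l1_comm_mul_left _ _ _ (hcomm _ _)]
  have hB_right : ∀ v w w', B v (w * w') = B v w * B v w' := by
    intro v w w'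
    apply Subtype.ext
    rw [Subgroup.coe_mul, hBval, hBval, hBval]
    have h1 : P (s (w * w')) = P (s w * s w') := by
      rw [hs, hPmul, hs, hs, Subgroup.coe_mul]
    rw [hcongR _ _ _ h1, hsz_l1_comm_mul_right _ _ _ (hcomm _ _)]
  have hB_self : ∀ v, B v v = 1 := by
    intro v
    apply Subtype.ext
    rw [hBval, commutatorElement_def]
    simp
  have hB_eqv : ∀ a v w, B (hsz_res ρ (hsz_V G) (hsz_Inv_V ρ) a v)
      (hsz_res ρ (hsz_V G) (hsz_Inv_V ρ) a w) = hsz_res ρ (hsz_V G) (hsz_Inv_V ρ) a (B v w) := by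
    intro a v w
    apply Subtype.ext
    rw [hBval, hsz_res_coe, hBval]
    have h1 : P (s (hsz_res ρ (hsz_V G) (hsz_Inv_V ρ) a v)) = P (ρ a (s v)) := by
      rw [hs, hPeqv, hs, hsz_res_coe]
    have h2 : P (s (hsz_res ρ (hsz_V G) (hsz_Inv_V ρ) a w)) = P (ρ a (s w)) := by
      rw [hs, hPeqv, hs, hsz_res_coe]
    rw [hcongL _ _ _ h1, hcongR _ _ _ h2, commutatorElement_def, commutatorElement_def]
    simp only [map_mul, map_inv]
  let b : Additive (hsz_V G) →+ Additive (hsz_V G) →+ Additive (hsz_V G) :=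
    AddMonoidHom.mk' (fun v => AddMonoidHom.mk'
      (fun w => Additive.ofMul (B (Additive.toMul v) (Additive.toMul w)))
      (fun w w' => congrArg Additive.ofMul (hB_right (Additive.toMul v) (Additive.toMul w)
        (Additive.toMul w'))))
      (fun v v' => by
        apply AddMonoidHom.ext
        intro w
        exact congrArg Additive.ofMul (hB_left (Additive.toMul v) (Additive.toMul v')
          (Additive.toMul w)))
  have hb : ∀ v w, b v w = Additive.ofMul (B (Additive.toMul v) (Additive.toMul w)) :=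
    fun v w => rfl
  refine ⟨b, ?_, ?_, ?_⟩
  · intro x
    rw [hb, hB_self]
    rfl
  · intro a x y
    rw [hb, hb]
    exact congrArg Additive.ofMul (hB_eqv a (Additive.toMul x) (Additive.toMul y))
  · obtain ⟨x, y, hxy⟩ := hna
    refine ⟨Additive.ofMul ⟨P x, h.mem_V.2 (hPV x)⟩, Additive.ofMul ⟨P y, h.mem_V.2 (hPV y)⟩, ?_⟩
    intro h0
    rw [hb] at h0
    have h1 : B ⟨P x, h.mem_V.2 (hPV x)⟩ ⟨P y, h.mem_V.2 (hPV y)⟩ = 1 :=
      congrArg Additive.toMul h0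
    have h2 : ⁅s ⟨P x, h.mem_V.2 (hPV x)⟩, s ⟨P y, h.mem_V.2 (hPV y)⟩⁆ = 1 :=
      congrArg Subtype.val h1
    rw [hcongL _ x _ (hs _), hcongR _ _ y (hs _), commutatorElement_def] at h2
    apply hxy
    have : x * y = x * y * x⁻¹ * y⁻¹ * (y * x) := by group
    rw [this, h2, one_mul]

end bilin

section main

/-- the centre is invariant. -/
theorem hsz_l1_Inv_center {A : Type v} [Group A] {G : Type u} [Group G] (ρ : A →* MulAut G) :
    hsz_Inv ρ (center G) := by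
  intro a z hz
  rw [mem_center_iff] at hz ⊢
  intro g
  have h1 : g = ρ a ((ρ a)⁻¹ g) := by simp
  rw [h1, ← map_mul, ← map_mul, hz]

/-- L1: nonabelian member with derived subgroup inside `V` is good. -/
theorem hsz_L1 {A : Type v} [Group A] (hyp : hsz_Hyp.{u} A) {G : Type u} [Group G]
    {ρ : A →* MulAut G} (h : hsz_C ρ) (hna : ∃ x y : G, x * y ≠ y * x)
    (hder : ∀ x y : G, ⁅x, y⁆ ^ 2 = 1) : hsz_Good G := by
  classical
  have hcen : ∀ x y : G, ⁅x, y⁆ ∈ center G := fun x y => h.cent _ (hder x y)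
  have hsqc := hsz_l1_sq_central hcen hder
  have hZ : ∀ z ∈ center G, z ^ 2 = 1 := by
    by_contra hcon
    push Not at hcon
    obtain ⟨z₀, hz₀, hz₀2⟩ := hcon
    have hfin := h.fin
    have hex : ∃ e : ℕ, ∀ z ∈ center G, z ^ 2 ^ e = 1 := by
      have : Fact (Nat.Prime 2) := ⟨Nat.prime_two⟩
      obtain ⟨m, hm⟩ := IsPGroup.iff_card.1 h.pg
      exact ⟨m, fun z _ => by rw [← hm]; exact pow_card_eq_one'⟩
    have he0 : Nat.find hex ≠ 0 := by
      intro h0
      have := Nat.find_spec hex z₀ hz₀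
      rw [h0] at this
      apply hz₀2
      have hz1 : z₀ = 1 := by simpa using this
      rw [hz1, one_pow]
    have he1 : Nat.find hex ≠ 1 := by
      intro h1
      have := Nat.find_spec hex z₀ hz₀
      rw [h1] at this
      exact hz₀2 (by simpa using this)
    obtain ⟨k, hk⟩ : ∃ k, Nat.find hex = k + 1 := ⟨Nat.find hex - 1, by omega⟩
    have hk1 : 1 ≤ k := by omega
    have hexp : ∀ z ∈ center G, z ^ 2 ^ (k + 1) = 1 := by
      have := Nat.find_spec hex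
      rwa [hk] at this
    have hmin : ¬ ∀ z ∈ center G, z ^ 2 ^ k = 1 := Nat.find_min hex (by omega)
    push Not at hmin
    obtain ⟨z₁, hz₁, hz₁k⟩ := hmin
    have hab : ∀ x ∈ center G, ∀ y ∈ center G, x * y = y * x :=
      fun x _ y hy => (mem_center_iff.1 hy x)
    have hker := hsz_L0_ker h (center G) (hsz_l1_Inv_center ρ) hab k hexp z₁ hz₁ hz₁k
    have epow : ∀ t : G, t ^ 2 ^ (k + 1) = (t ^ 2) ^ 2 ^ k := by
      intro t
      rw [← pow_mul, pow_succ, mul_comm]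
    have hPV : ∀ x : G, (x ^ 2 ^ (k + 1)) ^ 2 = 1 := by
      intro x
      rw [← pow_mul, mul_comm, pow_mul]
      exact hexp _ (hsqc x)
    have hPmul := hsz_l1_pow_mul hcen hder k hk1
    have hPker : ∀ x : G, x ^ 2 ^ (k + 1) = 1 → x ∈ center G := by
      intro x hx
      rw [epow] at hx
      obtain ⟨y, hy, hy2⟩ := hker _ (hsqc x) hx
      have hcomm : Commute x y⁻¹ := Commute.inv_right ((mem_center_iff.1 hy) x)
      have h1 : (x * y⁻¹) ^ 2 = 1 := by
        rw [hcomm.mul_pow, inv_pow, hy2, mul_inv_cancel]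
      have h2 : x * y⁻¹ ∈ center G := h.cent _ h1
      have : x = (x * y⁻¹) * y := by group
      rw [this]
      exact (center G).mul_mem h2 hy
    have hPeqv : ∀ (a : A) (x : G), (ρ a x) ^ 2 ^ (k + 1) = ρ a (x ^ 2 ^ (k + 1)) := by
      intro a x
      rw [map_pow]
    have hPsurj : ∀ v : G, v ^ 2 = 1 → ∃ x : G, x ^ 2 ^ (k + 1) = v := by
      obtain ⟨x₁, y₁, hxy₁⟩ := hna
      have hx₁ : x₁ ^ 2 ^ (k + 1) ≠ 1 := by
        intro he
        exact hxy₁ ((mem_center_iff.1 (hPker x₁ he)) y₁).symm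
      intro v hv
      by_cases hv1 : v = 1
      · exact ⟨1, by rw [hv1, one_pow]⟩
      · obtain ⟨a, ha⟩ := h.trans _ v hx₁ (hPV x₁) hv1 hv
        exact ⟨ρ a x₁, by rw [hPeqv, ha]⟩
    obtain ⟨b, hb1, hb2, x, y, hxy⟩ := hsz_l1_bilin h hder hna (fun x => x ^ 2 ^ (k + 1))
      hPV hPmul hPker hPsurj hPeqv
    exact hxy ((hyp _ (hsz_actV ρ) (hsz_T_of_C h)).1 b hb1 hb2 x y)
  exact ⟨hZ, fun x => hZ _ (hsqc x), hder⟩

end main

end Cfsg.Agent.HSz
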