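import Mathlib
import Cfsg.Agent.HSz.Defs
import Cfsg.Agent.HSz.L1

set_option autoImplicit false

/-!
Higman–Shaw, lemma L2: a nonabelian member of the class has centre `V`.
-/

namespace Cfsg.Agent.HSz

open Subgroup
open scoped commutatorElement

universe u v

variable {A : Type*} [Group A] {G : Type*} [Group G]

theorem hsz_l2_comm_mul_left (x y g : G)
    (h : ∀ t : G, ⁅y, g⁆ * t = t * ⁅y, g⁆) : ⁅x * y, g⁆ = ⁅x, g⁆ * ⁅y, g⁆ := by
  have h1 : ⁅x * y, g⁆ = x * ⁅y, g⁆ * x⁻¹ * ⁅x, g⁆ := by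
    simp only [commutatorElement_def]; group
  rw [h1, ← h x]
  have h2 := h ⁅x, g⁆
  calc ⁅y, g⁆ * x * x⁻¹ * ⁅x, g⁆ = ⁅y, g⁆ * ⁅x, g⁆ := by group
    _ = ⁅x, g⁆ * ⁅y, g⁆ := h2

theorem hsz_l2_comm_sq_left (x g : G)
    (h : ∀ t : G, ⁅x, g⁆ * t = t * ⁅x, g⁆) : ⁅x ^ 2, g⁆ = ⁅x, g⁆ ^ 2 := by
  rw [pow_two, pow_two, hsz_l2_comm_mul_left x x g h]

/-- L2, step (a): if every element of `V` is the square of a central element, then every `y`
with `y ^ 2 ∈ V` is central. -/
theorem hsz_l2_core_a (V : Subgroup G) (hV : ∀ x : G, x ∈ V ↔ x ^ 2 = 1)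
    (hVc : V ≤ center G)
    (hsq : ∀ v ∈ V, ∃ z ∈ center G, z ^ 2 = v)
    (y : G) (hy : y ^ 2 ∈ V) : y ∈ center G := by
  obtain ⟨z, hz, hzy⟩ := hsq _ hy
  have hcomm : Commute y z⁻¹ :=
    Commute.inv_right ((mem_center_iff.1 hz) y)
  have h1 : (y * z⁻¹) ^ 2 = 1 := by
    rw [hcomm.mul_pow, inv_pow, hzy, mul_inv_cancel]
  have h2 : y * z⁻¹ ∈ center G := hVc ((hV _).2 h1)
  have : y = (y * z⁻¹) * z := by group
  rw [this]
  exact (center G).mul_mem h2 hz

/-- In a finite nonabelian `2`-group there is `x ∉ Z(G)` with `x² ∈ Z(G)` and `[x, G] ≤ Z(G)`. -/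
theorem hsz_l2_exists_second_center [Finite G] (h2G : IsPGroup 2 G)
    (hnab : ∃ a b : G, a * b ≠ b * a) :
    ∃ x : G, x ∉ center G ∧ x ^ 2 ∈ center G ∧ ∀ g : G, ⁅x, g⁆ ∈ center G := by
  classical
  have : Fact (Nat.Prime 2) := ⟨Nat.prime_two⟩
  have hne : center G ≠ ⊤ := by
    intro h
    obtain ⟨a, b, hab⟩ := hnab
    have ha : a ∈ center G := by rw [h]; trivial
    exact hab ((mem_center_iff.1 ha) b).symm
  have hnt : Nontrivial (G ⧸ center G) := by
    rw [← not_subsingleton_iff_nontrivial]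
    intro hs
    apply hne
    exact QuotientGroup.subsingleton_iff.1 hs
  have h2Q : IsPGroup 2 (G ⧸ center G) := h2G.to_quotient (center G)
  have := h2Q.center_nontrivial
  obtain ⟨⟨q, hq⟩, hq1⟩ := exists_ne (1 : center (G ⧸ center G))
  obtain ⟨x₀, rfl⟩ := QuotientGroup.mk_surjective q
  have hx₀ : x₀ ∉ center G := by
    intro h
    apply hq1
    apply Subtype.ext
    show ((x₀ : G) : G ⧸ center G) = 1
    exact (QuotientGroup.eq_one_iff _).2 h
  have hS : ∀ k : ℕ, ∀ g : G, ⁅x₀ ^ k, g⁆ ∈ center G := by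
    intro k g
    rw [← QuotientGroup.eq_one_iff, commutatorElement_def]
    simp only [QuotientGroup.mk_mul, QuotientGroup.mk_inv, QuotientGroup.mk_pow]
    have hc : ∀ t : G ⧸ center G, t * (x₀ : G ⧸ center G) =
        (x₀ : G ⧸ center G) * t := fun t => mem_center_iff.1 hq t
    have hcomm : Commute ((x₀ : G ⧸ center G) ^ k) (g : G ⧸ center G) :=
      (Commute.pow_left (show Commute (x₀ : G ⧸ center G) (g : G ⧸ center G)
        from (hc _).symm) k)
    rw [hcomm.eq]; group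
  have hex : ∃ k : ℕ, x₀ ^ (2 ^ k) ∈ center G := by
    obtain ⟨k, hk⟩ := h2G x₀
    exact ⟨k, by rw [hk]; exact Subgroup.one_mem _⟩
  have hk0 : Nat.find hex ≠ 0 := by
    intro h0
    have := Nat.find_spec hex
    rw [h0] at this
    exact hx₀ (by simpa using this)
  obtain ⟨j, hj⟩ : ∃ j, Nat.find hex = j + 1 := ⟨Nat.find hex - 1, by omega⟩
  refine ⟨x₀ ^ (2 ^ j), ?_, ?_, fun g => hS _ g⟩
  · exact Nat.find_min hex (by omega : j < Nat.find hex)
  · have := Nat.find_spec hex
    rw [hj] at this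
    rw [← pow_mul]
    have e : 2 ^ j * 2 = 2 ^ (j + 1) := by ring
    rw [e]; exact this

/-- L2, final step: the two inclusions `Z(G/V) ≤ Ω₁(G/V) ≤ Z(G)/V` are contradictory in a
nonabelian `2`-group. -/
theorem hsz_l2_core_b [Finite G] (h2G : IsPGroup 2 G) (V : Subgroup G)
    (hV : ∀ x : G, x ∈ V ↔ x ^ 2 = 1)
    (hnab : ∃ a b : G, a * b ≠ b * a)
    (h1 : ∀ x : G, (∀ g : G, ⁅x, g⁆ ∈ V) → x ^ 2 ∈ V)
    (h2 : ∀ y : G, y ^ 2 ∈ V → y ∈ center G) : False := by
  obtain ⟨x, hx, hx2, hxg⟩ := hsz_l2_exists_second_center h2G hnab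
  apply hx
  apply h2
  apply h1
  intro g
  rw [hV, ← hsz_l2_comm_sq_left x g
    (fun t => ((mem_center_iff.1 (hxg g)) t).symm)]
  rw [commutatorElement_def]
  have := (mem_center_iff.1 hx2) g
  rw [← this]; group

/-- an element `z` of a 2-group with `z ^ 2 ≠ 1` has a power `w` with `w ^ 2 ≠ 1`,
`(w ^ 2) ^ 2 = 1`. -/
theorem hsz_l2_order_four (h2G : IsPGroup 2 G) (z : G) (hz : z ^ 2 ≠ 1) :
    ∃ k : ℕ, (z ^ k) ^ 2 ≠ 1 ∧ ((z ^ k) ^ 2) ^ 2 = 1 := by
  classical
  have hex : ∃ k : ℕ, z ^ (2 ^ k) = 1 := h2G z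
  have h0 : Nat.find hex ≠ 0 := by
    intro h0
    have := Nat.find_spec hex
    rw [h0] at this
    apply hz
    have hz1 : z = 1 := by simpa using this
    rw [hz1, one_pow]
  have h1 : Nat.find hex ≠ 1 := by
    intro h1
    have := Nat.find_spec hex
    rw [h1] at this
    exact hz (by simpa using this)
  obtain ⟨j, hj⟩ : ∃ j, Nat.find hex = j + 2 := ⟨Nat.find hex - 2, by omega⟩
  refine ⟨2 ^ j, ?_, ?_⟩
  · have := Nat.find_min hex (by omega : j + 1 < Nat.find hex)
    rw [← pow_mul]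
    have e : 2 ^ j * 2 = 2 ^ (j + 1) := by ring
    rw [e]; exact this
  · have := Nat.find_spec hex
    rw [hj] at this
    rw [← pow_mul, ← pow_mul]
    have e : 2 ^ j * (2 * 2) = 2 ^ (j + 2) := by ring
    rw [e]; exact this

/-- the image of a central element under an automorphism is central. -/
theorem hsz_l2_aut_center (φ : MulAut G) {z : G} (hz : z ∈ center G) : φ z ∈ center G := by
  rw [mem_center_iff] at hz ⊢
  intro g
  have h1 : g = φ (φ⁻¹ g) := by simp
  rw [h1, ← map_mul, ← map_mul, hz]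

/-- L2, step 1: if the centre is not of exponent two then every element of `V` is the square of a
central element. -/
theorem hsz_l2_sq_center {ρ : A →* MulAut G} (h : hsz_C ρ) (z : G) (hz : z ∈ center G)
    (hz2 : z ^ 2 ≠ 1) : ∀ v ∈ hsz_V G, ∃ w ∈ center G, w ^ 2 = v := by
  obtain ⟨k, hk1, hk2⟩ := hsz_l2_order_four h.pg z hz2
  intro v hv
  by_cases hv1 : v = 1
  · exact ⟨1, one_mem _, by rw [hv1, one_pow]⟩
  · obtain ⟨a, ha⟩ := h.trans _ v hk1 hk2 hv1 hv.2
    refine ⟨ρ a (z ^ k), hsz_l2_aut_center _ (pow_mem hz k), ?_⟩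
    rw [← map_pow, ha]

/-- L2, step 3: if every element of `V` is the square of a central element then the quotient by
`V` with the induced action is again in the class. -/
theorem hsz_l2_C_quo {ρ : A →* MulAut G} (h : hsz_C ρ)
    (hsq : ∀ v ∈ hsz_V G, ∃ w ∈ center G, w ^ 2 = v) :
    hsz_C (hsz_quo ρ (hsz_V G) (hsz_Inv_V ρ)) := by
  have hV : ∀ x : G, x ∈ hsz_V G ↔ x ^ 2 = 1 := fun x => h.mem_V
  have hcen : ∀ y : G, y ^ 2 ∈ hsz_V G → y ∈ center G :=
    hsz_l2_core_a (hsz_V G) hV (hsz_V_le_center G) hsq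
  have hfin := h.fin
  refine ⟨inferInstance, h.pg.to_quotient _, ?_, ?_, ?_⟩
  · intro x hx
    induction x using QuotientGroup.induction_on with
    | H y =>
      have hy : y ^ 2 ∈ hsz_V G := by
        rw [← QuotientGroup.eq_one_iff]; exact hx
      have hyc := hcen y hy
      rw [mem_center_iff]
      intro g
      induction g using QuotientGroup.induction_on with
      | H g =>
        rw [← QuotientGroup.mk_mul, ← QuotientGroup.mk_mul, mem_center_iff.1 hyc g]
  · obtain ⟨x, y, hxy, hx1, hx2, hy1, hy2⟩ := h.four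
    obtain ⟨zx, hzx, hzx2⟩ := hsq x ((hV x).2 hx2)
    obtain ⟨zy, hzy, hzy2⟩ := hsq y ((hV y).2 hy2)
    refine ⟨(zx : G ⧸ hsz_V G), (zy : G ⧸ hsz_V G), ?_, ?_, ?_, ?_, ?_⟩
    · intro he
      rw [QuotientGroup.eq] at he
      have h1 := (hV _).1 he
      have hcomm : Commute zx⁻¹ zy := Commute.inv_left ((mem_center_iff.1 hzy) zx)
      rw [hcomm.mul_pow, inv_pow, hzx2, hzy2] at h1
      apply hxy
      have : x = x * (x⁻¹ * y) := by rw [h1, mul_one]
      rw [this]; group
    · intro he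
      rw [QuotientGroup.eq_one_iff, hV] at he
      exact hx1 (by rw [← hzx2, he])
    · rw [← QuotientGroup.mk_pow, QuotientGroup.eq_one_iff, hzx2]
      exact (hV x).2 hx2
    · intro he
      rw [QuotientGroup.eq_one_iff, hV] at he
      exact hy1 (by rw [← hzy2, he])
    · rw [← QuotientGroup.mk_pow, QuotientGroup.eq_one_iff, hzy2]
      exact (hV y).2 hy2
  · intro x y hx1 hx2 hy1 hy2
    induction x using QuotientGroup.induction_on with
    | H x' =>
    induction y using QuotientGroup.induction_on with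
    | H y' =>
      have hx'V : x' ^ 2 ∈ hsz_V G := by
        rw [← QuotientGroup.eq_one_iff]; exact hx2
      have hy'V : y' ^ 2 ∈ hsz_V G := by
        rw [← QuotientGroup.eq_one_iff]; exact hy2
      have hx'1 : x' ^ 2 ≠ 1 := by
        intro he
        apply hx1
        rw [QuotientGroup.eq_one_iff]
        exact (hV x').2 he
      have hy'1 : y' ^ 2 ≠ 1 := by
        intro he
        apply hy1
        rw [QuotientGroup.eq_one_iff]
        exact (hV y').2 he
      obtain ⟨a, ha⟩ := h.trans _ _ hx'1 hx'V.2 hy'1 hy'V.2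
      refine ⟨a, ?_⟩
      rw [hsz_quo_mk, QuotientGroup.eq]
      have hy'c := hcen y' hy'V
      have hcomm : Commute (ρ a x')⁻¹ y' := Commute.inv_left ((mem_center_iff.1 hy'c) _)
      rw [hV, hcomm.mul_pow, inv_pow, ← map_pow, ha, inv_mul_cancel]

/-- the quotient by `V` is smaller. -/
theorem hsz_l2_card_quo_lt {ρ : A →* MulAut G} (h : hsz_C ρ) :
    Nat.card (G ⧸ hsz_V G) < Nat.card G := by
  have hfin := h.fin
  obtain ⟨x, y, _, hx1, hx2, _, _⟩ := h.four
  have hcard := Subgroup.card_eq_card_quotient_mul_card_subgroup (hsz_V G)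
  have h2 : 2 ≤ Nat.card (hsz_V G) := by
    have hnt : Nontrivial (hsz_V G) :=
      ⟨⟨⟨x, h.mem_V.2 hx2⟩, 1, fun he => hx1 (congrArg Subtype.val he)⟩⟩
    exact Finite.one_lt_card
  have hpos : 0 < Nat.card (G ⧸ hsz_V G) := Nat.card_pos
  nlinarith

/-- L2: the centre of a nonabelian member is `V`. -/
theorem hsz_L2 {A : Type v} [Group A] (hyp : hsz_Hyp.{u} A) (G : Type u) [Group G]
    (ρ : A →* MulAut G) (h : hsz_C ρ) (hna : ∃ x y : G, x * y ≠ y * x) :
    ∀ x ∈ center G, x ^ 2 = 1 := by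
  have key : ∀ n : ℕ, ∀ (G : Type u) [Group G] (ρ : A →* MulAut G), hsz_C ρ →
      (∃ x y : G, x * y ≠ y * x) → Nat.card G = n → ∀ x ∈ center G, x ^ 2 = 1 := by
    intro n
    induction n using Nat.strong_induction_on with
    | _ n ih =>
      intro G _ ρ h hna hcard z hz
      by_contra hz2
      have hsq := hsz_l2_sq_center h z hz hz2
      have hQ := hsz_l2_C_quo h hsq
      have hcen := hsz_l2_core_a (hsz_V G) (fun x => h.mem_V) (hsz_V_le_center G) hsq
      by_cases hQab : ∃ x y : G ⧸ hsz_V G, x * y ≠ y * x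
      · have hlt : Nat.card (G ⧸ hsz_V G) < n := hcard ▸ hsz_l2_card_quo_lt h
        have hZQ := ih _ hlt (G ⧸ hsz_V G) _ hQ hQab rfl
        have hfin := h.fin
        apply hsz_l2_core_b h.pg (hsz_V G) (fun x => h.mem_V) hna ?_ hcen
        intro x hx
        have hxc : (x : G ⧸ hsz_V G) ∈ center (G ⧸ hsz_V G) := by
          rw [mem_center_iff]
          intro g
          induction g using QuotientGroup.induction_on with
          | H g =>
            rw [← QuotientGroup.mk_mul, ← QuotientGroup.mk_mul, QuotientGroup.eq]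
            have e : (g * x)⁻¹ * (x * g) = g⁻¹ * ⁅x⁻¹, g⁆⁻¹ * g⁻¹⁻¹ := by
              rw [commutatorElement_def]; group
            have hx' : ⁅x⁻¹, g⁆ ∈ hsz_V G := by
              have e2 : ⁅x⁻¹, g⁆ = x⁻¹ * ⁅x, g⁆⁻¹ * x⁻¹⁻¹ := by
                rw [commutatorElement_def, commutatorElement_def]; group
              rw [e2]
              exact (hsz_V_normal G).conj_mem _ (inv_mem (hx g)) _
            rw [e]
            exact (hsz_V_normal G).conj_mem _ (inv_mem hx') _
        have h3 := hZQ _ hxc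
        rw [← QuotientGroup.mk_pow, QuotientGroup.eq_one_iff] at h3
        exact h3
      · push Not at hQab
        have hder : ∀ x y : G, ⁅x, y⁆ ^ 2 = 1 := by
          intro x y
          rw [← h.mem_V, ← QuotientGroup.eq_one_iff, commutatorElement_def]
          simp only [QuotientGroup.mk_mul, QuotientGroup.mk_inv]
          rw [hQab (x : G ⧸ hsz_V G) (y : G ⧸ hsz_V G)]
          group
        have hgood := hsz_L1 hyp h hna hder
        exact hz2 (hgood.1 z hz)
  exact key _ G ρ h hna rfl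

end Cfsg.Agent.HSz
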