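import Mathlib
import Cfsg.Agent.HSz.Defs
import Cfsg.Agent.HSz.L1

set_option autoImplicit false

/-!
Higman–Shaw, lemma L3: a nonabelian invariant subgroup `N` with `[N, G] ≤ V` forces `G` to be good.
-/

namespace Cfsg.Agent.HSz

open Subgroup
open scoped commutatorElement

universe u v

section core

variable {G : Type*} [Group G]






/-- bilinearity of the commutator on the left when the commutators are central -/
theorem hsz_l3_comm_mul_left (x y g : G)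
    (h : ∀ t : G, ⁅y, g⁆ * t = t * ⁅y, g⁆) : ⁅x * y, g⁆ = ⁅x, g⁆ * ⁅y, g⁆ := by
  have h1 : ⁅x * y, g⁆ = x * ⁅y, g⁆ * x⁻¹ * ⁅x, g⁆ := by
    simp only [commutatorElement_def]; group
  rw [h1, ← h x]
  have h2 := h ⁅x, g⁆
  calc ⁅y, g⁆ * x * x⁻¹ * ⁅x, g⁆ = ⁅y, g⁆ * ⁅x, g⁆ := by group
    _ = ⁅x, g⁆ * ⁅y, g⁆ := h2

theorem hsz_l3_comm_mul_right (x g h : G)
    (hc : ∀ t : G, ⁅x, h⁆ * t = t * ⁅x, h⁆) : ⁅x, g * h⁆ = ⁅x, g⁆ * ⁅x, h⁆ := by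
  have h1 : ⁅x, g * h⁆ = ⁅x, g⁆ * (g * ⁅x, h⁆ * g⁻¹) := by
    simp only [commutatorElement_def]; group
  rw [h1, ← hc g]
  congr 1
  group

theorem hsz_l3_comm_sq_left (x g : G)
    (h : ∀ t : G, ⁅x, g⁆ * t = t * ⁅x, g⁆) : ⁅x ^ 2, g⁆ = ⁅x, g⁆ ^ 2 := by
  rw [pow_two, pow_two, hsz_l3_comm_mul_left x x g h]







/-- L3, step 1 (order 4 case): an element `c` with `c ^ 4 = 1` centralising `N` lies in `V`. -/
theorem hsz_l3_cent_aux (V N : Subgroup G) (hV : ∀ x : G, x ∈ V ↔ x ^ 2 = 1)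
    (hVN : V ≤ N)
    (hZN : ∀ x ∈ N, (∀ y ∈ N, x * y = y * x) → x ∈ V)
    (hsq : ∀ v ∈ V, v ≠ 1 → ∃ x ∈ N, x ^ 2 = v)
    (c : G) (hc : ∀ y ∈ N, c * y = y * c) (h4 : c ^ 4 = 1) : c ∈ V := by
  by_cases h2 : c ^ 2 = 1
  · exact (hV c).2 h2
  · have hc2V : c ^ 2 ∈ V := by
      rw [hV, ← pow_mul]; exact h4
    obtain ⟨x, hxN, hx⟩ := hsq _ hc2V h2
    have hcx : c * x = x * c := hc x hxN
    have hcomm : Commute x c⁻¹ := (Commute.inv_right (show Commute x c from hcx.symm))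
    have h1 : (x * c⁻¹) ^ 2 = 1 := by
      rw [hcomm.mul_pow, hx, inv_pow, mul_inv_cancel]
    have h3 : x * c⁻¹ ∈ V := (hV _).2 h1
    have hcN : c ∈ N := by
      have : c = (x * c⁻¹)⁻¹ * x := by group
      rw [this]
      exact N.mul_mem (N.inv_mem (hVN h3)) hxN
    exact hZN c hcN hc

/-- L3, step 1: `C_G(N) ≤ V` when `G` is a `2`-group. -/
theorem hsz_l3_cent (h2G : IsPGroup 2 G) (V N : Subgroup G) (hV : ∀ x : G, x ∈ V ↔ x ^ 2 = 1)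
    (hVN : V ≤ N)
    (hZN : ∀ x ∈ N, (∀ y ∈ N, x * y = y * x) → x ∈ V)
    (hsq : ∀ v ∈ V, v ≠ 1 → ∃ x ∈ N, x ^ 2 = v)
    (c : G) (hc : ∀ y ∈ N, c * y = y * c) : c ∈ V := by
  have key : ∀ k : ℕ, ∀ c : G, (∀ y ∈ N, c * y = y * c) → c ^ (2 ^ k) = 1 → c ∈ V := by
    intro k
    induction k with
    | zero =>
      intro c _ h
      have : c = 1 := by simpa using h
      rw [this]; exact V.one_mem
    | succ k ih =>
      intro c hc h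
      rcases Nat.eq_zero_or_pos k with hk | hk
      · subst hk
        exact (hV c).2 (by simpa using h)
      · -- c' = c^(2^(k-1)) has c'^4 = 1
        obtain ⟨j, rfl⟩ : ∃ j, k = j + 1 := ⟨k - 1, by omega⟩
        have hc' : ∀ y ∈ N, c ^ (2 ^ j) * y = y * c ^ (2 ^ j) := by
          intro y hy
          exact ((show Commute c y from hc y hy).pow_left _).eq
        have h4 : (c ^ (2 ^ j)) ^ 4 = 1 := by
          rw [← pow_mul]
          have : 2 ^ j * 4 = 2 ^ (j + 1 + 1) := by ring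
          rw [this]; exact h
        have hV' := hsz_l3_cent_aux V N hV hVN hZN hsq _ hc' h4
        have h5 : (c ^ (2 ^ j)) ^ 2 = 1 := (hV _).1 hV'
        apply ih c hc
        rw [← h5, ← pow_mul]
        congr 1
  obtain ⟨k, hk⟩ := h2G c
  exact key k c hc hk

/-- L3: if `N` has `[N,G] ≤ V`, `Z(N) ≤ V`, and every nontrivial element of `V` is a square in
`N`, then `G / V` is elementary abelian and `Z(G) ≤ V`. -/
theorem hsz_l3_core (h2G : IsPGroup 2 G) (V N : Subgroup G) (hV : ∀ x : G, x ∈ V ↔ x ^ 2 = 1)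
    (hVc : V ≤ Subgroup.center G) (hVN : V ≤ N)
    (hNG : ∀ n ∈ N, ∀ g : G, ⁅n, g⁆ ∈ V)
    (hZN : ∀ x ∈ N, (∀ y ∈ N, x * y = y * x) → x ∈ V)
    (hsq : ∀ v ∈ V, v ≠ 1 → ∃ x ∈ N, x ^ 2 = v) :
    (∀ g : G, g ^ 2 ∈ V) ∧ (∀ g h : G, ⁅g, h⁆ ∈ V) ∧ Subgroup.center G ≤ V := by
  have hcent : ∀ c : G, (∀ y ∈ N, c * y = y * c) → c ∈ V :=
    fun c hc => hsz_l3_cent h2G V N hV hVN hZN hsq c hc
  have hVcomm : ∀ v ∈ V, ∀ t : G, v * t = t * v := by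
    intro v hv t
    exact ((Subgroup.mem_center_iff.1 (hVc hv)) t).symm
  have hsqV : ∀ g : G, g ^ 2 ∈ V := by
    intro g
    apply hcent
    intro y hy
    -- ⁅y, g^2⁆ = ⁅y,g⁆^2 = 1
    have h1 : ⁅y, g * g⁆ = ⁅y, g⁆ * ⁅y, g⁆ :=
      hsz_l3_comm_mul_right y g g (hVcomm _ (hNG y hy g))
    have h2 : ⁅y, g⁆ * ⁅y, g⁆ = 1 := by
      have := (hV _).1 (hNG y hy g)
      rwa [pow_two] at this
    rw [h2, commutatorElement_def] at h1
    have h3 : y * (g * g) = (g * g) * y := by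
      have : y * (g * g) * y⁻¹ * (g * g)⁻¹ * (g * g) * y = (g * g) * y := by rw [h1]; group
      rw [← this]; group
    rw [pow_two]; exact h3.symm
  have hVnormal : ∀ v ∈ V, ∀ t : G, t * v * t⁻¹ ∈ V := by
    intro v hv t
    have : t * v * t⁻¹ = v := by rw [← hVcomm v hv t]; group
    rw [this]; exact hv
  refine ⟨hsqV, ?_, ?_⟩
  · intro g h
    have e : ⁅g, h⁆ = (g * h) ^ 2 * (h⁻¹ * (g⁻¹) ^ 2 * h⁻¹⁻¹) * (h⁻¹) ^ 2 := by
      rw [commutatorElement_def, pow_two, pow_two, pow_two]; group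
    rw [e]
    exact V.mul_mem (V.mul_mem (hsqV _) (hVnormal _ (hsqV _) _)) (hsqV _)
  · intro z hz
    apply hcent
    intro y _
    exact ((Subgroup.mem_center_iff.1 hz) y).symm

end core

/-- L3: a nonabelian invariant subgroup `N` with `[N, G] ≤ V` forces `G` to be good. -/
theorem hsz_L3 {A : Type v} [Group A] (hyp : hsz_Hyp.{u} A) {G : Type u} [Group G]
    {ρ : A →* MulAut G} (h : hsz_C ρ) (N : Subgroup G) (hN : hsz_Inv ρ N)
    (hNna : ∃ x ∈ N, ∃ y ∈ N, x * y ≠ y * x) (hNG : ∀ x ∈ N, ∀ g : G, ⁅x, g⁆ ^ 2 = 1) :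
    hsz_Good G := by
  obtain ⟨x₁, hx₁, y₁, hy₁, hxy₁⟩ := hNna
  have hne : ∃ x ∈ N, x ≠ 1 := by
    refine ⟨x₁, hx₁, ?_⟩
    intro he
    apply hxy₁
    rw [he, one_mul, mul_one]
  have hCN : hsz_C (hsz_res ρ N hN) := h.res N hN hne
  have hnaN : ∃ x y : N, x * y ≠ y * x := by
    refine ⟨⟨x₁, hx₁⟩, ⟨y₁, hy₁⟩, ?_⟩
    intro he
    exact hxy₁ (congrArg Subtype.val he)
  have hderN : ∀ x y : N, ⁅x, y⁆ ^ 2 = 1 := by
    intro x y
    apply Subtype.ext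
    have := hNG x x.2 y
    simpa [commutatorElement_def] using this
  have hgoodN : hsz_Good N := hsz_L1 hyp hCN hnaN hderN
  rw [hsz_Good_subgroup_iff] at hgoodN
  obtain ⟨hZN, hN4, _⟩ := hgoodN
  have hVN : hsz_V G ≤ N := h.V_le N hN hne
  have hV : ∀ x : G, x ∈ hsz_V G ↔ x ^ 2 = 1 := fun x => h.mem_V
  -- an element of `N` whose square is an involution
  have hx₀ : ∃ x₀ ∈ N, x₀ ^ 2 ≠ 1 := by
    by_contra hcon
    push Not at hcon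
    apply hxy₁
    exact ((mem_center_iff.1 (h.cent x₁ (hcon x₁ hx₁))) y₁).symm
  obtain ⟨x₀, hx₀N, hx₀2⟩ := hx₀
  have hsq : ∀ v ∈ hsz_V G, v ≠ 1 → ∃ x ∈ N, x ^ 2 = v := by
    intro v hv hv1
    obtain ⟨a, ha⟩ := h.trans _ v hx₀2 (hN4 x₀ hx₀N) hv1 hv.2
    exact ⟨ρ a x₀, hN a x₀ hx₀N, by rw [← map_pow, ha]⟩
  have hNG' : ∀ n ∈ N, ∀ g : G, ⁅n, g⁆ ∈ hsz_V G := fun n hn g => (hV _).2 (hNG n hn g)
  have hZN' : ∀ x ∈ N, (∀ y ∈ N, x * y = y * x) → x ∈ hsz_V G :=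
    fun x hx hxy => (hV x).2 (hZN x hx hxy)
  obtain ⟨h1, h2, h3⟩ := hsz_l3_core h.pg (hsz_V G) N hV (hsz_V_le_center G) hVN hNG' hZN' hsq
  refine ⟨fun x hx => (hV x).1 (h3 hx), fun x => (hV _).1 (h1 x), fun x y => (hV _).1 (h2 x y)⟩

end Cfsg.Agent.HSz
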