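import Mathlib
import Cfsg.Agent.HSz.Defs
import Cfsg.Agent.HSz.Frame

set_option autoImplicit false

/-!
Definitions for the last lemma of the theorem of Higman and Shaw: the preimage `H` of the centre of
`G / V`, its centralizer, commutator calculus modulo the central subgroup `V`, the map from `V` to
its additive version, the endomorphisms `b t` of `V`, and the situation of the proof by
contradiction.
-/

namespace Cfsg.Agent.HSz

open Subgroup
open scoped commutatorElement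

universe u v

variable {A : Type v} [Group A] {G : Type u} [Group G]

theorem hsz_V_comm {v : G} (hv : v ∈ hsz_V G) (g : G) : g * v = v * g := mem_center_iff.1 hv.1 g

theorem hsz_V_conj {v : G} (hv : v ∈ hsz_V G) (g : G) : g * v * g⁻¹ = v := by
  rw [hsz_V_comm hv g, mul_assoc, mul_inv_cancel, mul_one]

theorem hsz_V_inv_eq {v : G} (hv : v ∈ hsz_V G) : v⁻¹ = v := by
  have h2 := hv.2
  rw [pow_two] at h2
  exact inv_eq_of_mul_eq_one_left h2

theorem hsz_comm_mul_right (x y z : G) : ⁅x, y * z⁆ = ⁅x, y⁆ * (y * ⁅x, z⁆ * y⁻¹) := by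
  simp only [commutatorElement_def]
  group

theorem hsz_comm_mul_left (x y z : G) : ⁅x * y, z⁆ = x * ⁅y, z⁆ * x⁻¹ * ⁅x, z⁆ := by
  simp only [commutatorElement_def]
  group

theorem hsz_comm_inv_right (x y : G) : ⁅x, y⁻¹⁆ = y⁻¹ * ⁅y, x⁆ * y := by
  simp only [commutatorElement_def]
  group

theorem hsz_comm_inv_left (x y : G) : ⁅x⁻¹, y⁆ = x⁻¹ * ⁅y, x⁆ * x := by
  simp only [commutatorElement_def]
  group

theorem hsz_comm_map (ρ : A →* MulAut G) (a : A) (x y : G) : ρ a ⁅x, y⁆ = ⁅ρ a x, ρ a y⁆ := by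
  simp only [commutatorElement_def, map_mul, map_inv]

/-- for each `y` the elements `z` with `[y, z] ∈ V` form a subgroup. -/
def hsz_orth (y : G) : Subgroup G where
  carrier := {z | ⁅y, z⁆ ∈ hsz_V G}
  mul_mem' := by
    intro a b ha hb
    show ⁅y, a * b⁆ ∈ hsz_V G
    rw [hsz_comm_mul_right, hsz_V_conj hb]
    exact mul_mem ha hb
  one_mem' := by
    show ⁅y, 1⁆ ∈ hsz_V G
    rw [commutatorElement_one_right]
    exact one_mem _
  inv_mem' := by
    intro a ha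
    show ⁅y, a⁻¹⁆ ∈ hsz_V G
    have h1 : ⁅a, y⁆ ∈ hsz_V G := by
      rw [← commutatorElement_inv]
      exact inv_mem ha
    rw [hsz_comm_inv_right, mul_assoc, ← hsz_V_comm h1 a, ← mul_assoc, inv_mul_cancel, one_mul]
    exact h1

theorem hsz_mem_orth {y z : G} : z ∈ hsz_orth y ↔ ⁅y, z⁆ ∈ hsz_V G := Iff.rfl

/-- the preimage of the centre of `G / V`. -/
def hsz_H (G : Type u) [Group G] : Subgroup G where
  carrier := {x | ∀ g : G, ⁅x, g⁆ ∈ hsz_V G}
  mul_mem' := by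
    intro a b ha hb g
    rw [hsz_comm_mul_left, hsz_V_conj (hb g)]
    exact mul_mem (hb g) (ha g)
  one_mem' := by
    intro g
    rw [commutatorElement_one_left]
    exact one_mem _
  inv_mem' := by
    intro a ha g
    have h1 : ⁅g, a⁆ ∈ hsz_V G := by
      rw [← commutatorElement_inv]
      exact inv_mem (ha g)
    rw [hsz_comm_inv_left, mul_assoc, ← hsz_V_comm h1 a, ← mul_assoc, inv_mul_cancel, one_mul]
    exact h1

theorem hsz_mem_H {x : G} : x ∈ hsz_H G ↔ ∀ g : G, ⁅x, g⁆ ∈ hsz_V G := Iff.rfl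

theorem hsz_mem_H' {x : G} (hx : x ∈ hsz_H G) (g : G) : ⁅g, x⁆ ∈ hsz_V G := by
  rw [← commutatorElement_inv]
  exact inv_mem (hx g)

theorem hsz_V_le_H (G : Type u) [Group G] : hsz_V G ≤ hsz_H G := by
  intro x hx g
  have : ⁅x, g⁆ = 1 := by
    rw [commutatorElement_eq_one_iff_mul_comm]
    exact (hsz_V_comm hx g).symm
  rw [this]
  exact one_mem _

instance hsz_H_normal (G : Type u) [Group G] : (hsz_H G).Normal := by
  constructor
  intro x hx k g
  have h1 : ⁅k * x * k⁻¹, g⁆ = k * ⁅x, k⁻¹ * g * k⁆ * k⁻¹ := by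
    simp only [commutatorElement_def]
    group
  rw [h1, hsz_V_conj (hx _)]
  exact hx _

theorem hsz_H_inv (ρ : A →* MulAut G) : hsz_Inv ρ (hsz_H G) := by
  intro a x hx g
  have h1 : g = ρ a (ρ a⁻¹ g) := by
    rw [← MulAut.mul_apply, ← map_mul, mul_inv_cancel, map_one, MulAut.one_apply]
  rw [h1, ← hsz_comm_map]
  exact hsz_Inv_V ρ a _ (hx _)

/-- for `x ∈ H` the commutator with `x` is multiplicative in the other variable. -/
theorem hsz_H_comm_mul {x : G} (hx : x ∈ hsz_H G) (g k : G) : ⁅x, g * k⁆ = ⁅x, g⁆ * ⁅x, k⁆ := by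
  rw [hsz_comm_mul_right, hsz_V_conj (hx k)]

theorem hsz_H_comm_inv {x : G} (hx : x ∈ hsz_H G) (g : G) : ⁅x, g⁻¹⁆ = ⁅x, g⁆⁻¹ := by
  have h1 := hsz_H_comm_mul hx g g⁻¹
  rw [mul_inv_cancel, commutatorElement_one_right] at h1
  exact (inv_eq_of_mul_eq_one_right h1.symm).symm

theorem hsz_H_comm_pow {x : G} (hx : x ∈ hsz_H G) (g : G) (n : ℕ) : ⁅x, g ^ n⁆ = ⁅x, g⁆ ^ n := by
  induction n with
  | zero => rw [pow_zero, pow_zero, commutatorElement_one_right]
  | succ n ih => rw [pow_succ, hsz_H_comm_mul hx, ih, pow_succ]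

/-- for `x, y ∈ H` the commutator is multiplicative in the first variable. -/
theorem hsz_H_mul_comm {x y : G} (hy : y ∈ hsz_H G) (g : G) :
    ⁅x * y, g⁆ = ⁅x, g⁆ * ⁅y, g⁆ := by
  rw [hsz_comm_mul_left, hsz_V_conj (hy g), hsz_V_comm (hy g)]

theorem hsz_H_pow_comm {x : G} (hx : x ∈ hsz_H G) (g : G) (n : ℕ) : ⁅x ^ n, g⁆ = ⁅x, g⁆ ^ n := by
  induction n with
  | zero => rw [pow_zero, pow_zero, commutatorElement_one_left]
  | succ n ih => rw [pow_succ, hsz_H_mul_comm hx, ih, pow_succ]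

theorem hsz_H_inv_comm {x : G} (hx : x ∈ hsz_H G) (g : G) : ⁅x⁻¹, g⁆ = ⁅x, g⁆⁻¹ := by
  have h1 := hsz_H_mul_comm (x := x⁻¹) hx g
  rw [inv_mul_cancel, commutatorElement_one_left] at h1
  exact (inv_eq_of_mul_eq_one_left h1.symm).symm

/-- the centralizer of `H`. -/
def hsz_Cn (G : Type u) [Group G] : Subgroup G := centralizer (hsz_H G : Set G)

theorem hsz_mem_Cn {c : G} : c ∈ hsz_Cn G ↔ ∀ x ∈ hsz_H G, x * c = c * x := by
  rw [hsz_Cn, mem_centralizer_iff]
  rfl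

theorem hsz_mem_Cn_iff_comm {c : G} : c ∈ hsz_Cn G ↔ ∀ x ∈ hsz_H G, ⁅x, c⁆ = 1 := by
  rw [hsz_mem_Cn]
  constructor
  · intro h x hx
    rw [commutatorElement_eq_one_iff_mul_comm]
    exact h x hx
  · intro h x hx
    rw [← commutatorElement_eq_one_iff_mul_comm]
    exact h x hx

instance hsz_Cn_normal (G : Type u) [Group G] : (hsz_Cn G).Normal := by
  constructor
  intro c hc k
  rw [hsz_mem_Cn] at hc ⊢
  intro x hx
  have h1 := hc (k⁻¹ * x * k⁻¹⁻¹) ((hsz_H_normal G).conj_mem x hx k⁻¹)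
  rw [inv_inv] at h1
  calc x * (k * c * k⁻¹) = k * ((k⁻¹ * x * k) * c) * k⁻¹ := by group
    _ = k * (c * (k⁻¹ * x * k)) * k⁻¹ := by rw [h1]
    _ = k * c * k⁻¹ * x := by group

theorem hsz_Cn_inv (ρ : A →* MulAut G) : hsz_Inv ρ (hsz_Cn G) := by
  intro a c hc
  rw [hsz_mem_Cn] at hc ⊢
  intro x hx
  have h1 : x = ρ a (ρ a⁻¹ x) := by
    rw [← MulAut.mul_apply, ← map_mul, mul_inv_cancel, map_one, MulAut.one_apply]
  rw [h1, ← map_mul, ← map_mul, hc _ (hsz_H_inv ρ a⁻¹ x hx)]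

/-- the map from `G` to the additive version of `V` (zero outside `V`). -/
noncomputable def hsz_toW (x : G) : Additive (hsz_V G) := by
  classical
  exact if hx : x ∈ hsz_V G then Additive.ofMul ⟨x, hx⟩ else 0

theorem hsz_toW_of_mem {x : G} (hx : x ∈ hsz_V G) : hsz_toW x = Additive.ofMul ⟨x, hx⟩ := by
  unfold hsz_toW
  exact dif_pos hx

theorem hsz_toW_coe {x : G} (hx : x ∈ hsz_V G) :
    ((Additive.toMul (hsz_toW x) : hsz_V G) : G) = x := by
  rw [hsz_toW_of_mem hx]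
  rfl

theorem hsz_toW_mul {x y : G} (hx : x ∈ hsz_V G) (hy : y ∈ hsz_V G) :
    hsz_toW (x * y) = hsz_toW x + hsz_toW y := by
  rw [hsz_toW_of_mem hx, hsz_toW_of_mem hy, hsz_toW_of_mem (mul_mem hx hy)]
  rfl

theorem hsz_toW_one : hsz_toW (1 : G) = 0 := by
  rw [hsz_toW_of_mem (one_mem _)]
  rfl

theorem hsz_toW_inj {x y : G} (hx : x ∈ hsz_V G) (hy : y ∈ hsz_V G) (h : hsz_toW x = hsz_toW y) :
    x = y := by
  rw [← hsz_toW_coe hx, ← hsz_toW_coe hy, h]

theorem hsz_toW_eq_zero {x : G} (hx : x ∈ hsz_V G) : hsz_toW x = 0 ↔ x = 1 := by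
  constructor
  · intro h
    apply hsz_toW_inj hx (one_mem _)
    rw [h, hsz_toW_one]
  · intro h
    rw [h, hsz_toW_one]

theorem hsz_toW_surj (w : Additive (hsz_V G)) : ∃ x ∈ hsz_V G, hsz_toW x = w :=
  ⟨((Additive.toMul w : hsz_V G) : G), (Additive.toMul w : hsz_V G).2, by
    rw [hsz_toW_of_mem (Additive.toMul w : hsz_V G).2]; rfl⟩

theorem hsz_toW_inv {x : G} (hx : x ∈ hsz_V G) : hsz_toW x⁻¹ = hsz_toW x := by
  rw [hsz_V_inv_eq hx]

theorem hsz_W_add_self (w : Additive (hsz_V G)) : w + w = 0 := by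
  obtain ⟨x, hx, rfl⟩ := hsz_toW_surj w
  rw [← hsz_toW_mul hx hx, ← pow_two, hx.2, hsz_toW_one]

theorem hsz_actV_toW (ρ : A →* MulAut G) (a : A) {x : G} (hx : x ∈ hsz_V G) :
    hsz_actV ρ a (hsz_toW x) = hsz_toW (ρ a x) := by
  rw [hsz_toW_of_mem hx, hsz_toW_of_mem (hsz_Inv_V ρ a x hx)]
  rfl

/-- the endomorphism `b t` of `V`: `b t (x ^ 2) = [x, t]` for `x ∈ H` (zero if there is no such
endomorphism). -/
noncomputable def hsz_b (G : Type u) [Group G] (t : G) :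
    Additive (hsz_V G) →+ Additive (hsz_V G) := by
  classical
  exact if h : ∃ φ : Additive (hsz_V G) →+ Additive (hsz_V G),
      ∀ x ∈ hsz_H G, φ (hsz_toW (x ^ 2)) = hsz_toW ⁅x, t⁆ then Classical.choose h else 0

theorem hsz_b_spec_of_exists (t : G) (h : ∃ φ : Additive (hsz_V G) →+ Additive (hsz_V G),
    ∀ x ∈ hsz_H G, φ (hsz_toW (x ^ 2)) = hsz_toW ⁅x, t⁆) :
    ∀ x ∈ hsz_H G, hsz_b G t (hsz_toW (x ^ 2)) = hsz_toW ⁅x, t⁆ := by
  unfold hsz_b
  rw [dif_pos h]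
  exact Classical.choose_spec h

/-- the invariant subgroups containing `H`. -/
def hsz_Lat (ρ : A →* MulAut G) (X : Subgroup G) : Prop := hsz_Inv ρ X ∧ hsz_H G ≤ X

/-- the set `F(s)`. -/
def hsz_Fp (s x : G) : Prop := x ∈ hsz_H G ∧ x ^ 2 = ⁅x, s⁆

/-- the situation of the proof by contradiction: a nonabelian member of the class, all smaller
nonabelian members being good, in which `H` is abelian. -/
structure hsz_S (ρ : A →* MulAut G) : Prop where
  cls : hsz_C ρ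
  finA : Finite A
  oddA : Odd (Nat.card A)
  hyp : hsz_Hyp.{u} A
  na : ∃ x y : G, x * y ≠ y * x
  IH : ∀ (G' : Type u) [Group G'] (ρ' : A →* MulAut G'), hsz_C ρ' →
    (∃ x y : G', x * y ≠ y * x) → Nat.card G' < Nat.card G → hsz_Good G'
  Hab : ∀ x ∈ hsz_H G, ∀ y ∈ hsz_H G, x * y = y * x

end Cfsg.Agent.HSz
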