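import Mathlib
import Cfsg.Agent.HSz.Defs
import Cfsg.Agent.HSz.Frame
import Cfsg.Agent.HSz.L0
import Cfsg.Agent.HSz.L2
import Cfsg.Agent.HSz.L4Defs

set_option autoImplicit false
set_option linter.unusedVariables false

/-!
Higman–Shaw, lemma L4, slice A (steps (a), (b) of the blueprint): in the situation `hsz_S ρ` the
centre is `V`, `H` is homocyclic of exponent four, its centralizer is abelian and contains the
squares and the commutators.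
-/

namespace Cfsg.Agent.HSz

open Subgroup
open scoped commutatorElement

universe u v

variable {A : Type v} [Group A] {G : Type u} [Group G] {ρ : A →* MulAut G}

/-- the centre is `V` (this is `hsz_L2`). -/
theorem hsz_S.center (s : hsz_S ρ) : ∀ x ∈ Subgroup.center G, x ^ 2 = 1 :=
  hsz_L2 s.hyp G ρ s.cls s.na

/-- the induction hypothesis for invariant proper nonabelian subgroups. -/
theorem hsz_S.IH_sub (s : hsz_S ρ) (X : Subgroup G) (hX : hsz_Inv ρ X) (hne : X ≠ ⊤)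
    (hna : ∃ x ∈ X, ∃ y ∈ X, x * y ≠ y * x) :
    (∀ x ∈ X, (∀ y ∈ X, x * y = y * x) → x ^ 2 = 1) ∧ (∀ x ∈ X, (x ^ 2) ^ 2 = 1) ∧
      ∀ x ∈ X, ∀ y ∈ X, ⁅x, y⁆ ^ 2 = 1 := by
  have hfin := s.cls.fin
  obtain ⟨x₁, hx₁, y₁, hy₁, hxy₁⟩ := hna
  have hne1 : ∃ x ∈ X, x ≠ 1 := by
    refine ⟨x₁, hx₁, ?_⟩
    intro he
    apply hxy₁
    rw [he, one_mul, mul_one]
  have hC : hsz_C (hsz_res ρ X hX) := s.cls.res X hX hne1
  have hnaX : ∃ x y : X, x * y ≠ y * x :=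
    ⟨⟨x₁, hx₁⟩, ⟨y₁, hy₁⟩, fun he => hxy₁ (congrArg Subtype.val he)⟩
  have hlt : Nat.card X < Nat.card G := by
    have hle : Nat.card X ≤ Nat.card G := Subgroup.card_le_card_group X
    rcases Nat.lt_or_ge (Nat.card X) (Nat.card G) with h | h
    · exact h
    · exact absurd (Subgroup.card_eq_iff_eq_top X |>.1 (le_antisymm hle h)) hne
  have hgood := s.IH X (hsz_res ρ X hX) hC hnaX hlt
  exact (hsz_Good_subgroup_iff X).1 hgood

/-- `H ≠ V` (the centre of the nontrivial 2-group `G / V` is nontrivial). -/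
theorem hsz_S.exists_H (s : hsz_S ρ) : ∃ z ∈ hsz_H G, z ^ 2 ≠ 1 := by
  have hfin := s.cls.fin
  have : Fact (Nat.Prime 2) := ⟨Nat.prime_two⟩
  have hne : hsz_V G ≠ ⊤ := by
    intro h
    obtain ⟨a, b, hab⟩ := s.na
    have ha : a ∈ hsz_V G := by rw [h]; trivial
    exact hab (hsz_V_comm ha b).symm
  have hnt : Nontrivial (G ⧸ hsz_V G) := by
    rw [← not_subsingleton_iff_nontrivial]
    intro hs
    exact hne (QuotientGroup.subsingleton_iff.1 hs)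
  have h2Q : IsPGroup 2 (G ⧸ hsz_V G) := s.cls.pg.to_quotient (hsz_V G)
  have := h2Q.center_nontrivial
  obtain ⟨⟨q, hq⟩, hq1⟩ := exists_ne (1 : Subgroup.center (G ⧸ hsz_V G))
  obtain ⟨z, rfl⟩ := QuotientGroup.mk_surjective q
  refine ⟨z, ?_, ?_⟩
  · intro g
    rw [← QuotientGroup.eq_one_iff, commutatorElement_def]
    simp only [QuotientGroup.mk_mul, QuotientGroup.mk_inv]
    rw [← Subgroup.mem_center_iff.1 hq (g : G ⧸ hsz_V G)]
    group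
  · intro hz2
    apply hq1
    apply Subtype.ext
    show ((z : G) : G ⧸ hsz_V G) = 1
    rw [QuotientGroup.eq_one_iff]
    exact s.cls.mem_V.2 hz2

/-- squares of elements of `H` are central, so in `V`. -/
theorem hsz_S.H_sq (s : hsz_S ρ) : ∀ x ∈ hsz_H G, (x ^ 2) ^ 2 = 1 := by
  intro x hx
  apply s.center
  rw [Subgroup.mem_center_iff]
  intro g
  have h1 : ⁅x ^ 2, g⁆ = 1 := by
    rw [hsz_H_pow_comm hx g 2]
    exact (hx g).2
  rw [commutatorElement_eq_one_iff_mul_comm] at h1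
  exact h1.symm

/-- squaring maps `H` onto `V`. -/
theorem hsz_S.H_sq_surj (s : hsz_S ρ) : ∀ v : G, v ^ 2 = 1 → ∃ x ∈ hsz_H G, x ^ 2 = v := by
  obtain ⟨z, hz, hz2⟩ := s.exists_H
  intro v hv
  obtain ⟨y, hy, hyv⟩ := hsz_L0_cover s.cls (hsz_H G) (hsz_H_inv ρ) s.Hab 1 z hz
    (by rw [pow_one]; exact hz2) v hv
  rw [pow_one] at hyv
  exact ⟨y, hy, hyv⟩

theorem hsz_S.H_sq_inj (s : hsz_S ρ) : ∀ x ∈ hsz_H G, ∀ y ∈ hsz_H G, x ^ 2 = y ^ 2 →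
    (x * y⁻¹) ^ 2 = 1 := by
  intro x hx y hy hxy
  have hcomm : Commute x y⁻¹ := Commute.inv_right (s.Hab x hx y hy)
  rw [hcomm.mul_pow, hxy, inv_pow, mul_inv_cancel]

theorem hsz_S.H_le_Cn (s : hsz_S ρ) : hsz_H G ≤ hsz_Cn G := by
  intro c hc
  rw [hsz_mem_Cn]
  intro x hx
  exact s.Hab x hx c hc

theorem hsz_S.Cn_ne_top (s : hsz_S ρ) : ∃ g : G, g ∉ hsz_Cn G := by
  by_contra hcon
  push Not at hcon
  obtain ⟨z, hz, hz2⟩ := s.exists_H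
  apply hz2
  apply s.center
  rw [Subgroup.mem_center_iff]
  intro g
  exact ((hsz_mem_Cn.1 (hcon g)) z hz).symm

/-- the centralizer of `H` is abelian (otherwise it is good by induction, but `H` lies in its
centre). -/
theorem hsz_S.Cn_ab (s : hsz_S ρ) : ∀ x ∈ hsz_Cn G, ∀ y ∈ hsz_Cn G, x * y = y * x := by
  by_contra hcon
  push Not at hcon
  obtain ⟨x, hx, y, hy, hxy⟩ := hcon
  have hne : hsz_Cn G ≠ ⊤ := by
    intro h
    obtain ⟨g, hg⟩ := s.Cn_ne_top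
    apply hg
    rw [h]; trivial
  obtain ⟨h1, _, _⟩ := s.IH_sub (hsz_Cn G) (hsz_Cn_inv ρ) hne ⟨x, hx, y, hy, hxy⟩
  obtain ⟨z, hz, hz2⟩ := s.exists_H
  apply hz2
  apply h1 z (s.H_le_Cn hz)
  intro c hc
  exact (hsz_mem_Cn.1 hc) z hz

/-- `H` contains the elements of order at most four of its centralizer. -/
theorem hsz_S.Cn_four (s : hsz_S ρ) : ∀ c ∈ hsz_Cn G, (c ^ 2) ^ 2 = 1 → c ∈ hsz_H G := by
  intro c hc hc4
  obtain ⟨x, hx, hx2⟩ := s.H_sq_surj (c ^ 2) hc4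
  have hcomm : Commute c x⁻¹ := Commute.inv_right ((hsz_mem_Cn.1 hc) x hx).symm
  have h1 : (c * x⁻¹) ^ 2 = 1 := by
    rw [hcomm.mul_pow, inv_pow, hx2, mul_inv_cancel]
  have h2 : c * x⁻¹ ∈ hsz_H G := hsz_V_le_H G (s.cls.mem_V.2 h1)
  have : c = (c * x⁻¹) * x := by group
  rw [this]
  exact mul_mem h2 hx

theorem hsz_S.sq_mem_Cn (s : hsz_S ρ) (t : G) : t ^ 2 ∈ hsz_Cn G := by
  rw [hsz_mem_Cn_iff_comm]
  intro x hx
  rw [hsz_H_comm_pow hx t 2]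
  exact (hx t).2

theorem hsz_S.comm_mem_Cn (s : hsz_S ρ) (x y : G) : ⁅x, y⁆ ∈ hsz_Cn G := by
  rw [hsz_mem_Cn_iff_comm]
  intro z hz
  rw [commutatorElement_def x y, hsz_H_comm_mul hz, hsz_H_comm_mul hz, hsz_H_comm_mul hz,
    hsz_H_comm_inv hz, hsz_H_comm_inv hz]
  have hc : ⁅z, x⁆ * ⁅z, y⁆ = ⁅z, y⁆ * ⁅z, x⁆ := hsz_V_comm (hz y) _
  calc ⁅z, x⁆ * ⁅z, y⁆ * ⁅z, x⁆⁻¹ * ⁅z, y⁆⁻¹
      = ⁅z, y⁆ * ⁅z, x⁆ * ⁅z, x⁆⁻¹ * ⁅z, y⁆⁻¹ := by rw [hc]
    _ = 1 := by group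

end Cfsg.Agent.HSz
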