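import Mathlib
import Cfsg.Agent.HSz.Defs
import Cfsg.Agent.HSz.Frame
import Cfsg.Agent.HSz.L4Defs
import Cfsg.Agent.HSz.L4a

set_option autoImplicit false

/-!
The endomorphisms `b t` of `V` in the situation of the last lemma of the theorem of Higman and
Shaw: `b t (x ^ 2) = [x, t]` for `x ∈ H`; the map `t ↦ b t` is additive, equivariant, and its kernel
is the centralizer of `H`.
-/

namespace Cfsg.Agent.HSz

open Subgroup
open scoped commutatorElement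

universe u v

variable {A : Type v} [Group A] {G : Type u} [Group G] {ρ : A →* MulAut G}

theorem hsz_S.mem_V (s : hsz_S ρ) {x : G} : x ∈ hsz_V G ↔ x ^ 2 = 1 := s.cls.mem_V

theorem hsz_S.H_sq_mem (s : hsz_S ρ) {x : G} (hx : x ∈ hsz_H G) : x ^ 2 ∈ hsz_V G :=
  s.cls.mem_V.2 (s.H_sq x hx)

/-- elements of `H` with the same square have the same commutators. -/
theorem hsz_S.comm_eq_of_sq_eq (s : hsz_S ρ) {x y : G} (hx : x ∈ hsz_H G) (hy : y ∈ hsz_H G)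
    (h : x ^ 2 = y ^ 2) (t : G) : ⁅x, t⁆ = ⁅y, t⁆ := by
  have hv : x * y⁻¹ ∈ hsz_V G := s.mem_V.2 (s.H_sq_inj x hx y hy h)
  have h1 : x = x * y⁻¹ * y := by group
  have h2 : ⁅x * y⁻¹, t⁆ = 1 := by
    rw [commutatorElement_eq_one_iff_mul_comm]
    exact (hsz_V_comm hv t).symm
  calc ⁅x, t⁆ = ⁅x * y⁻¹ * y, t⁆ := by rw [← h1]
    _ = ⁅y, t⁆ := by rw [hsz_H_mul_comm hy, h2, one_mul]

/-- every element of `W` is the square of an element of `H`. -/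
theorem hsz_S.W_rep (s : hsz_S ρ) (w : Additive (hsz_V G)) :
    ∃ x ∈ hsz_H G, hsz_toW (x ^ 2) = w := by
  obtain ⟨v, hv, rfl⟩ := hsz_toW_surj w
  obtain ⟨x, hx, rfl⟩ := s.H_sq_surj v hv.2
  exact ⟨x, hx, rfl⟩

theorem hsz_S.b_spec (s : hsz_S ρ) (t : G) : ∀ x ∈ hsz_H G,
    hsz_b G t (hsz_toW (x ^ 2)) = hsz_toW ⁅x, t⁆ := by
  apply hsz_b_spec_of_exists
  choose τ hτH hτ using s.W_rep
  have hsq : ∀ x ∈ hsz_H G, (τ (hsz_toW (x ^ 2))) ^ 2 = x ^ 2 := by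
    intro x hx
    exact hsz_toW_inj (s.H_sq_mem (hτH _)) (s.H_sq_mem hx) (hτ _)
  refine ⟨AddMonoidHom.mk' (fun w => hsz_toW ⁅τ w, t⁆) ?_, ?_⟩
  · intro w w'
    have h1 : (τ (w + w')) ^ 2 = (τ w * τ w') ^ 2 := by
      apply hsz_toW_inj (s.H_sq_mem (hτH _)) (s.H_sq_mem (mul_mem (hτH _) (hτH _)))
      have hc : Commute (τ w) (τ w') := s.Hab _ (hτH w) _ (hτH w')
      rw [hτ, hc.mul_pow, hsz_toW_mul (s.H_sq_mem (hτH _)) (s.H_sq_mem (hτH _)), hτ, hτ]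
    show hsz_toW ⁅τ (w + w'), t⁆ = hsz_toW ⁅τ w, t⁆ + hsz_toW ⁅τ w', t⁆
    rw [s.comm_eq_of_sq_eq (hτH _) (mul_mem (hτH _) (hτH _)) h1, hsz_H_mul_comm (hτH _),
      hsz_toW_mul (hτH w t) (hτH w' t)]
  · intro x hx
    show hsz_toW ⁅τ (hsz_toW (x ^ 2)), t⁆ = hsz_toW ⁅x, t⁆
    rw [s.comm_eq_of_sq_eq (hτH _) hx (hsq x hx)]

theorem hsz_S.b_mul (s : hsz_S ρ) (t t' : G) : hsz_b G (t * t') = hsz_b G t + hsz_b G t' := by
  apply AddMonoidHom.ext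
  intro w
  obtain ⟨x, hx, rfl⟩ := s.W_rep w
  rw [AddMonoidHom.add_apply, s.b_spec _ x hx, s.b_spec _ x hx, s.b_spec _ x hx,
    hsz_H_comm_mul hx, hsz_toW_mul (hx t) (hx t')]

theorem hsz_S.b_one (s : hsz_S ρ) : hsz_b G (1 : G) = 0 := by
  have h := s.b_mul 1 1
  rw [mul_one] at h
  exact (add_eq_left.1 h.symm)

theorem hsz_S.b_inv (s : hsz_S ρ) (t : G) : hsz_b G t⁻¹ = - hsz_b G t := by
  have h := s.b_mul t⁻¹ t
  rw [inv_mul_cancel, s.b_one] at h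
  exact eq_neg_of_add_eq_zero_left h.symm

theorem hsz_S.b_eq_zero (s : hsz_S ρ) (t : G) : hsz_b G t = 0 ↔ t ∈ hsz_Cn G := by
  rw [hsz_mem_Cn_iff_comm]
  constructor
  · intro h x hx
    have h1 := s.b_spec t x hx
    rw [h, AddMonoidHom.zero_apply] at h1
    exact (hsz_toW_eq_zero (hx t)).1 h1.symm
  · intro h
    apply AddMonoidHom.ext
    intro w
    obtain ⟨x, hx, rfl⟩ := s.W_rep w
    rw [s.b_spec t x hx, h x hx, hsz_toW_one, AddMonoidHom.zero_apply]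

theorem hsz_S.b_equiv (s : hsz_S ρ) (a : A) (t : G) :
    hsz_b G (ρ a t) = hsz_cj (hsz_actV ρ) a (hsz_b G t) := by
  apply AddMonoidHom.ext
  intro w
  obtain ⟨x, hx, rfl⟩ := s.W_rep w
  have hx' : ρ a⁻¹ x ∈ hsz_H G := hsz_H_inv ρ a⁻¹ x hx
  have h1 : ρ a (ρ a⁻¹ x) = x := by
    rw [← MulAut.mul_apply, ← map_mul, mul_inv_cancel, map_one, MulAut.one_apply]
  rw [hsz_cj_apply, hsz_actV_toW ρ a⁻¹ (s.H_sq_mem hx), map_pow, s.b_spec t _ hx',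
    hsz_actV_toW ρ a (hx' t), hsz_comm_map, h1, s.b_spec _ x hx]

/-- for an invariant subgroup `X` the `b t`, `t ∈ X`, form an invariant additive subgroup. -/
theorem hsz_S.exists_T (s : hsz_S ρ) (X : Subgroup G) (hX : hsz_Inv ρ X) :
    ∃ T : AddSubgroup (Additive (hsz_V G) →+ Additive (hsz_V G)),
      (∀ φ, φ ∈ T ↔ ∃ t ∈ X, hsz_b G t = φ) ∧
      ∀ a : A, ∀ φ ∈ T, hsz_cj (hsz_actV ρ) a φ ∈ T := by
  refine ⟨{ carrier := {φ | ∃ t ∈ X, hsz_b G t = φ}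
            add_mem' := ?_
            zero_mem' := ?_
            neg_mem' := ?_ }, ?_, ?_⟩
  · rintro _ _ ⟨t, ht, rfl⟩ ⟨t', ht', rfl⟩
    exact ⟨t * t', mul_mem ht ht', s.b_mul t t'⟩
  · exact ⟨1, one_mem _, s.b_one⟩
  · rintro _ ⟨t, ht, rfl⟩
    exact ⟨t⁻¹, inv_mem ht, s.b_inv t⟩
  · intro φ
    rfl
  · rintro a _ ⟨t, ht, rfl⟩
    exact ⟨ρ a t, hX a t ht, s.b_equiv a t⟩

/-- no nonzero `b t` is fixed by `ξ`. -/
theorem hsz_S.b_fix (s : hsz_S ρ) (ξ : A) (d : ℕ) (hK : hsz_K3 (hsz_actV ρ) ξ d) (t : G)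
    (ht : hsz_cj (hsz_actV ρ) ξ (hsz_b G t) = hsz_b G t) : hsz_b G t = 0 := by
  rw [s.b_eq_zero]
  have hd := hsz_K3_two_le s.cls ξ d hK
  have h1 : ¬ d ∣ 1 := by
    intro h
    have := Nat.le_of_dvd one_pos h
    omega
  apply hsz_fpf_quot_of_K3 s.cls ξ d hK 1 h1 (hsz_Cn G) (hsz_Cn_inv ρ)
  rw [pow_one, ← s.b_eq_zero, s.b_mul, s.b_inv, s.b_equiv, ht, neg_add_cancel]

end Cfsg.Agent.HSz
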