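import Mathlib
import Cfsg.Agent.HSz.Defs
import Cfsg.Agent.HSz.Frame
import Cfsg.Agent.HSz.L0
import Cfsg.Agent.HSz.L4Defs
import Cfsg.Agent.HSz.L4a
import Cfsg.Agent.HSz.L4b

set_option autoImplicit false

/-!
Step (c) of the last lemma of the theorem of Higman and Shaw: in the situation of the proof by
contradiction the centralizer of `H` is `H`.
-/

namespace Cfsg.Agent.HSz

open Subgroup
open scoped commutatorElement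

universe u v

variable {A : Type v} [Group A] {G : Type u} [Group G] {ρ : A →* MulAut G}

/-- a nonzero invariant additive subgroup of endomorphisms contains an irreducible one. -/
theorem hsz_exists_irred {W : Type u} [AddCommGroup W] [Finite W] (act : A →* AddMonoid.End W)
    (T : AddSubgroup (W →+ W)) (hT : ∀ a : A, ∀ φ ∈ T, hsz_cj act a φ ∈ T) (hne : T ≠ ⊥) :
    ∃ T' : AddSubgroup (W →+ W), T' ≤ T ∧ T' ≠ ⊥ ∧ (∀ a : A, ∀ φ ∈ T', hsz_cj act a φ ∈ T') ∧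
      ∀ T'' : AddSubgroup (W →+ W), T'' ≤ T' → (∀ a : A, ∀ φ ∈ T'', hsz_cj act a φ ∈ T'') →
        T'' = ⊥ ∨ T'' = T' := by
  have hfin : Finite (W →+ W) := Finite.of_injective (fun φ : W →+ W => (φ : W → W))
    DFunLike.coe_injective
  obtain ⟨T', hT'S, hmin⟩ := WellFounded.has_min
    (measure (fun T' : AddSubgroup (W →+ W) => Nat.card T')).wf
    {T' : AddSubgroup (W →+ W) | T' ≤ T ∧ T' ≠ ⊥ ∧ ∀ a : A, ∀ φ ∈ T', hsz_cj act a φ ∈ T'}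
    ⟨T, le_rfl, hne, hT⟩
  refine ⟨T', hT'S.1, hT'S.2.1, hT'S.2.2, ?_⟩
  intro T'' hle hinv
  by_cases h0 : T'' = ⊥
  · exact Or.inl h0
  · right
    have h1 := hmin T'' ⟨hle.trans hT'S.1, h0, hinv⟩
    have h2 : Nat.card T' ≤ Nat.card T'' := not_lt.1 h1
    exact AddSubgroup.eq_of_le_of_card_ge hle h2

/-- the commutator with a square, for an element that commutes with its commutator. -/
theorem hsz_l4c_comm_sq (x t : G) (h : x * ⁅x, t⁆ = ⁅x, t⁆ * x) : ⁅x ^ 2, t⁆ = ⁅x, t⁆ ^ 2 := by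
  rw [pow_two, hsz_comm_mul_left, h, mul_inv_cancel_right, pow_two]

/-- conjugation by a square in terms of iterated commutators. -/
theorem hsz_l4c_conj_sq (c t : G) :
    t ^ 2 * c * (t ^ 2)⁻¹ = ⁅c, t⁆⁻¹ * ⁅⁅c, t⁆, t⁆ * ⁅c, t⁆⁻¹ * c := by
  simp only [commutatorElement_def, pow_two]
  group

/-- if the centralizer of `H` has an element of order eight, all `b t` are idempotent. -/
theorem hsz_S.b_idem (s : hsz_S ρ) (c₀ : G) (hc₀ : c₀ ∈ hsz_Cn G) (h8 : (c₀ ^ 2) ^ 2 ≠ 1) (t : G)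
    (w : Additive (hsz_V G)) : hsz_b G t (hsz_b G t w) = hsz_b G t w := by
  obtain ⟨v, hv, rfl⟩ := hsz_toW_surj w
  have h8' : c₀ ^ 2 ^ 2 ≠ 1 := by
    rw [pow_two 2, pow_mul]
    exact h8
  obtain ⟨c, hc, hcv⟩ := hsz_L0_cover s.cls (hsz_Cn G) (hsz_Cn_inv ρ) s.Cn_ab 2 c₀ hc₀ h8' v hv.2
  have hc4 : (c ^ 2) ^ 2 = v := by
    rw [← pow_mul, ← pow_two 2]
    exact hcv
  have hc2Cn : c ^ 2 ∈ hsz_Cn G := pow_mem hc 2
  have hc2H : c ^ 2 ∈ hsz_H G := s.Cn_four (c ^ 2) hc2Cn (by rw [hc4]; exact hv.2)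
  have heCn : ⁅c, t⁆ ∈ hsz_Cn G := s.comm_mem_Cn c t
  have h1 : ⁅c ^ 2, t⁆ = ⁅c, t⁆ ^ 2 := hsz_l4c_comm_sq c t (s.Cn_ab c hc _ heCn)
  have h2 : ⁅(c ^ 2) ^ 2, t⁆ = ⁅c ^ 2, t⁆ ^ 2 :=
    hsz_l4c_comm_sq (c ^ 2) t (s.Cn_ab _ hc2Cn _ (s.comm_mem_Cn _ t))
  have h3 : (⁅c, t⁆ ^ 2) ^ 2 = 1 := by
    rw [← h1, ← h2, hc4, commutatorElement_eq_one_iff_mul_comm]
    exact (hsz_V_comm hv t).symm
  have heH : ⁅c, t⁆ ∈ hsz_H G := s.Cn_four _ heCn h3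
  have h4 : t ^ 2 * c * (t ^ 2)⁻¹ = c := by
    rw [s.Cn_ab _ (s.sq_mem_Cn t) c hc, mul_inv_cancel_right]
  have h5 : ⁅c, t⁆⁻¹ * ⁅⁅c, t⁆, t⁆ * ⁅c, t⁆⁻¹ = 1 := by
    have := hsz_l4c_conj_sq c t
    rw [h4] at this
    exact (mul_eq_right.1 this.symm)
  have h6 : ⁅⁅c, t⁆, t⁆ = ⁅c, t⁆ ^ 2 := by
    calc ⁅⁅c, t⁆, t⁆ = ⁅c, t⁆ * (⁅c, t⁆⁻¹ * ⁅⁅c, t⁆, t⁆ * ⁅c, t⁆⁻¹) * ⁅c, t⁆ := by group
      _ = ⁅c, t⁆ ^ 2 := by rw [h5, mul_one, pow_two]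
  have hbv : hsz_b G t (hsz_toW v) = hsz_toW (⁅c, t⁆ ^ 2) := by
    rw [← hc4, s.b_spec t (c ^ 2) hc2H, h1]
  rw [hbv, s.b_spec t _ heH, h6]

/-- the centralizer of `H` has exponent at most four. -/
theorem hsz_S.Cn_exp (s : hsz_S ρ) : ∀ c ∈ hsz_Cn G, (c ^ 2) ^ 2 = 1 := by
  intro c₀ hc₀
  by_contra h8
  have hfin : Finite G := s.cls.fin
  have hT := hsz_T_of_C s.cls
  obtain ⟨ξ, d, hK⟩ := (s.hyp _ _ hT).2
  obtain ⟨T, hTmem, hTinv⟩ := s.exists_T ⊤ (fun a x _ => Subgroup.mem_top _)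
  have hTne : T ≠ ⊥ := by
    obtain ⟨g, hg⟩ := s.Cn_ne_top
    intro h0
    have hm : hsz_b G g ∈ T := (hTmem _).2 ⟨g, Subgroup.mem_top _, rfl⟩
    rw [h0, AddSubgroup.mem_bot] at hm
    exact hg ((s.b_eq_zero g).1 hm)
  obtain ⟨T', hle, hne', hinv', hirr⟩ := hsz_exists_irred (hsz_actV ρ) T hTinv hTne
  have hfix : ∀ φ ∈ T', hsz_cj (hsz_actV ρ) ξ φ = φ → φ = 0 := by
    intro φ hφ hfx
    obtain ⟨t, -, rfl⟩ := (hTmem φ).1 (hle hφ)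
    exact s.b_fix ξ d hK t hfx
  have hinj := hK.2.2.2 T' hinv' hirr hfix
  obtain ⟨φ, hφ, hφ0⟩ : ∃ φ ∈ T', φ ≠ 0 := by
    by_contra hcon
    push Not at hcon
    apply hne'
    rw [eq_bot_iff]
    intro φ hφ
    rw [AddSubgroup.mem_bot]
    exact hcon φ hφ
  obtain ⟨t, -, rfl⟩ := (hTmem φ).1 (hle hφ)
  have hid : ∀ w, hsz_b G t w = w := fun w => hinj _ hφ hφ0 (s.b_idem c₀ hc₀ h8 t w)
  have hfx : hsz_cj (hsz_actV ρ) ξ (hsz_b G t) = hsz_b G t := by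
    apply AddMonoidHom.ext
    intro w
    rw [hsz_cj_apply, hid, hid]
    have h1 : hsz_actV ρ ξ (hsz_actV ρ ξ⁻¹ w) = (hsz_actV ρ ξ * hsz_actV ρ ξ⁻¹) w := rfl
    rw [h1, ← map_mul, mul_inv_cancel, map_one]
    rfl
  have h0 := hfix _ hφ hfx
  obtain ⟨x, y, hxy, hx, hy⟩ := hT.four
  apply hx
  rw [← hid x, h0]
  rfl

/-- the centralizer of `H` is `H`. -/
theorem hsz_S.Cn_eq_H (s : hsz_S ρ) : hsz_Cn G = hsz_H G :=
  le_antisymm (fun c hc => s.Cn_four c hc (s.Cn_exp c hc)) s.H_le_Cn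

end Cfsg.Agent.HSz
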