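import Mathlib
import Cfsg.Agent.HSz.Defs
import Cfsg.Agent.HSz.Frame
import Cfsg.Agent.HSz.L4Defs
import Cfsg.Agent.HSz.L4a
import Cfsg.Agent.HSz.L4b
import Cfsg.Agent.HSz.L4c

set_option autoImplicit false

/-!
Slice D of L4 in the proof of the theorem of Higman and Shaw: injectivity of the endomorphisms
`b t` from (K3) for minimal members of the lattice of invariant subgroups over `H`, and the
irreducible case.
-/

namespace Cfsg.Agent.HSz

open Subgroup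
open scoped commutatorElement

universe u v

variable {A : Type v} [Group A] {G : Type u} [Group G] {ρ : A →* MulAut G}

theorem hsz_S.sq_mem_H (s : hsz_S ρ) (t : G) : t ^ 2 ∈ hsz_H G := by
  rw [← s.Cn_eq_H]
  exact s.sq_mem_Cn t

theorem hsz_S.comm_mem_H (s : hsz_S ρ) (x y : G) : ⁅x, y⁆ ∈ hsz_H G := by
  rw [← s.Cn_eq_H]
  exact s.comm_mem_Cn x y

theorem hsz_S.b_eq_zero' (s : hsz_S ρ) (t : G) : hsz_b G t = 0 ↔ t ∈ hsz_H G := by
  rw [← s.Cn_eq_H]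
  exact s.b_eq_zero t

/-- proper members of the lattice have squares and commutators in `V`. -/
theorem hsz_S.Lat_proper (s : hsz_S ρ) (X : Subgroup G) (hX : hsz_Lat ρ X) (hne : X ≠ ⊤) :
    (∀ x ∈ X, (x ^ 2) ^ 2 = 1) ∧ ∀ x ∈ X, ∀ y ∈ X, ⁅x, y⁆ ^ 2 = 1 := by
  by_cases hab : ∀ x ∈ X, ∀ y ∈ X, x * y = y * x
  · -- `X` is abelian, so it centralizes `H` and lies in `H`
    have hXH : X ≤ hsz_H G := by
      intro x hx
      rw [← s.Cn_eq_H, hsz_mem_Cn]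
      intro y hy
      exact hab y (hX.2 hy) x hx
    refine ⟨fun x hx => s.H_sq x (hXH hx), fun x hx y hy => ?_⟩
    have : ⁅x, y⁆ = 1 := commutatorElement_eq_one_iff_mul_comm.2 (hab x hx y hy)
    rw [this, one_pow]
  · push Not at hab
    obtain ⟨x, hx, y, hy, hxy⟩ := hab
    have h := s.IH_sub X hX.1 hne ⟨x, hx, y, hy, hxy⟩
    exact ⟨h.2.1, h.2.2⟩

theorem hsz_S.not_all_comm (s : hsz_S ρ) : ¬ ∀ x y : G, ⁅x, y⁆ ^ 2 = 1 := by
  intro hall
  obtain ⟨x, y, hxy⟩ := s.na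
  have hxH : x ∈ hsz_H G := fun g => s.cls.mem_V.2 (hall x g)
  have hyH : y ∈ hsz_H G := fun g => s.cls.mem_V.2 (hall y g)
  exact hxy (s.Hab x hxH y hyH)

/-- (K3) for a member of the lattice that is minimal over `H`. -/
theorem hsz_S.b_inj (s : hsz_S ρ) (ξ : A) (d : ℕ) (hK : hsz_K3 (hsz_actV ρ) ξ d)
    (X : Subgroup G) (hX : hsz_Lat ρ X)
    (hmin : ∀ Y : Subgroup G, hsz_Lat ρ Y → Y ≤ X → Y = hsz_H G ∨ Y = X) :
    ∀ t ∈ X, t ∉ hsz_H G → Function.Injective (hsz_b G t) := by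
  obtain ⟨T, hTmem, hTinv⟩ := s.exists_T X hX.1
  have hirr : ∀ T' : AddSubgroup (Additive (hsz_V G) →+ Additive (hsz_V G)), T' ≤ T →
      (∀ a : A, ∀ φ ∈ T', hsz_cj (hsz_actV ρ) a φ ∈ T') → T' = ⊥ ∨ T' = T := by
    intro T' hT'T hT'inv
    let Y : Subgroup G :=
      { carrier := {t | t ∈ X ∧ hsz_b G t ∈ T'}
        mul_mem' := by
          rintro t t' ⟨ht, hbt⟩ ⟨ht', hbt'⟩
          refine ⟨X.mul_mem ht ht', ?_⟩
          rw [s.b_mul]
          exact T'.add_mem hbt hbt'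
        one_mem' := ⟨X.one_mem, by rw [s.b_one]; exact T'.zero_mem⟩
        inv_mem' := by
          rintro t ⟨ht, hbt⟩
          refine ⟨X.inv_mem ht, ?_⟩
          rw [s.b_inv]
          exact T'.neg_mem hbt }
    have hYmem : ∀ t, t ∈ Y ↔ t ∈ X ∧ hsz_b G t ∈ T' := fun t => Iff.rfl
    have hYlat : hsz_Lat ρ Y := by
      refine ⟨?_, ?_⟩
      · rintro a t ⟨ht, hbt⟩
        refine ⟨hX.1 a t ht, ?_⟩
        rw [s.b_equiv]
        exact hT'inv a _ hbt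
      · intro t ht
        refine ⟨hX.2 ht, ?_⟩
        rw [(s.b_eq_zero' t).2 ht]
        exact T'.zero_mem
    have hYX : Y ≤ X := fun t ht => ht.1
    rcases hmin Y hYlat hYX with hY | hY
    · left
      rw [eq_bot_iff]
      intro φ hφ
      obtain ⟨t, ht, rfl⟩ := (hTmem φ).1 (hT'T hφ)
      have htY : t ∈ Y := ⟨ht, hφ⟩
      rw [hY] at htY
      rw [AddSubgroup.mem_bot]
      exact (s.b_eq_zero' t).2 htY
    · right
      apply le_antisymm hT'T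
      intro φ hφ
      obtain ⟨t, ht, rfl⟩ := (hTmem φ).1 hφ
      have htY : t ∈ Y := by rw [hY]; exact ht
      exact htY.2
  have hfix : ∀ φ ∈ T, hsz_cj (hsz_actV ρ) ξ φ = φ → φ = 0 := by
    intro φ hφ hfx
    obtain ⟨t, -, rfl⟩ := (hTmem φ).1 hφ
    exact s.b_fix ξ d hK t hfx
  intro t ht htH
  apply hK.2.2.2 T hTinv hirr hfix (hsz_b G t) ((hTmem _).2 ⟨t, ht, rfl⟩)
  intro h0
  exact htH ((s.b_eq_zero' t).1 h0)

/-- the irreducible case. -/
theorem hsz_S.caseI (s : hsz_S ρ)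
    (hI : ∀ X : Subgroup G, hsz_Lat ρ X → X = hsz_H G ∨ X = ⊤) : False := by
  obtain ⟨-, ξ, d, hK⟩ := s.hyp _ _ (hsz_T_of_C s.cls)
  have htop : hsz_Lat ρ (⊤ : Subgroup G) := ⟨fun _ _ _ => Subgroup.mem_top _, le_top⟩
  have hinj := s.b_inj ξ d hK ⊤ htop (fun Y hY _ => hI Y hY)
  -- all fourth powers are trivial
  have h4 : ∀ t : G, (t ^ 2) ^ 2 = 1 := by
    intro t
    by_cases htH : t ∈ hsz_H G
    · exact s.H_sq t htH
    · have ht2 : t ^ 2 ∈ hsz_H G := s.sq_mem_H t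
      have hV : (t ^ 2) ^ 2 ∈ hsz_V G := s.cls.mem_V.2 (s.H_sq _ ht2)
      have hb := s.b_spec t (t ^ 2) ht2
      have hc : ⁅t ^ 2, t⁆ = 1 := by
        rw [commutatorElement_eq_one_iff_mul_comm, pow_two, mul_assoc]
      rw [hc, hsz_toW_one] at hb
      have h0 : hsz_toW ((t ^ 2) ^ 2) = 0 := by
        apply hinj t (Subgroup.mem_top _) htH
        rw [hb, map_zero]
      exact (hsz_toW_eq_zero hV).1 h0
  -- hence all squares lie in `V` and all commutators too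
  apply s.not_all_comm
  have key : ∀ x y : G, ⁅x⁻¹, y⁆ ^ 2 = 1 := by
    intro x y
    have e : ⁅x⁻¹, y⁆ = (x ^ 2)⁻¹ * (x * y) ^ 2 * (y ^ 2)⁻¹ := by
      simp only [commutatorElement_def, pow_two, mul_inv_rev, inv_inv]
      group
    have hx : x ^ 2 ∈ hsz_V G := s.cls.mem_V.2 (h4 x)
    have hy : y ^ 2 ∈ hsz_V G := s.cls.mem_V.2 (h4 y)
    have hxy : (x * y) ^ 2 ∈ hsz_V G := s.cls.mem_V.2 (h4 (x * y))
    have hmem : ⁅x⁻¹, y⁆ ∈ hsz_V G := by
      rw [e]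
      exact (hsz_V G).mul_mem ((hsz_V G).mul_mem ((hsz_V G).inv_mem hx) hxy) ((hsz_V G).inv_mem hy)
    exact s.cls.mem_V.1 hmem
  intro x y
  have := key x⁻¹ y
  rwa [inv_inv] at this

end Cfsg.Agent.HSz
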