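import Mathlib
import Cfsg.Agent.HSz.Defs
import Cfsg.Agent.HSz.Frame
import Cfsg.Agent.HSz.L4Defs
import Cfsg.Agent.HSz.L4b
import Cfsg.Agent.HSz.L4c
import Cfsg.Agent.HSz.L4d

set_option autoImplicit false

/-!
The case of two irreducible summands in the last lemma of the theorem of Higman and Shaw: the sets
`F(t)`, their disjointness, and the count of the commutators of two orbits.
-/

namespace Cfsg.Agent.HSz

open Subgroup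
open scoped commutatorElement

universe u v

variable {A : Type v} [Group A] {G : Type u} [Group G] {ρ : A →* MulAut G}

theorem hsz_S.Fp_mul (s : hsz_S ρ) (t x y : G) (hx : hsz_Fp t x) (hy : hsz_Fp t y) :
    hsz_Fp t (x * y) := by
  refine ⟨mul_mem hx.1 hy.1, ?_⟩
  have hc : Commute x y := s.Hab x hx.1 y hy.1
  rw [hc.mul_pow, hx.2, hy.2, hsz_H_mul_comm hy.1]

theorem hsz_S.Fp_of_V (s : hsz_S ρ) (t v : G) (hv : v ^ 2 = 1) : hsz_Fp t v := by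
  have hv' : v ∈ hsz_V G := s.mem_V.2 hv
  refine ⟨hsz_V_le_H G hv', ?_⟩
  rw [hv]
  symm
  rw [commutatorElement_eq_one_iff_mul_comm]
  exact (hsz_V_comm hv' t).symm

theorem hsz_S.Fp_inv (s : hsz_S ρ) (t x : G) (hx : hsz_Fp t x) : hsz_Fp t x⁻¹ := by
  refine ⟨inv_mem hx.1, ?_⟩
  rw [inv_pow, hsz_V_inv_eq (s.H_sq_mem hx.1), hsz_H_inv_comm hx.1, hsz_V_inv_eq (hx.1 t)]
  exact hx.2

/-- `[x, y] ∈ F(x)` when `x ^ 2 ∈ V`. -/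
theorem hsz_S.Fp_comm (s : hsz_S ρ) (x y : G) (hx : (x ^ 2) ^ 2 = 1) : hsz_Fp x ⁅x, y⁆ := by
  refine ⟨s.comm_mem_H x y, ?_⟩
  have hx' : x ^ 2 ∈ hsz_V G := s.mem_V.2 hx
  have h1 : ⁅x * x, y⁆ = 1 := by
    rw [← pow_two, commutatorElement_eq_one_iff_mul_comm]
    exact (hsz_V_comm hx' y).symm
  rw [hsz_comm_mul_left] at h1
  -- `x c x⁻¹ c = 1`
  have h2 : x * ⁅x, y⁆ * x⁻¹ = ⁅x, y⁆⁻¹ := eq_inv_of_mul_eq_one_left h1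
  have h3 : ⁅⁅x, y⁆, x⁆ = ⁅x, y⁆ * (x * ⁅x, y⁆ * x⁻¹)⁻¹ := by
    simp only [commutatorElement_def]
    group
  rw [h3, h2, inv_inv, pow_two]

theorem hsz_S.Fp_comm' (s : hsz_S ρ) (x y : G) (hy : (y ^ 2) ^ 2 = 1) : hsz_Fp y ⁅x, y⁆ := by
  rw [← commutatorElement_inv]
  exact s.Fp_inv y _ (s.Fp_comm y x hy)

/-- the square of a product. -/
theorem hsz_mul_sq (t x : G) : (t * x) ^ 2 = t ^ 2 * ⁅t⁻¹, x⁆ * x ^ 2 := by
  simp only [commutatorElement_def, pow_two]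
  group

/-- `F(t) ≠ V` for `t ∉ H` in a proper member of the lattice. -/
theorem hsz_S.Fp_exists (s : hsz_S ρ) (X : Subgroup G) (hX : hsz_Lat ρ X) (hne : X ≠ ⊤) (t : G)
    (htX : t ∈ X) (htH : t ∉ hsz_H G) : ∃ x : G, hsz_Fp t x ∧ x ^ 2 ≠ 1 := by
  haveI := s.cls.fin
  have ht2 : (t ^ 2) ^ 2 = 1 := (s.Lat_proper X hX hne).1 t htX
  have ht2' : t ^ 2 ∈ hsz_V G := s.mem_V.2 ht2
  obtain ⟨φ, hφ⟩ : ∃ φ : Additive (hsz_V G) →+ Additive (hsz_V G),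
      φ = hsz_b G t + AddMonoidHom.id _ := ⟨_, rfl⟩
  have hφx : ∀ x ∈ hsz_H G, φ (hsz_toW (x ^ 2)) = hsz_toW (⁅x, t⁆ * x ^ 2) := by
    intro x hx
    rw [hφ, AddMonoidHom.add_apply, s.b_spec t x hx, AddMonoidHom.id_apply,
      hsz_toW_mul (hx t) (s.H_sq_mem hx)]
  have hninj : ¬ Function.Injective φ := by
    intro hinj
    obtain ⟨w, hw⟩ := (Finite.injective_iff_surjective.1 hinj) (hsz_toW (t ^ 2))
    obtain ⟨x, hx, rfl⟩ := s.W_rep w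
    rw [hφx x hx] at hw
    have h1 : ⁅x, t⁆ * x ^ 2 = t ^ 2 :=
      hsz_toW_inj (mul_mem (hx t) (s.H_sq_mem hx)) ht2' hw
    have h2 : ⁅t⁻¹, x⁆ = ⁅x, t⁆ := by
      rw [← commutatorElement_inv, hsz_H_comm_inv hx, inv_inv]
    have h3 : (t * x) ^ 2 = 1 := by
      rw [hsz_mul_sq, h2, mul_assoc, h1, ← pow_two, ht2]
    apply htH
    have h4 : t * x ∈ hsz_H G := hsz_V_le_H G (s.mem_V.2 h3)
    have : t = t * x * x⁻¹ := by group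
    rw [this]
    exact mul_mem h4 (inv_mem hx)
  rw [injective_iff_map_eq_zero] at hninj
  push Not at hninj
  obtain ⟨w, hw0, hw⟩ := hninj
  obtain ⟨x, hx, rfl⟩ := s.W_rep w
  refine ⟨x, ⟨hx, ?_⟩, ?_⟩
  · rw [hφx x hx, hsz_toW_eq_zero (mul_mem (hx t) (s.H_sq_mem hx))] at hw0
    have h1 : x ^ 2 = (⁅x, t⁆)⁻¹ := eq_inv_of_mul_eq_one_right hw0
    rw [h1, hsz_V_inv_eq (hx t)]
  · intro h
    apply hw
    rw [h, hsz_toW_one]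

/-- `F(t) ∩ F(t') = V` for `t, t'` in a minimal member of the lattice, different modulo `H`. -/
theorem hsz_S.Fp_disj (s : hsz_S ρ) (ξ : A) (d : ℕ) (hK : hsz_K3 (hsz_actV ρ) ξ d)
    (X : Subgroup G) (hX : hsz_Lat ρ X)
    (hmin : ∀ Y : Subgroup G, hsz_Lat ρ Y → Y ≤ X → Y = hsz_H G ∨ Y = X)
    (t t' : G) (ht : t ∈ X) (ht' : t' ∈ X) (htt : t⁻¹ * t' ∉ hsz_H G) (x : G)
    (h1 : hsz_Fp t x) (h2 : hsz_Fp t' x) : x ^ 2 = 1 := by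
  have hinj := s.b_inj ξ d hK X hX hmin (t⁻¹ * t') (mul_mem (inv_mem ht) ht') htt
  have h3 : ⁅x, t⁻¹ * t'⁆ = 1 := by
    rw [hsz_H_comm_mul h1.1, hsz_H_comm_inv h1.1, ← h1.2, ← h2.2, inv_mul_cancel]
  have h4 : hsz_b G (t⁻¹ * t') (hsz_toW (x ^ 2)) = 0 := by
    rw [s.b_spec _ x h1.1, h3, hsz_toW_one]
  have h5 : hsz_toW (x ^ 2) = 0 := by
    apply hinj
    rw [h4, map_zero]
  exact (hsz_toW_eq_zero (s.H_sq_mem h1.1)).1 h5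

theorem hsz_rho_inv_apply (ρ : A →* MulAut G) (a : A) (x : G) : ρ a⁻¹ (ρ a x) = x := by
  rw [← MulAut.mul_apply, ← map_mul, inv_mul_cancel, map_one, MulAut.one_apply]

theorem hsz_S.orbit_ne_lt (s : hsz_S ρ) (ξ : A) (d : ℕ) (hK : hsz_K3 (hsz_actV ρ) ξ d) (t : G)
    (ht : t ∉ hsz_H G) (i j : ℕ) (hj : j < d) (hij : i < j) :
    (ρ (ξ ^ i) t)⁻¹ * ρ (ξ ^ j) t ∉ hsz_H G := by
  intro hmem
  apply ht
  have hnd : ¬ d ∣ (j - i) := by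
    intro h
    have := Nat.le_of_dvd (by omega) h
    omega
  apply hsz_fpf_quot_of_K3 s.cls ξ d hK (j - i) hnd (hsz_H G) (hsz_H_inv ρ)
  have h1 : ξ ^ j = ξ ^ i * ξ ^ (j - i) := by
    rw [← pow_add]
    congr 1
    omega
  have h2 : (ρ (ξ ^ i) t)⁻¹ * ρ (ξ ^ j) t = ρ (ξ ^ i) (t⁻¹ * ρ (ξ ^ (j - i)) t) := by
    rw [h1, map_mul, MulAut.mul_apply, map_mul, map_inv]
  rw [h2] at hmem
  have h3 := hsz_H_inv ρ (ξ ^ i)⁻¹ _ hmem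
  rw [hsz_rho_inv_apply] at h3
  exact h3

/-- the members of a `⟨ξ⟩`-orbit outside `H` are different modulo `H`. -/
theorem hsz_S.orbit_ne (s : hsz_S ρ) (ξ : A) (d : ℕ) (hK : hsz_K3 (hsz_actV ρ) ξ d) (t : G)
    (ht : t ∉ hsz_H G) (i j : ℕ) (hi : i < d) (hj : j < d) (hij : i ≠ j) :
    (ρ (ξ ^ i) t)⁻¹ * ρ (ξ ^ j) t ∉ hsz_H G := by
  rcases Nat.lt_or_gt_of_ne hij with h | h
  · exact s.orbit_ne_lt ξ d hK t ht i j hj h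
  · intro hmem
    apply s.orbit_ne_lt ξ d hK t ht j i hi h
    have : (ρ (ξ ^ j) t)⁻¹ * ρ (ξ ^ i) t = ((ρ (ξ ^ i) t)⁻¹ * ρ (ξ ^ j) t)⁻¹ := by group
    rw [this]
    exact inv_mem hmem

/-- a commutator that is not in `V` stays outside `V` when the second entry moves in a minimal
member of the lattice. -/
theorem hsz_S.caseII_aux (s : hsz_S ρ) (ξ : A) (d : ℕ) (hK : hsz_K3 (hsz_actV ρ) ξ d)
    (X : Subgroup G) (hX : hsz_Lat ρ X)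
    (hmin : ∀ Y : Subgroup G, hsz_Lat ρ Y → Y ≤ X → Y = hsz_H G ∨ Y = X) (hne : X ≠ ⊤)
    (u t₀ t : G) (ht₀ : t₀ ∈ X) (ht : t ∈ X) (htH : t ∉ hsz_H G) (h0 : ⁅u, t₀⁆ ^ 2 ≠ 1) :
    ⁅u, t⁆ ^ 2 ≠ 1 := by
  intro hv
  apply h0
  have hp := (s.Lat_proper X hX hne).1
  have hv' : ⁅u, t⁆ ∈ hsz_V G := s.mem_V.2 hv
  have h1 : ⁅u, t₀ * t⁆ = ⁅u, t₀⁆ * ⁅u, t⁆ := by
    rw [hsz_comm_mul_right, hsz_V_conj hv']
  have hF1 : hsz_Fp (t₀ * t) ⁅u, t₀ * t⁆ := s.Fp_comm' u (t₀ * t) (hp _ (mul_mem ht₀ ht))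
  have hF2 : hsz_Fp (t₀ * t) ⁅u, t₀⁆ := by
    have h2 : ⁅u, t₀⁆ = ⁅u, t₀ * t⁆ * ⁅u, t⁆ := by
      rw [h1, mul_assoc, ← pow_two, hv, mul_one]
    rw [h2]
    exact s.Fp_mul _ _ _ hF1 (s.Fp_of_V _ _ hv)
  have hF3 : hsz_Fp t₀ ⁅u, t₀⁆ := s.Fp_comm' u t₀ (hp _ ht₀)
  apply s.Fp_disj ξ d hK X hX hmin t₀ (t₀ * t) ht₀ (mul_mem ht₀ ht) _ _ hF3 hF2
  rw [inv_mul_cancel_left]
  exact htH

theorem hsz_comm_sq_symm (x y : G) (h : ⁅x, y⁆ ^ 2 ≠ 1) : ⁅y, x⁆ ^ 2 ≠ 1 := by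
  intro h1
  apply h
  rw [← commutatorElement_inv, inv_pow, h1, inv_one]

/-- the case of two irreducible summands. -/
theorem hsz_S.caseII (s : hsz_S ρ) (X₁ X₂ : Subgroup G) (h1 : hsz_Lat ρ X₁) (h2 : hsz_Lat ρ X₂)
    (hmin1 : ∀ Y : Subgroup G, hsz_Lat ρ Y → Y ≤ X₁ → Y = hsz_H G ∨ Y = X₁)
    (hmin2 : ∀ Y : Subgroup G, hsz_Lat ρ Y → Y ≤ X₂ → Y = hsz_H G ∨ Y = X₂)
    (hne1 : X₁ ≠ hsz_H G) (hne2 : X₂ ≠ hsz_H G) (hinf : X₁ ⊓ X₂ = hsz_H G) (hsup : X₁ ⊔ X₂ = ⊤) :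
    False := by
  classical
  haveI := s.cls.fin
  obtain ⟨-, ξ, d, hK⟩ := s.hyp _ _ (hsz_T_of_C s.cls)
  have htop1 : X₁ ≠ ⊤ := by
    intro h
    apply hne2
    rw [← hinf, h, top_inf_eq]
  have htop2 : X₂ ≠ ⊤ := by
    intro h
    apply hne1
    rw [← hinf, h, inf_top_eq]
  have hp1 := s.Lat_proper X₁ h1 htop1
  have hp2 := s.Lat_proper X₂ h2 htop2
  -- some commutator is not in `V`
  obtain ⟨s₀, hs₀, t₀, ht₀, h00⟩ : ∃ s₀ ∈ X₁, ∃ t₀ ∈ X₂, ⁅s₀, t₀⁆ ^ 2 ≠ 1 := by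
    by_contra hcon
    push Not at hcon
    apply hne1
    apply le_antisymm _ h1.2
    intro y hy
    have ho1 : X₁ ≤ hsz_orth y := by
      intro z hz
      rw [hsz_mem_orth, s.mem_V]
      exact hp1.2 y hy z hz
    have ho2 : X₂ ≤ hsz_orth y := by
      intro z hz
      rw [hsz_mem_orth, s.mem_V]
      exact hcon y hy z hz
    have htop : (⊤ : Subgroup G) ≤ hsz_orth y := by
      rw [← hsup]
      exact sup_le ho1 ho2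
    intro g
    exact htop (mem_top g)
  -- hence none is
  have hnz : ∀ x ∈ X₁, x ∉ hsz_H G → ∀ y ∈ X₂, y ∉ hsz_H G → ⁅x, y⁆ ^ 2 ≠ 1 := by
    intro x hx hxH y hy hyH
    have h3 : ⁅s₀, y⁆ ^ 2 ≠ 1 := s.caseII_aux ξ d hK X₂ h2 hmin2 htop2 s₀ t₀ y ht₀ hy hyH h00
    have h4 : ⁅y, x⁆ ^ 2 ≠ 1 :=
      s.caseII_aux ξ d hK X₁ h1 hmin1 htop1 y s₀ x hs₀ hx hxH (hsz_comm_sq_symm _ _ h3)
    exact hsz_comm_sq_symm _ _ h4
  -- elements outside `H`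
  obtain ⟨x, hxX, hxH⟩ : ∃ x ∈ X₁, x ∉ hsz_H G :=
    SetLike.exists_of_lt (lt_of_le_of_ne h1.2 (Ne.symm hne1))
  obtain ⟨y, hyX, hyH⟩ : ∃ y ∈ X₂, y ∉ hsz_H G :=
    SetLike.exists_of_lt (lt_of_le_of_ne h2.2 (Ne.symm hne2))
  have hxo : ∀ j : ℕ, ρ (ξ ^ j) x ∈ X₁ ∧ ρ (ξ ^ j) x ∉ hsz_H G := by
    intro j
    refine ⟨h1.1 _ _ hxX, ?_⟩
    intro h
    apply hxH
    have := hsz_H_inv ρ (ξ ^ j)⁻¹ _ h
    rw [hsz_rho_inv_apply] at this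
    exact this
  have hyo : ∀ j : ℕ, ρ (ξ ^ j) y ∈ X₂ ∧ ρ (ξ ^ j) y ∉ hsz_H G := by
    intro j
    refine ⟨h2.1 _ _ hyX, ?_⟩
    intro h
    apply hyH
    have := hsz_H_inv ρ (ξ ^ j)⁻¹ _ h
    rw [hsz_rho_inv_apply] at this
    exact this
  -- the commutators of the two orbits
  obtain ⟨c, hc⟩ : ∃ c : Fin d × Fin d → G,
      ∀ p, c p = ⁅ρ (ξ ^ (p.1 : ℕ)) x, ρ (ξ ^ (p.2 : ℕ)) y⁆ := ⟨_, fun _ => rfl⟩
  have hcH : ∀ p, c p ∈ hsz_H G := by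
    intro p
    rw [hc]
    exact s.comm_mem_H _ _
  have hcnz : ∀ p, c p ^ 2 ≠ 1 := by
    intro p
    rw [hc]
    exact hnz _ (hxo _).1 (hxo _).2 _ (hyo _).1 (hyo _).2
  have hcF1 : ∀ p, hsz_Fp (ρ (ξ ^ (p.1 : ℕ)) x) (c p) := by
    intro p
    rw [hc]
    exact s.Fp_comm _ _ (hp1.1 _ (hxo _).1)
  have hcF2 : ∀ p, hsz_Fp (ρ (ξ ^ (p.2 : ℕ)) y) (c p) := by
    intro p
    rw [hc]
    exact s.Fp_comm' _ _ (hp2.1 _ (hyo _).1)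
  have hinj : Function.Injective
      (fun p : Fin d × Fin d => (⟨hsz_toW (c p ^ 2), fun h =>
        hcnz p ((hsz_toW_eq_zero (s.H_sq_mem (hcH p))).1 h)⟩ :
        {w : Additive (hsz_V G) // w ≠ 0})) := by
    intro p q hpq
    have h3 : hsz_toW (c p ^ 2) = hsz_toW (c q ^ 2) := congrArg Subtype.val hpq
    have h4 : c p ^ 2 = c q ^ 2 := hsz_toW_inj (s.H_sq_mem (hcH p)) (s.H_sq_mem (hcH q)) h3
    have h5 : (c p * (c q)⁻¹) ^ 2 = 1 := s.H_sq_inj _ (hcH p) _ (hcH q) h4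
    have h6 : c p = c p * (c q)⁻¹ * c q := by group
    by_contra hne
    have hne' : p.1 ≠ q.1 ∨ p.2 ≠ q.2 := by
      by_contra hcon
      push Not at hcon
      exact hne (Prod.ext hcon.1 hcon.2)
    rcases hne' with h7 | h7
    · have h8 : hsz_Fp (ρ (ξ ^ (q.1 : ℕ)) x) (c p) := by
        rw [h6]
        exact s.Fp_mul _ _ _ (s.Fp_of_V _ _ h5) (hcF1 q)
      apply hcnz p
      apply s.Fp_disj ξ d hK X₁ h1 hmin1 _ _ (hxo p.1).1 (hxo q.1).1 _ _ (hcF1 p) h8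
      exact s.orbit_ne ξ d hK x hxH _ _ p.1.2 q.1.2 (fun h => h7 (Fin.ext h))
    · have h8 : hsz_Fp (ρ (ξ ^ (q.2 : ℕ)) y) (c p) := by
        rw [h6]
        exact s.Fp_mul _ _ _ (s.Fp_of_V _ _ h5) (hcF2 q)
      apply hcnz p
      apply s.Fp_disj ξ d hK X₂ h2 hmin2 _ _ (hyo p.2).1 (hyo q.2).1 _ _ (hcF2 p) h8
      exact s.orbit_ne ξ d hK y hyH _ _ p.2.2 q.2.2 (fun h => h7 (Fin.ext h))
  have hcard := Nat.card_le_card_of_injective _ hinj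
  have h9 : Nat.card {w : Additive (hsz_V G) // w ≠ 0} = Nat.card (Additive (hsz_V G)) - 1 := by
    haveI : Fintype (Additive (hsz_V G)) := Fintype.ofFinite _
    rw [Nat.card_eq_fintype_card, Nat.card_eq_fintype_card, Fintype.card_subtype_compl,
      Fintype.card_subtype_eq]
  rw [h9, Nat.card_prod, Nat.card_eq_fintype_card, Fintype.card_fin] at hcard
  have := hK.2.2.1
  omega

end Cfsg.Agent.HSz
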