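import Mathlib
import Cfsg.Agent.HSz.Defs

set_option autoImplicit false

/-!
Maschke's theorem in the form needed for the Higman–Shaw theorem: a group `A` of odd order acting
on a finite group `G`, `H` an invariant subgroup such that `G / H` is an elementary abelian
`2`-group; every invariant subgroup between `H` and `G` has an invariant complement modulo `H`.
-/

namespace Cfsg.Agent.HSz

open Subgroup
open scoped commutatorElement

universe u v

/-- a subgroup containing all commutators is normal. -/
theorem hsz_maschke_normal {G : Type u} [Group G] (H : Subgroup G)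
    (hcomm : ∀ x y : G, ⁅x, y⁆ ∈ H) : H.Normal := by
  constructor
  intro h hh g
  have : g * h * g⁻¹ = ⁅g, h⁆ * h := by
    simp [commutatorElement_def, mul_assoc]
  rw [this]
  exact H.mul_mem (hcomm g h) hh

theorem hsz_maschke {A : Type v} [Group A] [Finite A] (hA : Odd (Nat.card A)) {G : Type u} [Group G]
    [Finite G] (ρ : A →* MulAut G) (H : Subgroup G) (hH : hsz_Inv ρ H) (hsq : ∀ x : G, x ^ 2 ∈ H)
    (hcomm : ∀ x y : G, ⁅x, y⁆ ∈ H) (X : Subgroup G) (hX : hsz_Inv ρ X) (hHX : H ≤ X) :
    ∃ X' : Subgroup G, hsz_Inv ρ X' ∧ H ≤ X' ∧ X ⊓ X' = H ∧ X ⊔ X' = ⊤ := by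
  classical
  haveI : Fact (Nat.Prime 2) := ⟨Nat.prime_two⟩
  haveI hHn : H.Normal := hsz_maschke_normal H hcomm
  -- the quotient is commutative of exponent two
  have hQcomm : ∀ a b : G ⧸ H, a * b = b * a := by
    intro a b
    induction a using QuotientGroup.induction_on with
    | H x =>
      induction b using QuotientGroup.induction_on with
      | H y =>
        rw [← QuotientGroup.mk_mul, ← QuotientGroup.mk_mul, QuotientGroup.eq]
        have h1 : (x * y)⁻¹ * (y * x) = ⁅y⁻¹, x⁻¹⁆ := by
          simp [commutatorElement_def, mul_assoc]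
        rw [h1]
        exact hcomm _ _
  have hQsq : ∀ a : G ⧸ H, a * a = 1 := by
    intro a
    induction a using QuotientGroup.induction_on with
    | H x =>
      rw [← QuotientGroup.mk_mul, QuotientGroup.eq_one_iff, ← pow_two]
      exact hsq x
  letI : CommGroup (G ⧸ H) := { (inferInstance : Group (G ⧸ H)) with mul_comm := hQcomm }
  let W := Additive (G ⧸ H)
  have hW2 : ∀ w : W, 2 • w = 0 := by
    intro w
    rw [two_nsmul]
    exact congrArg Additive.ofMul (hQsq (Additive.toMul w))
  letI : Module (ZMod 2) W := AddCommGroup.zmodModule hW2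
  -- the representation
  let q := hsz_quo ρ H hH
  let R : Representation (ZMod 2) A W :=
    { toFun := fun a => (MulEquiv.toAdditive (q a)).toAddMonoidHom.toZModLinearMap 2
      map_one' := by
        apply LinearMap.ext
        intro w
        show Additive.ofMul (q 1 (Additive.toMul w)) = w
        rw [map_one]
        rfl
      map_mul' := by
        intro a b
        apply LinearMap.ext
        intro w
        show Additive.ofMul (q (a * b) (Additive.toMul w)) =
          Additive.ofMul (q a (q b (Additive.toMul w)))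
        rw [map_mul]
        rfl }
  have hRapp : ∀ (a : A) (x : G),
      R a (Additive.ofMul (x : G ⧸ H)) = Additive.ofMul ((ρ a x : G) : G ⧸ H) := fun a x => rfl
  haveI : NeZero (Nat.card A : ZMod 2) := by
    constructor
    intro h0
    rw [ZMod.natCast_eq_zero_iff] at h0
    rw [← Nat.not_even_iff_odd] at hA
    exact hA (even_iff_two_dvd.2 h0)
  -- the subrepresentation given by `X`
  let σ : Subrepresentation R :=
    { toSubmodule :=
        { carrier := {w | ∃ x ∈ X, Additive.ofMul ((x : G) : G ⧸ H) = w}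
          add_mem' := by
            rintro _ _ ⟨x, hx, rfl⟩ ⟨y, hy, rfl⟩
            exact ⟨x * y, X.mul_mem hx hy, rfl⟩
          zero_mem' := ⟨1, X.one_mem, rfl⟩
          smul_mem' := by
            rintro c _ ⟨x, hx, rfl⟩
            obtain ⟨n, rfl⟩ : ∃ n : ℕ, (n : ZMod 2) = c := ⟨c.val, ZMod.natCast_zmod_val c⟩
            rw [Nat.cast_smul_eq_nsmul]
            refine ⟨x ^ n, X.pow_mem hx n, ?_⟩
            rw [QuotientGroup.mk_pow]
            rfl }
      apply_mem_toSubmodule := by
        rintro a _ ⟨x, hx, rfl⟩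
        exact ⟨ρ a x, hX a x hx, (hRapp a x).symm⟩ }
  obtain ⟨τ, hτ⟩ := exists_isCompl σ
  -- the complement
  let X' : Subgroup G :=
    { carrier := {y | Additive.ofMul ((y : G) : G ⧸ H) ∈ τ.toSubmodule}
      mul_mem' := by
        intro x y hx hy
        have := τ.toSubmodule.add_mem hx hy
        exact this
      one_mem' := τ.toSubmodule.zero_mem
      inv_mem' := by
        intro x hx
        have := τ.toSubmodule.neg_mem hx
        exact this }
  have hX'mem : ∀ y : G, y ∈ X' ↔ Additive.ofMul ((y : G) : G ⧸ H) ∈ τ.toSubmodule :=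
    fun y => Iff.rfl
  have hHX' : H ≤ X' := by
    intro h hh
    rw [hX'mem]
    have : ((h : G) : G ⧸ H) = 1 := (QuotientGroup.eq_one_iff h).2 hh
    rw [this]
    exact τ.toSubmodule.zero_mem
  refine ⟨X', ?_, hHX', ?_, ?_⟩
  · intro a y hy
    rw [hX'mem] at hy ⊢
    rw [← hRapp a y]
    exact τ.apply_mem_toSubmodule a hy
  · apply le_antisymm
    · rintro x ⟨hxX, hxX'⟩
      have hdis := hτ.disjoint
      have hmem : Additive.ofMul ((x : G) : G ⧸ H) ∈ (σ ⊓ τ).toSubmodule :=
        ⟨⟨x, hxX, rfl⟩, (hX'mem x).1 hxX'⟩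
      have hle : σ ⊓ τ ≤ ⊥ := hdis.le_bot
      have hbot : Additive.ofMul ((x : G) : G ⧸ H) ∈ (⊥ : Subrepresentation R).toSubmodule :=
        hle hmem
      have h0 : Additive.ofMul ((x : G) : G ⧸ H) = 0 := (Submodule.mem_bot _).1 hbot
      exact (QuotientGroup.eq_one_iff x).1 (congrArg Additive.toMul h0)
    · exact le_inf hHX hHX'
  · rw [eq_top_iff]
    intro g _
    have hcod := hτ.codisjoint
    have hle : (⊤ : Subrepresentation R) ≤ σ ⊔ τ := hcod.top_le
    have hmem : Additive.ofMul ((g : G) : G ⧸ H) ∈ (σ ⊔ τ).toSubmodule :=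
      hle (Submodule.mem_top : _ ∈ (⊤ : Submodule (ZMod 2) W))
    rw [Subrepresentation.toSubmodule_sup, Submodule.mem_sup] at hmem
    obtain ⟨s, ⟨x, hx, rfl⟩, t, ht, hst⟩ := hmem
    obtain ⟨y, rfl⟩ : ∃ y : G, Additive.ofMul ((y : G) : G ⧸ H) = t := by
      obtain ⟨y, hy⟩ := QuotientGroup.mk_surjective (Additive.toMul t)
      exact ⟨y, congrArg Additive.ofMul hy⟩
    have hyX' : y ∈ X' := (hX'mem y).2 ht
    have hq : ((x * y : G) : G ⧸ H) = ((g : G) : G ⧸ H) := congrArg Additive.toMul hst
    rw [QuotientGroup.eq] at hq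
    have hg : g = x * (y * ((x * y)⁻¹ * g)) := by group
    rw [hg]
    exact Subgroup.mul_mem_sup hx (X'.mul_mem hyX' (hHX' hq))

end Cfsg.Agent.HSz
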