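import Mathlib
import Cfsg.Agent.HSz.Defs
import Cfsg.Agent.HSz.Frame
import Cfsg.Agent.HSz.L4Defs
import Cfsg.Agent.HSz.Maschke
import Cfsg.Agent.HSz.L4c
import Cfsg.Agent.HSz.L4d
import Cfsg.Agent.HSz.L4e

set_option autoImplicit false

/-!
The end of the last lemma of the theorem of Higman and Shaw: three summands are impossible, and
the decomposition of `G / H` by the theorem of Maschke leads to a contradiction in every case.
-/

namespace Cfsg.Agent.HSz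

open Subgroup
open scoped commutatorElement

universe u v

variable {A : Type v} [Group A] {G : Type u} [Group G] {ρ : A →* MulAut G}

theorem hsz_Inv_sup (ρ : A →* MulAut G) (X Y : Subgroup G) (hX : hsz_Inv ρ X)
    (hY : hsz_Inv ρ Y) : hsz_Inv ρ (X ⊔ Y) := by
  intro a x hx
  have h1 : (X ⊔ Y).map (ρ a).toMonoidHom = X ⊔ Y := by
    rw [Subgroup.map_sup, hsz_Inv_map ρ X hX a, hsz_Inv_map ρ Y hY a]
  rw [← h1]
  exact Subgroup.mem_map_of_mem _ hx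

theorem hsz_Lat_sup (X Y : Subgroup G) (hX : hsz_Lat ρ X) (hY : hsz_Lat ρ Y) :
    hsz_Lat ρ (X ⊔ Y) :=
  ⟨hsz_Inv_sup ρ X Y hX.1 hY.1, le_trans hX.2 le_sup_left⟩

theorem hsz_Lat_top (ρ : A →* MulAut G) : hsz_Lat ρ (⊤ : Subgroup G) :=
  ⟨fun _ _ _ => mem_top _, le_top⟩

theorem hsz_S.Lat_normal (s : hsz_S ρ) (X : Subgroup G) (hX : hsz_Lat ρ X) : X.Normal :=
  hsz_maschke_normal X (fun x y => hX.2 (s.comm_mem_H x y))

/-- the modular law in the form used below. -/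
theorem hsz_modular (X Y Z : Subgroup G) [Y.Normal] (hXZ : X ≤ Z) (hsup : X ⊔ Y = ⊤) :
    Z ≤ X ⊔ (Z ⊓ Y) := by
  intro z hz
  have h1 : z ∈ X ⊔ Y := by rw [hsup]; exact mem_top z
  obtain ⟨x, hx, y, hy, rfl⟩ := Subgroup.mem_sup_of_normal_right.1 h1
  have hyZ : y ∈ Z := by
    have : y = x⁻¹ * (x * y) := by group
    rw [this]
    exact mul_mem (inv_mem (hXZ hx)) hz
  exact mul_mem (le_sup_left (a := X) hx) (le_sup_right (a := X) ⟨hyZ, hy⟩)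

/-- three summands. -/
theorem hsz_S.three (s : hsz_S ρ) (Y₁ Y₂ Y₃ : Subgroup G) (h1 : hsz_Lat ρ Y₁) (h2 : hsz_Lat ρ Y₂)
    (h3 : hsz_Lat ρ Y₃) (hne : Y₁ ≠ hsz_H G) (h12 : Y₁ ⊔ Y₂ ≠ ⊤) (h13 : Y₁ ⊔ Y₃ ≠ ⊤)
    (h123 : Y₁ ⊔ Y₂ ⊔ Y₃ = ⊤) : False := by
  apply hne
  apply le_antisymm _ h1.2
  intro y hy
  have hp12 := (s.Lat_proper _ (hsz_Lat_sup Y₁ Y₂ h1 h2) h12).2
  have hp13 := (s.Lat_proper _ (hsz_Lat_sup Y₁ Y₃ h1 h3) h13).2
  have ho12 : Y₁ ⊔ Y₂ ≤ hsz_orth y := by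
    intro z hz
    rw [hsz_mem_orth, s.mem_V]
    exact hp12 y (le_sup_left (a := Y₁) hy) z hz
  have ho13 : Y₁ ⊔ Y₃ ≤ hsz_orth y := by
    intro z hz
    rw [hsz_mem_orth, s.mem_V]
    exact hp13 y (le_sup_left (a := Y₁) hy) z hz
  have htop : (⊤ : Subgroup G) ≤ hsz_orth y := by
    rw [← h123]
    exact sup_le ho12 (le_trans le_sup_right ho13)
  intro g
  exact htop (mem_top g)

theorem hsz_S.false (s : hsz_S ρ) : False := by
  haveI := s.cls.fin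
  haveI := s.finA
  have hHtop : hsz_H G ≠ ⊤ := by
    intro h
    obtain ⟨g, hg⟩ := s.Cn_ne_top
    apply hg
    rw [s.Cn_eq_H, h]
    exact mem_top g
  -- a minimal member of the lattice above `H`
  obtain ⟨X₁, hL1, hne1, hmin⟩ : ∃ X₁ : Subgroup G, hsz_Lat ρ X₁ ∧ X₁ ≠ hsz_H G ∧
      ∀ Y : Subgroup G, hsz_Lat ρ Y → Y ≠ hsz_H G → ¬ Y < X₁ := by
    have hne : {X : Subgroup G | hsz_Lat ρ X ∧ X ≠ hsz_H G}.Nonempty :=
      ⟨⊤, hsz_Lat_top ρ, fun h => hHtop h.symm⟩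
    have hwf : WellFounded (fun X Y : Subgroup G => X < Y) := wellFounded_lt
    refine ⟨hwf.min _ hne, (hwf.min_mem _ hne).1, (hwf.min_mem _ hne).2, ?_⟩
    intro Y hY hYH
    have hmem : Y ∈ {X : Subgroup G | hsz_Lat ρ X ∧ X ≠ hsz_H G} := ⟨hY, hYH⟩
    exact hwf.not_lt_min _ hmem
  have hmin1 : ∀ Y : Subgroup G, hsz_Lat ρ Y → Y ≤ X₁ → Y = hsz_H G ∨ Y = X₁ := by
    intro Y hY hle
    by_cases hYH : Y = hsz_H G
    · exact Or.inl hYH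
    · right
      by_contra hne
      exact hmin Y hY hYH (lt_of_le_of_ne hle hne)
  by_cases htop1 : X₁ = ⊤
  · apply s.caseI
    intro X hX
    have := hmin1 X hX (by rw [htop1]; exact le_top)
    rw [htop1] at this
    exact this
  -- a complement
  obtain ⟨X₂, hI2, hH2, hinf, hsup⟩ := hsz_maschke s.oddA ρ (hsz_H G) (hsz_H_inv ρ) s.sq_mem_H
    s.comm_mem_H X₁ hL1.1 hL1.2
  have hL2 : hsz_Lat ρ X₂ := ⟨hI2, hH2⟩
  have hne2 : X₂ ≠ hsz_H G := by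
    intro h
    apply htop1
    rw [← hsup, h]
    exact (sup_eq_left.2 hL1.2).symm
  by_cases hmin2 : ∀ Y : Subgroup G, hsz_Lat ρ Y → Y ≤ X₂ → Y = hsz_H G ∨ Y = X₂
  · exact s.caseII X₁ X₂ hL1 hL2 hmin1 hmin2 hne1 hne2 hinf hsup
  push Not at hmin2
  obtain ⟨X₃, hL3, hle3, hne3, hne32⟩ := hmin2
  haveI hn1 : X₁.Normal := s.Lat_normal X₁ hL1
  -- `X₁ ⊔ X₃` is proper
  have hP : X₁ ⊔ X₃ ≠ ⊤ := by
    intro h
    apply hne32
    apply le_antisymm hle3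
    have h1 := hsz_modular X₃ X₁ X₂ hle3 (by rw [sup_comm]; exact h)
    rw [inf_comm, hinf, sup_eq_left.2 hL3.2] at h1
    exact h1
  have hLP : hsz_Lat ρ (X₁ ⊔ X₃) := hsz_Lat_sup X₁ X₃ hL1 hL3
  obtain ⟨P', hIP', hHP', hinfP, hsupP⟩ := hsz_maschke s.oddA ρ (hsz_H G) (hsz_H_inv ρ) s.sq_mem_H
    s.comm_mem_H (X₁ ⊔ X₃) hLP.1 hLP.2
  have hLP' : hsz_Lat ρ P' := ⟨hIP', hHP'⟩
  haveI hnP' : P'.Normal := s.Lat_normal P' hLP'
  apply s.three X₁ X₃ P' hL1 hL3 hLP' hne1 hP _ hsupP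
  intro h
  have h1 := hsz_modular X₁ P' (X₁ ⊔ X₃) le_sup_left h
  rw [hinfP, sup_eq_left.2 hL1.2] at h1
  apply hne3
  apply le_antisymm _ hL3.2
  rw [← hinf]
  exact le_inf (le_trans le_sup_right h1) hle3

/-- L4: in a nonabelian member the preimage of the centre of `G / V` is nonabelian. -/
theorem hsz_L4 {A : Type v} [Group A] [Finite A] (hA : Odd (Nat.card A)) (hyp : hsz_Hyp.{u} A)
    {G : Type u} [Group G] {ρ : A →* MulAut G} (h : hsz_C ρ) (hna : ∃ x y : G, x * y ≠ y * x)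
    (IH : ∀ (G' : Type u) [Group G'] (ρ' : A →* MulAut G'), hsz_C ρ' →
      (∃ x y : G', x * y ≠ y * x) → Nat.card G' < Nat.card G → hsz_Good G') :
    ∃ x y : G, (∀ g : G, ⁅x, g⁆ ^ 2 = 1) ∧ (∀ g : G, ⁅y, g⁆ ^ 2 = 1) ∧ x * y ≠ y * x := by
  by_contra hcon
  push Not at hcon
  have s : hsz_S ρ :=
    ⟨h, inferInstance, hA, hyp, hna, IH, fun x hx y hy =>
      hcon x y (fun g => h.mem_V.1 (hx g)) (fun g => h.mem_V.1 (hy g))⟩
  exact s.false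

end Cfsg.Agent.HSz
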