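import Mathlib
import Cfsg.Agent.HSz.Defs
import Cfsg.Agent.HSz.Frame
import Cfsg.Agent.HSz.L3
import Cfsg.Agent.HSz.L4Defs
import Cfsg.Agent.HSz.L4f

set_option autoImplicit false

/-!
The theorem of Higman and Shaw in abstract form: a nonabelian finite 2-group whose elements of
order at most two form a central subgroup `V` with at least four elements, with a group of odd
order acting transitively on the involutions and satisfying the coordinate hypotheses, has centre
`V` and elementary abelian quotient by `V`.
-/

namespace Cfsg.Agent.HSz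

open Subgroup
open scoped commutatorElement

universe u v

/-- the theorem of Higman and Shaw in abstract form. -/
theorem hsz_main {A : Type v} [Group A] [Finite A] (hA : Odd (Nat.card A)) (hyp : hsz_Hyp.{u} A)
    {G : Type u} [Group G] (ρ : A →* MulAut G) (h : hsz_C ρ) (hna : ∃ x y : G, x * y ≠ y * x) :
    hsz_Good G := by
  suffices H : ∀ n : ℕ, ∀ (G : Type u) [Group G] (ρ : A →* MulAut G), hsz_C ρ →
      (∃ x y : G, x * y ≠ y * x) → Nat.card G = n → hsz_Good G from H _ G ρ h hna rfl
  intro n
  induction n using Nat.strong_induction_on with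
  | _ n ih =>
    intro G _ ρ h hna hn
    obtain ⟨x, y, hx, hy, hxy⟩ := hsz_L4 hA hyp h hna (fun G' _ ρ' h' hna' hlt =>
      ih (Nat.card G') (hn ▸ hlt) G' ρ' h' hna' rfl)
    exact hsz_L3 hyp h (hsz_H G) (hsz_H_inv ρ)
      ⟨x, fun g => h.mem_V.2 (hx g), y, fun g => h.mem_V.2 (hy g), hxy⟩
      (fun z hz g => h.mem_V.1 (hz g))

end Cfsg.Agent.HSz
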