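import Mathlib
import Cfsg.Prelude.Def_Local

set_option autoImplicit false

/-!
The hypotheses on the quotient of a solvable group with one class of involutions by its largest
normal subgroup of odd order (proof of S3797): definition only.
-/

namespace Cfsg.Agent.HSz

universe u

/-- the hypotheses for the quotient `X` of `G` by its largest normal subgroup of odd order. -/
structure hsz_Q (X : Type u) [Group X] : Prop where
  fin : Finite X
  sol : Group.IsSolvable X
  core : Cfsg.pPrimeCore 2 X = ⊥
  conj : ∀ x y : X, x ≠ 1 → x ^ 2 = 1 → y ≠ 1 → y ^ 2 = 1 → IsConj x y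
  four : ∃ x y : X, x ≠ y ∧ x ≠ 1 ∧ x ^ 2 = 1 ∧ y ≠ 1 ∧ y ^ 2 = 1

end Cfsg.Agent.HSz
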