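import Mathlib
import Cfsg.Prelude.Def_Local
import Cfsg.Agent.HSz.Defs
import Cfsg.Agent.HSz.Frame
import Cfsg.Agent.HSz.QDef
import Cfsg.Agent.Helper1.Fitting
import Cfsg.Agent.Helper4.HallHigman
import Cfsg.Agent.Helper4.SolvPSolv
import Cfsg.Agent.Helper5.Cores

set_option autoImplicit false
set_option linter.unusedVariables false

/-!
Package Q of the S3797 wrapper: the quotient `X` of a finite solvable group by its largest normal
subgroup of odd order, with all involutions conjugate.  The involutions lie in the centre of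
`O_2(X)`, and `O_2(X)` with the conjugation action of `X` is a member of the class.
-/

namespace Cfsg.Agent.HSz

open Subgroup
open scoped commutatorElement

universe u v

/-- the involutions lie in the centre of `O_2(X)`. -/
theorem hsz_Q.invol_mem {X : Type u} [Group X] (q : hsz_Q X) (x : X) (hx : x ^ 2 = 1) :
    x ∈ Cfsg.pCore 2 X ∧ ∀ y ∈ Cfsg.pCore 2 X, x * y = y * x := by
  have hfin := q.fin
  have : Fact (Nat.Prime 2) := ⟨Nat.prime_two⟩
  have hps : Cfsg.IsPSolvable 2 X := Cfsg.Agent.Helper4.SolvPSolv.isPSolvable_of_isSolvable 2 q.sol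
  have hcent := Cfsg.Agent.Helper4.centralizer_pCore_le_of_isPSolvable hps q.core
  have hpg : IsPGroup 2 (Cfsg.pCore 2 X) := Cfsg.Agent.Helper5.isPGroup_pCore 2
  have hnorm : (Cfsg.pCore 2 X).Normal := inferInstance
  -- `O_2(X)` is not trivial
  have hne : Nontrivial (Cfsg.pCore 2 X) := by
    by_contra hcon
    rw [not_nontrivial_iff_subsingleton] at hcon
    have hbot : Cfsg.pCore 2 X = ⊥ := Subgroup.eq_bot_of_subsingleton _
    obtain ⟨a, b, hab, ha1, _, _, _⟩ := q.four
    have ha : a ∈ Subgroup.centralizer (Cfsg.pCore 2 X : Set X) := by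
      rw [mem_centralizer_iff]
      intro y hy
      rw [hbot] at hy
      have : y = 1 := hy
      rw [this, one_mul, mul_one]
    have := hcent ha
    rw [hbot] at this
    exact ha1 this
  -- an involution in the centre of `O_2(X)`
  have hcn := hpg.center_nontrivial
  obtain ⟨⟨z, hz⟩, hz1⟩ := exists_ne (1 : Subgroup.center (Cfsg.pCore 2 X))
  have hz1' : z ≠ 1 := fun h => hz1 (Subtype.ext h)
  obtain ⟨m, hm1, hm2⟩ := hsz_exists_invol hpg z hz1'
  have hzm : z ^ m ∈ Subgroup.center (Cfsg.pCore 2 X) := pow_mem hz m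
  -- the set of the central elements of order at most two is closed under conjugation
  by_cases hx1 : x = 1
  · rw [hx1]
    exact ⟨one_mem _, fun y _ => by rw [one_mul, mul_one]⟩
  · have hz1X : ((z ^ m : Cfsg.pCore 2 X) : X) ≠ 1 := by
      intro h
      apply hm1
      exact Subtype.ext h
    have hz2X : ((z ^ m : Cfsg.pCore 2 X) : X) ^ 2 = 1 := by
      have := congrArg Subtype.val hm2
      simpa using this
    obtain ⟨g, hg⟩ := isConj_iff.1 (q.conj _ x hz1X hz2X hx1 hx)
    rw [← hg]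
    refine ⟨hnorm.conj_mem _ (z ^ m).2 g, ?_⟩
    intro y hy
    have hy' : g⁻¹ * y * g⁻¹⁻¹ ∈ Cfsg.pCore 2 X := hnorm.conj_mem y hy g⁻¹
    have h1 := Subgroup.mem_center_iff.1 hzm ⟨g⁻¹ * y * g⁻¹⁻¹, hy'⟩
    have h2 : (g⁻¹ * y * g⁻¹⁻¹) * ((z ^ m : Cfsg.pCore 2 X) : X) =
        ((z ^ m : Cfsg.pCore 2 X) : X) * (g⁻¹ * y * g⁻¹⁻¹) := congrArg Subtype.val h1
    calc g * ((z ^ m : Cfsg.pCore 2 X) : X) * g⁻¹ * y
        = g * (((z ^ m : Cfsg.pCore 2 X) : X) * (g⁻¹ * y * g⁻¹⁻¹)) * g⁻¹ := by group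
      _ = g * ((g⁻¹ * y * g⁻¹⁻¹) * ((z ^ m : Cfsg.pCore 2 X) : X)) * g⁻¹ := by rw [h2]
      _ = y * (g * ((z ^ m : Cfsg.pCore 2 X) : X) * g⁻¹) := by group

theorem hsz_Q.invol_comm {X : Type u} [Group X] (q : hsz_Q X) (x y : X) (hx : x ^ 2 = 1)
    (hy : y ^ 2 = 1) : x * y = y * x :=
  (q.invol_mem x hx).2 y (q.invol_mem y hy).1

/-- `O_2(X)` with the conjugation action of `X` is a member of the class. -/
theorem hsz_Q.cls {X : Type u} [Group X] (q : hsz_Q X) :
    hsz_C (MulAut.conjNormal : X →* MulAut ↥(Cfsg.pCore 2 X)) := by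
  have hfin := q.fin
  refine ⟨inferInstance, Cfsg.Agent.Helper5.isPGroup_pCore 2, ?_, ?_, ?_⟩
  · intro x hx
    have hx' : (x : X) ^ 2 = 1 := by
      have := congrArg Subtype.val hx
      simpa using this
    rw [Subgroup.mem_center_iff]
    intro y
    apply Subtype.ext
    exact ((q.invol_mem x hx').2 y y.2).symm
  · obtain ⟨x, y, hxy, hx1, hx2, hy1, hy2⟩ := q.four
    refine ⟨⟨x, (q.invol_mem x hx2).1⟩, ⟨y, (q.invol_mem y hy2).1⟩, ?_, ?_, ?_, ?_, ?_⟩
    · intro h
      exact hxy (congrArg Subtype.val h)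
    · intro h
      exact hx1 (congrArg Subtype.val h)
    · apply Subtype.ext
      simpa using hx2
    · intro h
      exact hy1 (congrArg Subtype.val h)
    · apply Subtype.ext
      simpa using hy2
  · intro x y hx1 hx2 hy1 hy2
    have hx1' : (x : X) ≠ 1 := fun h => hx1 (Subtype.ext h)
    have hy1' : (y : X) ≠ 1 := fun h => hy1 (Subtype.ext h)
    have hx2' : (x : X) ^ 2 = 1 := by
      have := congrArg Subtype.val hx2
      simpa using this
    have hy2' : (y : X) ^ 2 = 1 := by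
      have := congrArg Subtype.val hy2
      simpa using this
    obtain ⟨g, hg⟩ := isConj_iff.1 (q.conj _ _ hx1' hx2' hy1' hy2')
    refine ⟨g, ?_⟩
    apply Subtype.ext
    rw [MulAut.conjNormal_apply]
    exact hg

end Cfsg.Agent.HSz
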