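import Mathlib

set_option autoImplicit false

/-!
Step 1 of the reduction of S3797 to the theorem of Higman and Shaw, as a statement of pure group
theory: in a finite group whose involutions commute pairwise and in which some element `ξ` acts on
the involutions like a scalar of odd order `d ≥ 2`, every 2-element centralizes every involution.
-/

namespace Cfsg.Agent.HSz

open Subgroup

universe u

variable {X : Type u} [Group X]

/-- a nonidentity element of 2-power order has a power that is an involution. -/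
theorem hsz_s1_invol_pow (g : X) (k : ℕ) (hg : g ^ 2 ^ k = 1) (hg1 : g ≠ 1) :
    ∃ m : ℕ, g ^ m ≠ 1 ∧ (g ^ m) ^ 2 = 1 := by
  obtain ⟨j, -, hj⟩ := (Nat.dvd_prime_pow Nat.prime_two).1 (orderOf_dvd_of_pow_eq_one hg)
  have hj0 : j ≠ 0 := by
    intro h0
    rw [h0, pow_zero, orderOf_eq_one_iff] at hj
    exact hg1 hj
  obtain ⟨l, rfl⟩ := Nat.exists_eq_succ_of_ne_zero hj0
  refine ⟨2 ^ l, ?_, ?_⟩
  · apply pow_ne_one_of_lt_orderOf (by positivity)
    rw [hj, pow_succ]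
    have : 0 < 2 ^ l := by positivity
    omega
  · rw [← pow_mul, ← pow_succ, ← hj, pow_orderOf_eq_one]

/-- the 2-part of an element whose `2 ^ k`-th power lies in a subgroup `M`. -/
theorem hsz_s1_two_part [Finite X] (n : X) (M : Subgroup X) (k : ℕ) (hn : n ^ 2 ^ k ∈ M) :
    ∃ j a : ℕ, (n ^ j) ^ 2 ^ a = 1 ∧ (n ^ j)⁻¹ * n ∈ M := by
  obtain ⟨a, b, hb, hab⟩ := Nat.exists_eq_two_pow_mul_odd (orderOf_pos n).ne'
  have hcop : Nat.Coprime b (2 ^ k) := by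
    apply Nat.Coprime.pow_right
    exact (Nat.coprime_comm.1 (Nat.coprime_two_left.2 hb))
  -- `u` with `b * u ≡ 1` modulo `2 ^ k`
  obtain ⟨u, hu⟩ : ∃ u : ℕ, b * u ≡ 1 [MOD 2 ^ k] := by
    by_cases hk : 2 ^ k = 1
    · exact ⟨0, by rw [hk]; exact Nat.modEq_one⟩
    · have h1 : 1 < 2 ^ k := by
        have : 0 < 2 ^ k := by positivity
        omega
      obtain ⟨u, -, hu⟩ := Nat.exists_mul_mod_eq_one_of_coprime hcop h1
      refine ⟨u, ?_⟩
      unfold Nat.ModEq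
      rw [hu, Nat.mod_eq_of_lt h1]
  refine ⟨b * u + 2 ^ k * (2 ^ a * b), a, ?_, ?_⟩
  · rw [← pow_mul]
    have : (b * u + 2 ^ k * (2 ^ a * b)) * 2 ^ a = (2 ^ a * b) * (u + 2 ^ k * 2 ^ a) := by ring
    rw [this, pow_mul, ← hab, pow_orderOf_eq_one, one_pow]
  · -- `b * u + … = 1 + 2 ^ k * w`
    have h1 : b * u + 2 ^ k * (2 ^ a * b) ≡ 1 [MOD 2 ^ k] := by
      have : b * u + 2 ^ k * (2 ^ a * b) ≡ b * u + 0 [MOD 2 ^ k] := by
        apply Nat.ModEq.add_left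
        exact (Nat.modEq_zero_iff_dvd.2 (Dvd.intro _ rfl))
      exact this.trans hu
    have hpos : 1 ≤ b * u + 2 ^ k * (2 ^ a * b) := by
      have h2 : 0 < 2 ^ k * (2 ^ a * b) := by
        have hb0 : 0 < b := hb.pos
        positivity
      omega
    obtain ⟨w, hw⟩ := (Nat.modEq_iff_dvd' hpos).1 h1.symm
    have h3 : b * u + 2 ^ k * (2 ^ a * b) = 1 + 2 ^ k * w := by omega
    rw [h3, pow_add, pow_one, pow_mul, mul_inv_rev, inv_mul_cancel_right]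
    exact inv_mem (pow_mem hn w)

/-- a 2-element `g` of a normal subgroup `C` that normalizes a subgroup `R` fixes, by conjugation,
some element of every coset `y₀ (R ⊓ C)` when `R ⊓ C` has odd order. -/
theorem hsz_s1_fixed [Finite X] (g : X) (k : ℕ) (hg : g ^ 2 ^ k = 1) (R C : Subgroup X) [C.Normal]
    (hgC : g ∈ C) (hgR : g ∈ normalizer (R : Set X)) (hodd : Odd (Nat.card ↥(R ⊓ C))) (y₀ : X)
    (hy₀ : y₀ ∈ R) : ∃ y ∈ R, y₀⁻¹ * y ∈ C ∧ g * y * g⁻¹ = y := by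
  haveI : Fintype {y : X // y ∈ R ∧ y₀⁻¹ * y ∈ C} := Fintype.ofFinite _
  haveI : DecidableEq {y : X // y ∈ R ∧ y₀⁻¹ * y ∈ C} := Classical.decEq _
  have hmem : ∀ y : X, y ∈ R ∧ y₀⁻¹ * y ∈ C → g * y * g⁻¹ ∈ R ∧ y₀⁻¹ * (g * y * g⁻¹) ∈ C := by
    rintro y ⟨hyR, hyC⟩
    refine ⟨(mem_normalizer_iff.1 hgR y).1 hyR, ?_⟩
    have h1 : y₀⁻¹ * (g * y * g⁻¹) = (y₀⁻¹ * g * y₀⁻¹⁻¹) * (y₀⁻¹ * y) * g⁻¹ := by group
    rw [h1]
    exact mul_mem (mul_mem (‹C.Normal›.conj_mem g hgC y₀⁻¹) hyC) (inv_mem hgC)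
  have hmem' : ∀ y : X, y ∈ R ∧ y₀⁻¹ * y ∈ C → g⁻¹ * y * g ∈ R ∧ y₀⁻¹ * (g⁻¹ * y * g) ∈ C := by
    rintro y ⟨hyR, hyC⟩
    refine ⟨?_, ?_⟩
    · rw [mem_normalizer_iff.1 hgR]
      have : g * (g⁻¹ * y * g) * g⁻¹ = y := by group
      rw [this]
      exact hyR
    · have h1 : y₀⁻¹ * (g⁻¹ * y * g) = (y₀⁻¹ * g⁻¹ * y₀⁻¹⁻¹) * (y₀⁻¹ * y) * g := by group
      rw [h1]
      exact mul_mem (mul_mem (‹C.Normal›.conj_mem g⁻¹ (inv_mem hgC) y₀⁻¹) hyC) hgC
  obtain ⟨f, hf⟩ : ∃ f : Equiv.Perm {y : X // y ∈ R ∧ y₀⁻¹ * y ∈ C},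
      ∀ y, ((f y : {y : X // y ∈ R ∧ y₀⁻¹ * y ∈ C}) : X) = g * (y : X) * g⁻¹ := by
    refine ⟨⟨fun y => ⟨g * (y : X) * g⁻¹, hmem y y.2⟩, fun y => ⟨g⁻¹ * (y : X) * g, hmem' y y.2⟩,
      ?_, ?_⟩, fun _ => rfl⟩
    · intro y
      apply Subtype.ext
      show g⁻¹ * (g * (y : X) * g⁻¹) * g = y
      group
    · intro y
      apply Subtype.ext
      show g * (g⁻¹ * (y : X) * g) * g⁻¹ = y
      group
  have hpow : ∀ (n : ℕ) (y : {y : X // y ∈ R ∧ y₀⁻¹ * y ∈ C}),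
      (((f ^ n) y : {y : X // y ∈ R ∧ y₀⁻¹ * y ∈ C}) : X) = g ^ n * (y : X) * (g ^ n)⁻¹ := by
    intro n
    induction n with
    | zero =>
      intro y
      rw [pow_zero, pow_zero, one_mul, inv_one, mul_one]
      rfl
    | succ n ih =>
      intro y
      rw [pow_succ, Equiv.Perm.mul_apply, ih, hf, pow_succ]
      group
  have hf1 : f ^ 2 ^ k = 1 := by
    apply Equiv.ext
    intro y
    apply Subtype.ext
    rw [hpow, hg, one_mul, inv_one, mul_one]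
    rfl
  haveI : Fact (Nat.Prime 2) := ⟨Nat.prime_two⟩
  -- the coset has odd size
  have hcard : Fintype.card {y : X // y ∈ R ∧ y₀⁻¹ * y ∈ C} = Nat.card ↥(R ⊓ C) := by
    rw [← Nat.card_eq_fintype_card]
    apply Nat.card_congr
    refine ⟨fun y => ⟨y₀⁻¹ * (y : X), Subgroup.mem_inf.2 ⟨mul_mem (inv_mem hy₀) y.2.1, y.2.2⟩⟩,
      fun u => ⟨y₀ * (u : X), mul_mem hy₀ (Subgroup.mem_inf.1 u.2).1,
        by rw [inv_mul_cancel_left]; exact (Subgroup.mem_inf.1 u.2).2⟩, ?_, ?_⟩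
    · intro y
      apply Subtype.ext
      show y₀ * (y₀⁻¹ * (y : X)) = y
      rw [mul_inv_cancel_left]
    · intro u
      apply Subtype.ext
      show y₀⁻¹ * (y₀ * (u : X)) = u
      rw [inv_mul_cancel_left]
  have hnd : ¬ 2 ∣ Fintype.card {y : X // y ∈ R ∧ y₀⁻¹ * y ∈ C} := by
    rw [hcard]
    intro h
    have := Nat.odd_iff.1 hodd
    omega
  obtain ⟨y, hy⟩ := Equiv.Perm.exists_fixed_point_of_prime hnd hf1
  refine ⟨(y : X), y.2.1, y.2.2, ?_⟩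
  rw [← hf y, hy]

/-- Step 1: `X` finite, involutions commute pairwise, `C` the centralizer of all involutions;
`ξ` with `d` odd, `d ≥ 2`, such that `ξ ^ j` commutes with an involution only if `d ∣ j`,
`ξ ^ j ∈ C` if `d ∣ j`, and every conjugate of `ξ` is congruent to a power of `ξ` modulo `C`.
Then every 2-element lies in `C`. -/
theorem hsz_step1 [Finite X]
    (hinv : ∀ x y : X, x ^ 2 = 1 → y ^ 2 = 1 → x * y = y * x)
    (ξ : X) (d : ℕ) (hd : Odd d) (hd2 : 2 ≤ d)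
    (hfix : ∀ j : ℕ, (∃ v : X, v ≠ 1 ∧ v ^ 2 = 1 ∧ ξ ^ j * v = v * ξ ^ j) → d ∣ j)
    (htriv : ∀ j : ℕ, d ∣ j → ∀ v : X, v ^ 2 = 1 → ξ ^ j * v = v * ξ ^ j)
    (hnorm : ∀ a : X, ∃ i : ℕ, ∀ v : X, v ^ 2 = 1 →
      (a * ξ * a⁻¹ * (ξ ^ i)⁻¹) * v = v * (a * ξ * a⁻¹ * (ξ ^ i)⁻¹))
    (t : X) (k : ℕ) (ht : t ^ 2 ^ k = 1) : ∀ v : X, v ^ 2 = 1 → t * v = v * t := by
  classical
  by_cases hex : ∃ v₀ : X, v₀ ≠ 1 ∧ v₀ ^ 2 = 1
  swap
  · intro v hv
    have : v = 1 := by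
      by_contra h
      exact hex ⟨v, h, hv⟩
    rw [this, mul_one, one_mul]
  obtain ⟨v₀, hv₀1, hv₀2⟩ := hex
  -- the centralizer of the involutions
  obtain ⟨C, hC⟩ : ∃ C : Subgroup X, ∀ c, c ∈ C ↔ ∀ v : X, v ^ 2 = 1 → c * v = v * c := by
    refine ⟨centralizer {v | v ^ 2 = 1}, fun c => ?_⟩
    rw [mem_centralizer_iff]
    constructor
    · intro h v hv
      exact (h v hv).symm
    · intro h v hv
      exact (h v hv).symm
  suffices htC : t ∈ C from (hC t).1 htC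
  haveI hCn : C.Normal := by
    constructor
    intro c hc g
    rw [hC] at hc ⊢
    intro v hv
    have hv' : (g⁻¹ * v * g) ^ 2 = 1 := by
      have : (g⁻¹ * v * g) ^ 2 = g⁻¹ * v ^ 2 * g := by
        rw [pow_two, pow_two]
        group
      rw [this, hv, mul_one, inv_mul_cancel]
    have h1 := hc _ hv'
    calc g * c * g⁻¹ * v = g * (c * (g⁻¹ * v * g)) * g⁻¹ := by group
      _ = g * ((g⁻¹ * v * g) * c) * g⁻¹ := by rw [h1]
      _ = v * (g * c * g⁻¹) := by group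
  -- a prime divisor `r` of `d`
  obtain ⟨r, hr, hrd⟩ := Nat.exists_prime_and_dvd (show d ≠ 1 by omega)
  obtain ⟨e, rfl⟩ := hrd
  haveI : Fact r.Prime := ⟨hr⟩
  have hrodd : Odd r := (Nat.odd_mul.1 hd).1
  have hr2 : ¬ r ∣ 2 := by
    intro h
    have h2 : r = 2 := (Nat.prime_dvd_prime_iff_eq hr Nat.prime_two).1 h
    rw [h2] at hrodd
    exact absurd hrodd (by decide)
  have he : 0 < e := by
    rcases Nat.eq_zero_or_pos e with h | h
    · rw [h, mul_zero] at hd2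
      omega
    · exact h
  obtain ⟨η, hη⟩ : ∃ η : X, η = ξ ^ e := ⟨_, rfl⟩
  have hηpow : ∀ j : ℕ, η ^ j = ξ ^ (e * j) := by
    intro j
    rw [hη, pow_mul]
  have hηfix : ∀ j : ℕ, (∃ v : X, v ≠ 1 ∧ v ^ 2 = 1 ∧ η ^ j * v = v * η ^ j) → r ∣ j := by
    rintro j ⟨v, hv1, hv2, hv⟩
    rw [hηpow] at hv
    have h1 := hfix (e * j) ⟨v, hv1, hv2, hv⟩
    rw [mul_comm r e] at h1
    exact Nat.dvd_of_mul_dvd_mul_left he h1
  have hηC : ∀ j : ℕ, r ∣ j → η ^ j ∈ C := by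
    intro j hj
    rw [hC, hηpow]
    apply htriv
    rw [mul_comm r e]
    exact Nat.mul_dvd_mul_left e hj
  have hηnC : ∀ j : ℕ, η ^ j ∈ C → r ∣ j := by
    intro j hj
    exact hηfix j ⟨v₀, hv₀1, hv₀2, (hC _).1 hj v₀ hv₀2⟩
  -- the subgroup `M = C ⟨η⟩`
  obtain ⟨M, hM, hMn⟩ : ∃ M : Subgroup X, (∀ x, x ∈ M ↔ ∃ i : ℕ, (η ^ i)⁻¹ * x ∈ C) ∧ M.Normal := by
    have hconj : ∀ a : X, ∃ i : ℕ,
        (QuotientGroup.mk' C) (a * η * a⁻¹) = (QuotientGroup.mk' C η) ^ i := by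
      intro a
      obtain ⟨i, hi⟩ := hnorm a
      refine ⟨i, ?_⟩
      have h1 : a * ξ * a⁻¹ * (ξ ^ i)⁻¹ ∈ C := (hC _).2 hi
      have h2 : (QuotientGroup.mk' C) (a * ξ * a⁻¹) = (QuotientGroup.mk' C ξ) ^ i := by
        rw [← map_pow]
        have h3 := (QuotientGroup.eq_one_iff (N := C) _).2 h1
        have h4 : (QuotientGroup.mk' C) (a * ξ * a⁻¹ * (ξ ^ i)⁻¹) = 1 := h3
        rw [map_mul, map_inv] at h4
        exact eq_of_mul_inv_eq_one h4
      have h5 : a * η * a⁻¹ = (a * ξ * a⁻¹) ^ e := by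
        rw [hη, conj_pow]
      rw [h5, map_pow, h2, hη, map_pow, ← pow_mul, ← pow_mul, mul_comm]
    haveI hZn : (zpowers (QuotientGroup.mk' C η)).Normal := by
      constructor
      intro n hn g
      obtain ⟨a, rfl⟩ := QuotientGroup.mk'_surjective C g
      obtain ⟨z, rfl⟩ := mem_zpowers_iff.1 hn
      obtain ⟨i, hi⟩ := hconj a
      have h1 : (QuotientGroup.mk' C) a * (QuotientGroup.mk' C) η ^ z * ((QuotientGroup.mk' C) a)⁻¹
          = ((QuotientGroup.mk' C) (a * η * a⁻¹)) ^ z := by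
        rw [map_mul, map_mul, map_inv, conj_zpow]
      rw [h1, hi, ← zpow_natCast, ← zpow_mul]
      exact zpow_mem (mem_zpowers _) _
    refine ⟨(zpowers (QuotientGroup.mk' C η)).comap (QuotientGroup.mk' C), ?_, inferInstance⟩
    intro x
    rw [mem_comap, ← mem_powers_iff_mem_zpowers, Submonoid.mem_powers_iff]
    constructor
    · rintro ⟨i, hi⟩
      refine ⟨i, ?_⟩
      rw [← map_pow] at hi
      exact QuotientGroup.eq.1 hi
    · rintro ⟨i, hi⟩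
      refine ⟨i, ?_⟩
      rw [← map_pow]
      exact QuotientGroup.eq.2 hi
  have hCM : C ≤ M := by
    intro c hc
    rw [hM]
    exact ⟨0, by rw [pow_zero, inv_one, one_mul]; exact hc⟩
  have hηM : η ∈ M := by
    rw [hM]
    exact ⟨1, by rw [pow_one, inv_mul_cancel]; exact one_mem _⟩
  -- 2-elements of `M` lie in `C`
  have hM2 : ∀ x ∈ M, ∀ k : ℕ, x ^ 2 ^ k = 1 → x ∈ C := by
    intro x hx k hxk
    obtain ⟨i, hi⟩ := (hM x).1 hx
    have h1 : (QuotientGroup.mk' C) x = (QuotientGroup.mk' C η) ^ i := by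
      rw [← map_pow]
      exact (QuotientGroup.eq.2 hi).symm
    have h2 : (QuotientGroup.mk' C) (η ^ (i * 2 ^ k)) = 1 := by
      rw [pow_mul, map_pow, map_pow, ← h1, ← map_pow, hxk, map_one]
    have h3 : η ^ (i * 2 ^ k) ∈ C := (QuotientGroup.eq_one_iff _).1 h2
    have h4 : r ∣ i := by
      rcases (Nat.Prime.dvd_mul hr).1 (hηnC _ h3) with h | h
      · exact h
      · exact absurd (hr.dvd_of_dvd_pow h) hr2
    have h5 : x = η ^ i * ((η ^ i)⁻¹ * x) := by group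
    rw [h5]
    exact mul_mem (hηC i h4) hi
  -- elements of `M` outside `C` commute with no involution
  have hMfix : ∀ y ∈ M, y ∉ C → ∀ v : X, v ≠ 1 → v ^ 2 = 1 → y * v ≠ v * y := by
    intro y hy hyC v hv1 hv2 hcomm
    obtain ⟨i, hi⟩ := (hM y).1 hy
    apply hyC
    have h1 : y = η ^ i * ((η ^ i)⁻¹ * y) := by group
    have h2 := (hC _).1 hi v hv2
    have h3 : η ^ i * v = v * η ^ i := by
      have h4 : η ^ i = y * ((η ^ i)⁻¹ * y)⁻¹ := by group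
      rw [h4]
      have h5 : ((η ^ i)⁻¹ * y)⁻¹ * v = v * ((η ^ i)⁻¹ * y)⁻¹ := by
        have := (hC _).1 (inv_mem hi) v hv2
        exact this
      rw [mul_assoc, h5, ← mul_assoc, hcomm, mul_assoc]
    rw [h1]
    exact mul_mem (hηC i (hηfix i ⟨v, hv1, hv2, h3⟩)) hi
  -- the `r`-part of `η`
  obtain ⟨a, m, hm, ham⟩ := Nat.exists_eq_pow_mul_and_not_dvd (orderOf_pos η).ne' r hr.ne_one
  have hη'M : η ^ m ∈ M := pow_mem hηM m
  have hη'C : η ^ m ∉ C := fun h => hm (hηnC m h)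
  have hη'pow : (η ^ m) ^ r ^ a = 1 := by
    rw [← pow_mul, mul_comm, ← ham, pow_orderOf_eq_one]
  have hpz : IsPGroup r (zpowers (⟨η ^ m, hη'M⟩ : M)) := by
    have h1 : (⟨η ^ m, hη'M⟩ : M) ^ r ^ a = 1 := by
      apply Subtype.ext
      exact hη'pow
    obtain ⟨b, -, hb⟩ := (Nat.dvd_prime_pow hr).1 (orderOf_dvd_of_pow_eq_one h1)
    apply IsPGroup.of_card (n := b)
    rw [Nat.card_zpowers, hb]
  obtain ⟨R, hR⟩ := hpz.exists_le_sylow
  obtain ⟨R', hR'⟩ : ∃ R' : Subgroup X, R' = (R : Subgroup M).map M.subtype := ⟨_, rfl⟩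
  have hy₀ : η ^ m ∈ R' := by
    rw [hR']
    exact ⟨⟨η ^ m, hη'M⟩, hR (mem_zpowers _), rfl⟩
  have hR'M : R' ≤ M := by
    rw [hR']
    exact map_subtype_le _
  have hR'p : IsPGroup r R' := by
    rw [hR']
    exact R.isPGroup'.map _
  have hodd : Odd (Nat.card ↥(R' ⊓ C)) := by
    obtain ⟨b, hb⟩ := IsPGroup.iff_card.1 (hR'p.to_le (inf_le_left : R' ⊓ C ≤ R'))
    rw [hb]
    exact hrodd.pow
  have hF : normalizer (R' : Set X) ⊔ M = ⊤ := by
    rw [hR']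
    exact Sylow.normalizer_sup_eq_top R
  -- the main claim
  have hmain : ∀ (k : ℕ) (s : X), s ∈ normalizer (R' : Set X) → s ^ 2 ^ k = 1 → s ∈ C := by
    intro k
    induction k with
    | zero =>
      intro s _ hs
      rw [pow_zero, pow_one] at hs
      rw [hs]
      exact one_mem _
    | succ k ih =>
      intro s hsN hs
      have hs2 : (s ^ 2) ^ 2 ^ k = 1 := by
        rw [← pow_mul, ← pow_succ']
        exact hs
      have hs2C : s ^ 2 ∈ C := ih (s ^ 2) (pow_mem hsN 2) hs2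
      by_contra hsC
      obtain ⟨y, hyR, hyC, hyfix⟩ :=
        hsz_s1_fixed (s ^ 2) k hs2 R' C hs2C (pow_mem hsN 2) hodd (η ^ m) hy₀
      have hynC : y ∉ C := by
        intro h
        apply hη'C
        have : η ^ m = y * ((η ^ m)⁻¹ * y)⁻¹ := by group
        rw [this]
        exact mul_mem h (inv_mem hyC)
      have hcomm : Commute (s ^ 2) y := by
        unfold Commute SemiconjBy
        calc s ^ 2 * y = (s ^ 2 * y * (s ^ 2)⁻¹) * s ^ 2 := by group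
          _ = y * s ^ 2 := by rw [hyfix]
      have hs21 : s ^ 2 = 1 := by
        by_contra h
        obtain ⟨m', hm1, hm2⟩ := hsz_s1_invol_pow (s ^ 2) k hs2 h
        exact hMfix y (hR'M hyR) hynC _ hm1 hm2 ((hcomm.pow_left m').eq).symm
      exact hsC ((hC s).2 (fun v hv => hinv s v hs21 hv))
  -- a general 2-element
  have htop : t ∈ normalizer (R' : Set X) ⊔ M := by
    rw [hF]
    exact mem_top t
  obtain ⟨n, hn, m₁, hm₁, rfl⟩ := Subgroup.mem_sup_of_normal_right.1 htop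
  have hnM : n ^ 2 ^ k ∈ M := by
    have h1 : ((n : X) : X ⧸ M) = ((n * m₁ : X) : X ⧸ M) := by
      rw [QuotientGroup.mk_mul, (QuotientGroup.eq_one_iff m₁).2 hm₁, mul_one]
    have h2 : ((n ^ 2 ^ k : X) : X ⧸ M) = 1 := by
      rw [QuotientGroup.mk_pow, h1, ← QuotientGroup.mk_pow, ht, QuotientGroup.mk_one]
    exact (QuotientGroup.eq_one_iff _).1 h2
  obtain ⟨j, a', hj1, hj2⟩ := hsz_s1_two_part n M k hnM
  have hn2C : n ^ j ∈ C := hmain a' (n ^ j) (pow_mem hn j) hj1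
  have hnM' : n ∈ M := by
    have : n = n ^ j * ((n ^ j)⁻¹ * n) := by group
    rw [this]
    exact mul_mem (hCM hn2C) hj2
  exact hM2 (n * m₁) (mul_mem hnM' hm₁) k ht

end Cfsg.Agent.HSz
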