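import Mathlib

set_option autoImplicit false

/-!
The automorphisms of a Sylow 2-subgroup induced by its normalizer.
-/

namespace Cfsg.Agent.HSz

open Subgroup

universe u

variable {G : Type u} [Group G]

/-- conjugation by an element of the normalizer, as an automorphism of the subgroup. -/
def hsz_sab_conj (S : Subgroup G) : normalizer (S : Set G) →* MulAut S where
  toFun n :=
    { toFun := fun x => ⟨(n : G) * x * (n : G)⁻¹, (mem_normalizer_iff.1 n.2 x).1 x.2⟩
      invFun := fun x => ⟨(n : G)⁻¹ * x * (n : G), by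
        have := (mem_normalizer_iff.1 (inv_mem n.2) x).1 x.2
        rwa [inv_inv] at this⟩
      left_inv := by
        intro x
        apply Subtype.ext
        show (n : G)⁻¹ * ((n : G) * x * (n : G)⁻¹) * (n : G) = x
        group
      right_inv := by
        intro x
        apply Subtype.ext
        show (n : G) * ((n : G)⁻¹ * x * (n : G)) * (n : G)⁻¹ = x
        group
      map_mul' := by
        intro x y
        apply Subtype.ext
        show (n : G) * ((x : G) * y) * (n : G)⁻¹ = ((n : G) * x * (n : G)⁻¹) * ((n : G) * y * (n : G)⁻¹)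
        group }
  map_one' := by
    apply MulEquiv.ext
    intro x
    apply Subtype.ext
    show ((1 : normalizer (S : Set G)) : G) * x * ((1 : normalizer (S : Set G)) : G)⁻¹ = x
    simp
  map_mul' := by
    intro a b
    apply MulEquiv.ext
    intro x
    apply Subtype.ext
    show ((a * b : normalizer (S : Set G)) : G) * x * ((a * b : normalizer (S : Set G)) : G)⁻¹ =
      (a : G) * ((b : G) * x * (b : G)⁻¹) * (a : G)⁻¹
    simp only [Subgroup.coe_mul]
    group

theorem hsz_sab_conj_apply (S : Subgroup G) (n : normalizer (S : Set G)) (x : S) :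
    ((hsz_sab_conj S n x : S) : G) = (n : G) * x * (n : G)⁻¹ := rfl

theorem hsz_sylaut_b [Finite G] (hsol : Group.IsSolvable G) (S : Sylow 2 G)
    (hcent : ∀ x ∈ (S : Subgroup G), x ^ 2 = 1 → ∀ s ∈ (S : Subgroup G), x * s = s * x)
    (hconj : ∀ x y : G, x ≠ 1 → x ^ 2 = 1 → y ≠ 1 → y ^ 2 = 1 → IsConj x y) :
    ∃ Y : Subgroup (MulAut ↥(S : Subgroup G)), Group.IsSolvable Y ∧
      ∀ x y : ↥(S : Subgroup G), x ≠ 1 → x ^ 2 = 1 → y ≠ 1 → y ^ 2 = 1 → ∃ a ∈ Y, a x = y := by
  haveI : Fact (Nat.Prime 2) := ⟨Nat.prime_two⟩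
  refine ⟨(hsz_sab_conj (S : Subgroup G)).range, ?_, ?_⟩
  · haveI : Group.IsSolvable (normalizer ((S : Subgroup G) : Set G)) :=
      Group.isSolvable_of_isSolvable_injective (Subgroup.subtype_injective _)
    exact Group.isSolvable_of_surjective (hsz_sab_conj (S : Subgroup G)).rangeRestrict_surjective
  · intro x y hx1 hx2 hy1 hy2
    have hx1' : (x : G) ≠ 1 := fun h => hx1 (Subtype.ext h)
    have hy1' : (y : G) ≠ 1 := fun h => hy1 (Subtype.ext h)
    have hx2' : (x : G) ^ 2 = 1 := by
      have := congrArg Subtype.val hx2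
      simpa using this
    have hy2' : (y : G) ^ 2 = 1 := by
      have := congrArg Subtype.val hy2
      simpa using this
    obtain ⟨g, hg⟩ := isConj_iff.1 (hconj _ _ hx1' hx2' hy1' hy2')
    have hxc : (x : G) ∈ centralizer ((S : Subgroup G) : Set G) := by
      rw [mem_centralizer_iff]
      intro s hs
      exact (hcent _ x.2 hx2' s hs).symm
    have hyc : g⁻¹⁻¹ * (x : G) * g⁻¹ ∈ centralizer ((S : Subgroup G) : Set G) := by
      rw [inv_inv, hg, mem_centralizer_iff]
      intro s hs
      exact (hcent _ y.2 hy2' s hs).symm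
    obtain ⟨n, hn, hne⟩ := Sylow.conj_eq_normalizer_conj_of_mem_centralizer S (x : G) g⁻¹ hxc hyc
    rw [inv_inv, hg] at hne
    refine ⟨hsz_sab_conj (S : Subgroup G) ⟨n⁻¹, inv_mem hn⟩, ⟨_, rfl⟩, ?_⟩
    apply Subtype.ext
    rw [hsz_sab_conj_apply]
    show n⁻¹ * (x : G) * n⁻¹⁻¹ = y
    rw [inv_inv, ← hne]

end Cfsg.Agent.HSz
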