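import Mathlib
import Cfsg.Prelude.Def_Local
import Cfsg.Agent.HSz.Defs
import Cfsg.Agent.HSz.Frame
import Cfsg.Agent.HSz.L4Defs
import Cfsg.Agent.HSz.Coord
import Cfsg.Agent.HSz.CoordFacts
import Cfsg.Agent.HSz.QDef
import Cfsg.Agent.HSz.SolvQ
import Cfsg.Agent.HSz.Step1

set_option autoImplicit false
set_option linter.unusedVariables false

/-!
Package Q of the S3797 wrapper, last statement: in the quotient `X` every 2-element centralizes
every involution (Step 1 with the coordinates of the action of `X` on the involutions).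
-/

namespace Cfsg.Agent.HSz

open Subgroup
open scoped commutatorElement

universe u v

/-- Step 1 for `X`: every 2-element centralizes every involution. -/
theorem hsz_Q.two_central {X : Type u} [Group X] (q : hsz_Q X) (t : X) (k : ℕ)
    (ht : t ^ 2 ^ k = 1) (v : X) (hv : v ^ 2 = 1) : t * v = v * t := by
  have hfin := q.fin
  have h := q.cls
  have hT := hsz_T_of_C h
  obtain ⟨ξ, d, hc⟩ := hsz_coord_exists q.sol
    (hsz_actV (MulAut.conjNormal : X →* MulAut ↥(Cfsg.pCore 2 X))) hT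
  obtain ⟨hdodd, hd2, hfix, htriv, hnorm⟩ :=
    hsz_coord_facts (hsz_actV (MulAut.conjNormal : X →* MulAut ↥(Cfsg.pCore 2 X))) ξ d hc
  -- involutions of `X` as elements of `V`
  have hmemQ : ∀ u : X, u ^ 2 = 1 → u ∈ Cfsg.pCore 2 X := fun u hu => (q.invol_mem u hu).1
  have hmemV : ∀ (u : X) (hu : u ^ 2 = 1),
      (⟨u, hmemQ u hu⟩ : Cfsg.pCore 2 X) ∈ hsz_V ↥(Cfsg.pCore 2 X) := by
    intro u hu
    apply h.mem_V.2
    apply Subtype.ext
    simpa using hu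
  have key : ∀ (g g' u : X) (hu : u ^ 2 = 1),
      hsz_actV (MulAut.conjNormal : X →* MulAut ↥(Cfsg.pCore 2 X)) g
        (hsz_toW (⟨u, hmemQ u hu⟩ : Cfsg.pCore 2 X)) =
      hsz_actV (MulAut.conjNormal : X →* MulAut ↥(Cfsg.pCore 2 X)) g'
        (hsz_toW (⟨u, hmemQ u hu⟩ : Cfsg.pCore 2 X)) →
      g * u * g⁻¹ = g' * u * g'⁻¹ := by
    intro g g' u hu he
    rw [hsz_actV_toW _ _ (hmemV u hu), hsz_actV_toW _ _ (hmemV u hu)] at he
    have h1 := hsz_toW_inj (hsz_Inv_V _ g _ (hmemV u hu)) (hsz_Inv_V _ g' _ (hmemV u hu)) he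
    have h2 := congrArg Subtype.val h1
    rwa [MulAut.conjNormal_apply, MulAut.conjNormal_apply] at h2
  have hone : ∀ (w : Additive (hsz_V ↥(Cfsg.pCore 2 X))),
      hsz_actV (MulAut.conjNormal : X →* MulAut ↥(Cfsg.pCore 2 X)) 1 w = w := by
    intro w
    rw [map_one]
    rfl
  have key1 : ∀ (g u : X) (hu : u ^ 2 = 1),
      hsz_actV (MulAut.conjNormal : X →* MulAut ↥(Cfsg.pCore 2 X)) g
        (hsz_toW (⟨u, hmemQ u hu⟩ : Cfsg.pCore 2 X)) =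
      hsz_toW (⟨u, hmemQ u hu⟩ : Cfsg.pCore 2 X) → g * u = u * g := by
    intro g u hu he
    have := key g 1 u hu (by rw [he, hone])
    rw [one_mul, inv_one, mul_one] at this
    calc g * u = g * u * g⁻¹ * g := by group
      _ = u * g := by rw [this]
  have key2 : ∀ (g u : X) (hu : u ^ 2 = 1), g * u = u * g →
      hsz_actV (MulAut.conjNormal : X →* MulAut ↥(Cfsg.pCore 2 X)) g
        (hsz_toW (⟨u, hmemQ u hu⟩ : Cfsg.pCore 2 X)) =
      hsz_toW (⟨u, hmemQ u hu⟩ : Cfsg.pCore 2 X) := by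
    intro g u hu hgu
    rw [hsz_actV_toW _ _ (hmemV u hu)]
    congr 1
    apply Subtype.ext
    rw [MulAut.conjNormal_apply]
    show g * u * g⁻¹ = u
    rw [hgu, mul_assoc, mul_inv_cancel, mul_one]
  apply hsz_step1 q.invol_comm ξ d hdodd hd2 ?_ ?_ ?_ t k ht v hv
  · rintro j ⟨u, hu1, hu2, hcomm⟩
    apply hfix j
    refine ⟨hsz_toW (⟨u, hmemQ u hu2⟩ : Cfsg.pCore 2 X), ?_, key2 _ u hu2 hcomm⟩
    intro h0
    rw [hsz_toW_eq_zero (hmemV u hu2)] at h0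
    exact hu1 (congrArg Subtype.val h0)
  · intro j hj u hu
    exact key1 _ u hu (htriv j hj _)
  · intro a
    obtain ⟨i, hi⟩ := hnorm a
    refine ⟨i, ?_⟩
    intro u hu
    -- the involution `u' = (ξ^i)⁻¹ u ξ^i`
    have hu' : ((ξ ^ i)⁻¹ * u * (ξ ^ i)⁻¹⁻¹) ^ 2 = 1 := by
      rw [pow_two]
      have : (ξ ^ i)⁻¹ * u * (ξ ^ i)⁻¹⁻¹ * ((ξ ^ i)⁻¹ * u * (ξ ^ i)⁻¹⁻¹) =
          (ξ ^ i)⁻¹ * (u * u) * (ξ ^ i)⁻¹⁻¹ := by group
      rw [this, ← pow_two, hu]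
      group
    have h1 := key (a * ξ * a⁻¹) (ξ ^ i) _ hu' (hi _)
    have h2 : ξ ^ i * ((ξ ^ i)⁻¹ * u * (ξ ^ i)⁻¹⁻¹) * (ξ ^ i)⁻¹ = u := by group
    rw [h2] at h1
    calc a * ξ * a⁻¹ * (ξ ^ i)⁻¹ * u
        = (a * ξ * a⁻¹) * ((ξ ^ i)⁻¹ * u * (ξ ^ i)⁻¹⁻¹) * (a * ξ * a⁻¹)⁻¹ *
          (a * ξ * a⁻¹ * (ξ ^ i)⁻¹) := by group
      _ = u * (a * ξ * a⁻¹ * (ξ ^ i)⁻¹) := by rw [h1]

end Cfsg.Agent.HSz
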