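import Mathlib
import Cfsg.Agent.Helper3.CoprimeHall

/-!
# Wrapper lemmas for S3776 (Higman–Shaw)

(W2) all involutions are central and `V = {x | x ^ 2 = 1}` is a central subgroup of order `≥ 4`;
(W1) a solvable group of automorphisms transitive on an invariant set of odd cardinality has a
subgroup of odd order that is still transitive (Hall `2'`-subgroup and a count).
-/

namespace Cfsg.Agent.HSz

variable {G : Type*} [Group G]

/-- (W2a) If a group `Y` of automorphisms of the finite `2`-group `G` permutes the involutions of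
`G` transitively, every involution is central. -/
theorem hsz_wrap_central [Finite G] (hG : IsPGroup 2 G) (Y : Subgroup (MulAut G))
    (hYt : ∀ x y : G, x ≠ 1 → x ^ 2 = 1 → y ≠ 1 → y ^ 2 = 1 → ∃ a ∈ Y, a x = y)
    {x : G} (hx1 : x ≠ 1) (hx2 : x ^ 2 = 1) : x ∈ Subgroup.center G := by
  have : Fact (Nat.Prime 2) := ⟨Nat.prime_two⟩
  have : Nontrivial G := ⟨⟨x, 1, hx1⟩⟩
  have := hG.center_nontrivial
  obtain ⟨⟨z, hz⟩, hz1⟩ := exists_ne (1 : Subgroup.center G)
  have hz1' : z ≠ 1 := fun h => hz1 (Subtype.ext h)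
  obtain ⟨k, hk⟩ := (IsPGroup.iff_orderOf.1 hG) z
  have hk0 : k ≠ 0 := by
    rintro rfl
    rw [pow_zero, orderOf_eq_one_iff] at hk
    exact hz1' hk
  obtain ⟨j, rfl⟩ : ∃ j, k = j + 1 := ⟨k - 1, by omega⟩
  set w := z ^ (2 ^ j) with hw
  have hw2 : w ^ 2 = 1 := by
    rw [hw, ← pow_mul, ← pow_succ, ← hk]
    exact pow_orderOf_eq_one z
  have hw1 : w ≠ 1 := by
    rw [hw]
    apply pow_ne_one_of_lt_orderOf (by positivity)
    rw [hk]
    exact Nat.pow_lt_pow_right (by norm_num) (by omega)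
  have hwc : w ∈ Subgroup.center G := Subgroup.pow_mem _ hz _
  obtain ⟨a, -, ha⟩ := hYt w x hw1 hw2 hx1 hx2
  have hfix := (Subgroup.centerCharacteristic (G := G)).fixed a⁻¹
  rw [← ha, ← hfix]
  simp only [Subgroup.mem_comap, MulEquiv.coe_toMonoidHom]
  have : a⁻¹ (a w) = w := by
    change (a⁻¹ * a) w = w
    simp
  rwa [this]

/-- (W2) `V = {x | x ^ 2 = 1}` is a central subgroup of order at least `4`. -/
theorem hsz_wrap_V [Finite G] (hG : IsPGroup 2 G) (Y : Subgroup (MulAut G))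
    (hYt : ∀ x y : G, x ≠ 1 → x ^ 2 = 1 → y ≠ 1 → y ^ 2 = 1 → ∃ a ∈ Y, a x = y)
    (htwo : ∃ x y : G, x ≠ y ∧ x ≠ 1 ∧ x ^ 2 = 1 ∧ y ≠ 1 ∧ y ^ 2 = 1) :
    ∃ V : Subgroup G, (∀ x, x ∈ V ↔ x ^ 2 = 1) ∧ V ≤ Subgroup.center G ∧ 4 ≤ Nat.card V := by
  have : Fact (Nat.Prime 2) := ⟨Nat.prime_two⟩
  have hcen : ∀ x : G, x ^ 2 = 1 → x ∈ Subgroup.center G := by
    intro x hx2
    by_cases hx1 : x = 1
    · rw [hx1]; exact Subgroup.one_mem _
    · exact hsz_wrap_central hG Y hYt hx1 hx2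
  let V : Subgroup G :=
    { carrier := {x | x ^ 2 = 1}
      mul_mem' := by
        intro x y hx hy
        have hc : Commute x y := by
          have := Subgroup.mem_center_iff.1 (hcen x hx) y
          exact this.symm
        change (x * y) ^ 2 = 1
        rw [hc.mul_pow, show x ^ 2 = 1 from hx, show y ^ 2 = 1 from hy, one_mul]
      one_mem' := by simp
      inv_mem' := by
        intro x hx
        change (x⁻¹) ^ 2 = 1
        rw [inv_pow, show x ^ 2 = 1 from hx, inv_one] }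
  have hVmem : ∀ x, x ∈ V ↔ x ^ 2 = 1 := fun x => Iff.rfl
  refine ⟨V, hVmem, fun x hx => hcen x ((hVmem x).1 hx), ?_⟩
  obtain ⟨x, y, hxy, hx1, hx2, hy1, hy2⟩ := htwo
  obtain ⟨k, hk⟩ := (hG.to_subgroup V).exists_card_eq
  have h3 : 3 ≤ Nat.card V := by
    classical
    have : Fintype V := Fintype.ofFinite V
    let s : Finset V := {⟨1, V.one_mem⟩, ⟨x, (hVmem x).2 hx2⟩, ⟨y, (hVmem y).2 hy2⟩}
    have hs : s.card = 3 := by
      rw [Finset.card_insert_of_notMem, Finset.card_insert_of_notMem, Finset.card_singleton]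
      · simp only [Finset.mem_singleton, Subtype.mk.injEq]
        exact hxy
      · simp only [Finset.mem_insert, Finset.mem_singleton, Subtype.mk.injEq, not_or]
        exact ⟨fun h => hx1 h.symm, fun h => hy1 h.symm⟩
    rw [Nat.card_eq_fintype_card, ← hs]
    exact Finset.card_le_univ s
  rw [hk] at h3 ⊢
  rcases k with _ | _ | k
  · norm_num at h3
  · norm_num at h3
  · calc 4 = 2 ^ 2 := by norm_num
      _ ≤ 2 ^ (k + 1 + 1) := Nat.pow_le_pow_right (by norm_num) (by omega)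


/-- Orbit–stabiliser for a subgroup `H` of `MulAut G` acting on `G`. -/
theorem hsz_wrap_orbit_card [Finite G] (H : Subgroup (MulAut G)) (x₀ : G) :
    Nat.card H = Nat.card (H ⊓ MulAction.stabilizer (MulAut G) x₀ : Subgroup (MulAut G)) *
      Set.ncard {y : G | ∃ a ∈ H, a x₀ = y} := by
  have h1 := MulAction.index_stabilizer (↥H) x₀
  have h2 := Subgroup.card_mul_index (MulAction.stabilizer (↥H) x₀)
  have horb : MulAction.orbit (↥H) x₀ = {y : G | ∃ a ∈ H, a x₀ = y} := by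
    ext y
    rw [MulAction.mem_orbit_iff]
    constructor
    · rintro ⟨h, rfl⟩
      exact ⟨h.1, h.2, rfl⟩
    · rintro ⟨a, ha, rfl⟩
      exact ⟨⟨a, ha⟩, rfl⟩
  have hstab : Nat.card (MulAction.stabilizer (↥H) x₀) =
      Nat.card (H ⊓ MulAction.stabilizer (MulAut G) x₀ : Subgroup (MulAut G)) := by
    apply Nat.card_congr
    refine
      { toFun := fun h => ⟨h.1.1, ⟨h.1.2, ?_⟩⟩
        invFun := fun k => ⟨⟨k.1, k.2.1⟩, ?_⟩
        left_inv := fun h => rfl
        right_inv := fun k => rfl }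
    · have := h.2
      rw [MulAction.mem_stabilizer_iff] at this
      exact this
    · have := k.2.2
      change (k.1 : MulAut G) • x₀ = x₀ at this
      rw [MulAction.mem_stabilizer_iff]
      exact this
  rw [← h2, h1, horb, hstab]

/-- (W1) A solvable group `Y` of automorphisms of a finite group, transitive on a `Y`-invariant
set `Ω` of odd cardinality, has a subgroup of odd order that is transitive on `Ω`. -/
theorem hsz_wrap_hall [Finite G] (Y : Subgroup (MulAut G)) (hYs : Group.IsSolvable Y)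
    (Ω : Set G) (hΩ : Odd Ω.ncard) (hYΩ : ∀ a ∈ Y, ∀ x ∈ Ω, a x ∈ Ω)
    (hYt : ∀ x ∈ Ω, ∀ y ∈ Ω, ∃ a ∈ Y, a x = y) :
    ∃ A : Subgroup (MulAut G), A ≤ Y ∧ Odd (Nat.card A) ∧
      ∀ x ∈ Ω, ∀ y ∈ Ω, ∃ a ∈ A, a x = y := by
  classical
  have : Finite (MulAut G) := Finite.of_injective (fun a : MulAut G => (a : G → G))
    (fun a b h => MulEquiv.ext (congrFun h))
  let π : Set ℕ := {p | p ≠ 2}
  obtain ⟨m, n, hd⟩ := Cfsg.Agent.Helper3.exists_piDecomp π (Nat.card Y) Nat.card_pos.ne'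
  have hm_odd : Odd m := by
    rw [← Nat.not_even_iff_odd]
    intro he
    exact hd.left 2 Nat.prime_two he.two_dvd rfl
  have hn2 : ∀ p : ℕ, p.Prime → p ∣ n → p = 2 := by
    intro p hp hpn
    by_contra hne
    exact hd.right p hp hpn hne
  obtain ⟨A, hAY, hAcard, -⟩ := (Cfsg.Agent.Helper3.hall_internal Y hYs hd).2 ⊥ bot_le
    (by rw [Subgroup.card_bot]; exact Nat.coprime_one_left n)
  refine ⟨A, hAY, hAcard ▸ hm_odd, ?_⟩
  -- a base point
  have hne : Ω.Nonempty := by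
    rw [Set.nonempty_iff_ne_empty]
    rintro rfl
    simp at hΩ
  obtain ⟨x₀, hx₀⟩ := hne
  set S := MulAction.stabilizer (MulAut G) x₀ with hS
  -- the `Y`-orbit is `Ω`
  have horbY : {y : G | ∃ a ∈ Y, a x₀ = y} = Ω := by
    ext y
    constructor
    · rintro ⟨a, ha, rfl⟩
      exact hYΩ a ha x₀ hx₀
    · intro hy
      exact hYt x₀ hx₀ y hy
  have hcY := hsz_wrap_orbit_card Y x₀
  rw [horbY] at hcY
  have hcA := hsz_wrap_orbit_card A x₀
  set OA : Set G := {y : G | ∃ a ∈ A, a x₀ = y} with hOA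
  have hOAsub : OA ⊆ Ω := by
    rintro y ⟨a, ha, rfl⟩
    exact hYΩ a (hAY ha) x₀ hx₀
  -- arithmetic
  have hcopΩ : (Ω.ncard).Coprime n := by
    apply Nat.coprime_of_dvd
    intro p hp h1 h2
    have := hn2 p hp h2
    subst this
    rw [← Nat.not_even_iff_odd] at hΩ
    exact hΩ (even_iff_two_dvd.2 h1)
  have hΩm : Ω.ncard ∣ m := by
    apply hcopΩ.dvd_of_dvd_mul_right
    rw [← hd.eq, hcY]
    exact dvd_mul_left _ _
  obtain ⟨m', hm'⟩ := hΩm
  have hΩpos : 0 < Ω.ncard := hΩ.pos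
  have hYS : Nat.card (Y ⊓ S : Subgroup (MulAut G)) = m' * n := by
    have h := hcY
    rw [hd.eq, hm'] at h
    have : Ω.ncard * (m' * n) = Ω.ncard * Nat.card (Y ⊓ S : Subgroup (MulAut G)) := by
      rw [mul_comm (Ω.ncard) (Nat.card _), ← h]; ring
    exact (Nat.eq_of_mul_eq_mul_left hΩpos this).symm
  have hAS_dvd : Nat.card (A ⊓ S : Subgroup (MulAut G)) ∣ m' := by
    have h1 : Nat.card (A ⊓ S : Subgroup (MulAut G)) ∣ m' * n := by
      rw [← hYS]
      exact Subgroup.card_dvd_of_le (inf_le_inf_right S hAY)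
    have h2 : Nat.card (A ⊓ S : Subgroup (MulAut G)) ∣ m := by
      rw [← hAcard]
      exact Subgroup.card_dvd_of_le inf_le_left
    have hcop : (Nat.card (A ⊓ S : Subgroup (MulAut G))).Coprime n :=
      Nat.Coprime.coprime_dvd_left h2 hd.coprime
    exact hcop.dvd_of_dvd_mul_right h1
  have hm'pos : 0 < m' := by
    rcases Nat.eq_zero_or_pos m' with h | h
    · rw [h, mul_zero] at hm'
      rw [hm'] at hm_odd
      simp at hm_odd
    · exact h
  have hOAcard : Ω.ncard ≤ OA.ncard := by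
    have hle : Nat.card (A ⊓ S : Subgroup (MulAut G)) ≤ m' := Nat.le_of_dvd hm'pos hAS_dvd
    have h : Ω.ncard * m' = Nat.card (A ⊓ S : Subgroup (MulAut G)) * OA.ncard := by
      rw [← hm', ← hAcard, hcA]
    by_contra hlt
    push Not at hlt
    have : Nat.card (A ⊓ S : Subgroup (MulAut G)) * OA.ncard < Ω.ncard * m' := by
      calc Nat.card (A ⊓ S : Subgroup (MulAut G)) * OA.ncard
          ≤ m' * OA.ncard := Nat.mul_le_mul_right _ hle
        _ < m' * Ω.ncard := Nat.mul_lt_mul_of_pos_left hlt hm'pos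
        _ = Ω.ncard * m' := mul_comm _ _
    omega
  have hOAeq : OA = Ω := Set.eq_of_subset_of_ncard_le hOAsub hOAcard (Set.toFinite Ω)
  -- transitivity of `A`
  intro x hx y hy
  rw [← hOAeq] at hx hy
  obtain ⟨a, ha, rfl⟩ := hx
  obtain ⟨b, hb, rfl⟩ := hy
  refine ⟨b * a⁻¹, A.mul_mem hb (A.inv_mem ha), ?_⟩
  change b (a⁻¹ (a x₀)) = b x₀
  congr 1
  change (a⁻¹ * a) x₀ = x₀
  simp

/-- The wrapper for S3776: from the hypotheses of the statement, a central subgroup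
`V = {x | x ^ 2 = 1}` of order `≥ 4` and a subgroup `A ≤ Y` of odd order transitive on `V \ 1`. -/
theorem hsz_wrap_main [Finite G] (hG : IsPGroup 2 G)
    (htwo : ∃ x y : G, x ≠ y ∧ x ≠ 1 ∧ x ^ 2 = 1 ∧ y ≠ 1 ∧ y ^ 2 = 1)
    (Y : Subgroup (MulAut G)) (hYs : Group.IsSolvable Y)
    (hYt : ∀ x y : G, x ≠ 1 → x ^ 2 = 1 → y ≠ 1 → y ^ 2 = 1 → ∃ a ∈ Y, a x = y) :
    ∃ (V : Subgroup G) (A : Subgroup (MulAut G)), (∀ x, x ∈ V ↔ x ^ 2 = 1) ∧
      V ≤ Subgroup.center G ∧ 4 ≤ Nat.card V ∧ A ≤ Y ∧ Odd (Nat.card A) ∧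
      ∀ x y : G, x ≠ 1 → x ^ 2 = 1 → y ≠ 1 → y ^ 2 = 1 → ∃ a ∈ A, a x = y := by
  have : Fact (Nat.Prime 2) := ⟨Nat.prime_two⟩
  obtain ⟨V, hVmem, hVc, hV4⟩ := hsz_wrap_V hG Y hYt htwo
  let Ω : Set G := {x | x ≠ 1 ∧ x ^ 2 = 1}
  have hΩV : Ω = (V : Set G) \ {1} := by
    ext x
    simp only [Ω, Set.mem_ofPred_eq, Set.mem_sdiff, SetLike.mem_coe, hVmem, Set.mem_singleton_iff]
    tauto
  have hΩodd : Odd Ω.ncard := by
    obtain ⟨k, hk⟩ := (hG.to_subgroup V).exists_card_eq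
    have hk0 : k ≠ 0 := by
      rintro rfl
      rw [hk] at hV4
      norm_num at hV4
    have hcard : Ω.ncard + 1 = Nat.card V := by
      rw [hΩV, Set.ncard_sdiff_singleton_add_one (V.one_mem) (Set.toFinite _)]
      rfl
    have heven : Even (Nat.card V) := by
      rw [hk]
      exact (Nat.even_pow' hk0).2 even_two
    rw [← hcard] at heven
    rcases Nat.even_or_odd Ω.ncard with he | ho
    · exfalso
      rw [Nat.even_add_one] at heven
      exact heven he
    · exact ho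
  obtain ⟨A, hAY, hAodd, hAt⟩ := hsz_wrap_hall Y hYs Ω hΩodd
    (by
      rintro a - x ⟨hx1, hx2⟩
      refine ⟨fun h => hx1 ?_, by rw [← map_pow, hx2, map_one]⟩
      have : a x = a 1 := by rw [h, map_one]
      exact a.injective this)
    (fun x hx y hy => hYt x y hx.1 hx.2 hy.1 hy.2)
  exact ⟨V, A, hVmem, hVc, hV4, hAY, hAodd,
    fun x y hx1 hx2 hy1 hy2 => hAt x ⟨hx1, hx2⟩ y ⟨hy1, hy2⟩⟩

end Cfsg.Agent.HSz
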