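import Mathlib
import Cfsg.Agent.HSz.Defs
import Cfsg.Agent.HSz.Wrap

/-!
The wrapper for S3776 in the language of `HSz/Defs.lean`: from the hypotheses of the statement,
a subgroup `A ≤ Y` of odd order such that `(G, A)` lies in the class `hsz_C`.
-/

namespace Cfsg.Agent.HSz

variable {G : Type*} [Group G]

theorem hsz_wrap_class [Finite G] (hG : IsPGroup 2 G)
    (htwo : ∃ x y : G, x ≠ y ∧ x ≠ 1 ∧ x ^ 2 = 1 ∧ y ≠ 1 ∧ y ^ 2 = 1)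
    (Y : Subgroup (MulAut G)) (hYs : Group.IsSolvable Y)
    (hYt : ∀ x y : G, x ≠ 1 → x ^ 2 = 1 → y ≠ 1 → y ^ 2 = 1 → ∃ a ∈ Y, a x = y) :
    ∃ A : Subgroup (MulAut G), A ≤ Y ∧ Odd (Nat.card A) ∧ hsz_C (A.subtype) := by
  obtain ⟨V, A, hVmem, hVc, -, hAY, hAodd, hAt⟩ := hsz_wrap_main hG htwo Y hYs hYt
  refine ⟨A, hAY, hAodd, ⟨inferInstance, hG, fun x hx => hVc ((hVmem x).2 hx), htwo, ?_⟩⟩
  intro x y hx1 hx2 hy1 hy2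
  obtain ⟨a, ha, hax⟩ := hAt x y hx1 hx2 hy1 hy2
  exact ⟨⟨a, ha⟩, hax⟩

end Cfsg.Agent.HSz
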