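import Mathlib
import Cfsg.Prelude.Def_Local
import Cfsg.Agent.HSz.Defs
import Cfsg.Agent.HSz.QDef
import Cfsg.Agent.HSz.WrapC
import Cfsg.Agent.HSz.Hyp
import Cfsg.Agent.HSz.Main
import Cfsg.Agent.Helper1.Fitting
import Cfsg.Agent.Helper4.PCore
import Cfsg.Agent.Helper4.HallHigman
import Cfsg.Agent.Helper4.SolvPSolv
import Cfsg.Agent.HSz.SolvQ
import Cfsg.Agent.HSz.TwoCentral
import Cfsg.Agent.HSz.SylAutB

set_option autoImplicit false

/-!
Step 2 of the reduction of S3797 to the theorem of Higman and Shaw: in the quotient `X` of `G` by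
its largest normal subgroup of odd order the Sylow 2-subgroup is normal.
-/

namespace Cfsg.Agent.HSz

open Subgroup
open scoped commutatorElement

universe u

variable {X : Type u} [Group X]

/-- the elements of a Sylow 2-subgroup have 2-power order. -/
theorem hsz_s2_pow (S : Sylow 2 X) (s : X) (hs : s ∈ (S : Subgroup X)) : ∃ k : ℕ, s ^ 2 ^ k = 1 := by
  obtain ⟨k, hk⟩ := (IsPGroup.iff_orderOf.1 S.isPGroup') ⟨s, hs⟩
  refine ⟨k, ?_⟩
  have h1 : (⟨s, hs⟩ : (S : Subgroup X)) ^ 2 ^ k = 1 := by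
    rw [← hk]
    exact pow_orderOf_eq_one _
  exact congrArg Subtype.val h1

/-- the commutators of a Sylow 2-subgroup of `X` have order at most two. -/
theorem hsz_Q.sylow_comm (q : hsz_Q X) (S : Sylow 2 X) :
    ∀ x ∈ (S : Subgroup X), ∀ y ∈ (S : Subgroup X), ⁅x, y⁆ ^ 2 = 1 := by
  haveI := q.fin
  haveI : Fact (Nat.Prime 2) := ⟨Nat.prime_two⟩
  have hcent : ∀ x ∈ (S : Subgroup X), x ^ 2 = 1 → ∀ s ∈ (S : Subgroup X), x * s = s * x := by
    intro x _ hx s hs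
    obtain ⟨k, hk⟩ := hsz_s2_pow S s hs
    exact (q.two_central s k hk x hx).symm
  obtain ⟨Y, hYs, hYt⟩ := hsz_sylaut_b q.sol S hcent q.conj
  by_cases hab : ∀ x y : ↥(S : Subgroup X), x * y = y * x
  · intro x hx y hy
    have h1 : x * y = y * x := congrArg Subtype.val (hab ⟨x, hx⟩ ⟨y, hy⟩)
    rw [commutatorElement_eq_one_iff_mul_comm.2 h1, one_pow]
  · push Not at hab
    have hPS : Cfsg.pCore 2 X ≤ (S : Subgroup X) := Cfsg.Agent.Helper4.pCore_le_sylow S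
    have htwo : ∃ x y : ↥(S : Subgroup X), x ≠ y ∧ x ≠ 1 ∧ x ^ 2 = 1 ∧ y ≠ 1 ∧ y ^ 2 = 1 := by
      obtain ⟨x, y, hxy, hx1, hx2, hy1, hy2⟩ := q.four
      refine ⟨⟨x, hPS (q.invol_mem x hx2).1⟩, ⟨y, hPS (q.invol_mem y hy2).1⟩, ?_, ?_, ?_, ?_, ?_⟩
      · intro h; exact hxy (congrArg Subtype.val h)
      · intro h; exact hx1 (congrArg Subtype.val h)
      · apply Subtype.ext; exact hx2
      · intro h; exact hy1 (congrArg Subtype.val h)
      · apply Subtype.ext; exact hy2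
    obtain ⟨A, hAY, hAodd, hAC⟩ := hsz_wrap_class S.isPGroup' htwo Y hYs hYt
    have hAs : Group.IsSolvable A :=
      Group.isSolvable_of_isSolvable_injective (Subgroup.inclusion_injective hAY)
    have hyp : hsz_Hyp.{u} A := hsz_hyp hAs
    have good := hsz_main hAodd hyp A.subtype hAC hab
    intro x hx y hy
    have h1 := congrArg Subtype.val (good.2.2 ⟨x, hx⟩ ⟨y, hy⟩)
    simpa [commutatorElement_def] using h1

/-- an element of odd order that centralizes all involutions and moves the elements of `O_2(X)` by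
involutions is trivial. -/
theorem hsz_Q.stab_odd (q : hsz_Q X) (h : X) (b : ℕ) (hb : Odd b) (hhb : h ^ b = 1)
    (hc : ∀ v : X, v ^ 2 = 1 → h * v = v * h)
    (hP : ∀ y ∈ Cfsg.pCore 2 X, ⁅h, y⁆ ^ 2 = 1) : h = 1 := by
  haveI := q.fin
  haveI : Fact (Nat.Prime 2) := ⟨Nat.prime_two⟩
  -- `h ^ 2` centralizes `O_2(X)`
  have h2 : ∀ y ∈ Cfsg.pCore 2 X, h ^ 2 * y = y * h ^ 2 := by
    intro y hy
    have hv := hc _ (hP y hy)
    have h3 : h * y = ⁅h, y⁆ * y * h := by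
      simp only [commutatorElement_def]
      group
    have h4 : ⁅h, y⁆ * ⁅h, y⁆ = 1 := by
      rw [← pow_two]
      exact hP y hy
    calc h ^ 2 * y = h * (h * y) := by rw [pow_two, mul_assoc]
      _ = h * (⁅h, y⁆ * y * h) := by rw [← h3]
      _ = (h * ⁅h, y⁆) * y * h := by group
      _ = (⁅h, y⁆ * h) * y * h := by rw [hv]
      _ = ⁅h, y⁆ * (h * y) * h := by group
      _ = ⁅h, y⁆ * (⁅h, y⁆ * y * h) * h := by rw [← h3]
      _ = (⁅h, y⁆ * ⁅h, y⁆) * y * (h * h) := by group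
      _ = y * h ^ 2 := by rw [h4, one_mul, pow_two]
  -- hence `h` does
  obtain ⟨c, hc'⟩ := hb
  have h5 : h = (h ^ 2) ^ (c + 1) := by
    rw [← pow_mul]
    have : 2 * (c + 1) = b + 1 := by omega
    rw [this, pow_succ, hhb, one_mul]
  have h6 : h ∈ centralizer (Cfsg.pCore 2 X : Set X) := by
    rw [mem_centralizer_iff]
    intro y hy
    rw [h5]
    exact ((Commute.pow_left (show Commute (h ^ 2) y from h2 y hy) (c + 1)).eq).symm
  have h7 : h ∈ Cfsg.pCore 2 X :=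
    Cfsg.Agent.Helper4.centralizer_pCore_le_of_isPSolvable
      (Cfsg.Agent.Helper4.SolvPSolv.isPSolvable_of_isSolvable 2 q.sol) q.core h6
  -- a 2-element of odd order
  obtain ⟨k, hk⟩ := (IsPGroup.iff_orderOf.1
    (Cfsg.Agent.Helper4.pCore_isPGroup (G := X) (p := 2))) ⟨h, h7⟩
  have h8 : orderOf h = 2 ^ k := by
    rw [← hk]
    exact (Subgroup.orderOf_mk h h7).symm
  have h9 : orderOf h ∣ b := orderOf_dvd_of_pow_eq_one hhb
  rw [h8] at h9
  have h10 : k = 0 := by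
    by_contra hk0
    have : 2 ∣ b := dvd_trans (dvd_pow_self 2 hk0) h9
    omega
  rw [h10, pow_zero, orderOf_eq_one_iff] at h8
  exact h8

/-- Step 2: the Sylow 2-subgroup of `X` is normal. -/
theorem hsz_Q.index_pCore (q : hsz_Q X) : ¬ 2 ∣ (Cfsg.pCore 2 X).index := by
  haveI := q.fin
  haveI : Fact (Nat.Prime 2) := ⟨Nat.prime_two⟩
  haveI hPn : (Cfsg.pCore 2 X).Normal := Cfsg.Agent.Helper1.pCore_normal 2
  obtain ⟨S⟩ : Nonempty (Sylow 2 X) := inferInstance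
  have hPS : Cfsg.pCore 2 X ≤ (S : Subgroup X) := Cfsg.Agent.Helper4.pCore_le_sylow S
  have hcomm := q.sylow_comm S
  -- involutions (and the identity) multiply to elements of order at most two
  have hmul2 : ∀ v w : X, v ^ 2 = 1 → w ^ 2 = 1 → (v * w) ^ 2 = 1 := by
    intro v w hv hw
    have hc : Commute v w := q.invol_comm v w hv hw
    rw [hc.mul_pow, hv, hw, one_mul]
  -- the stability group
  obtain ⟨B, hB⟩ : ∃ B : Subgroup X, ∀ g, g ∈ B ↔
      (∀ v : X, v ^ 2 = 1 → g * v = v * g) ∧ ∀ y ∈ Cfsg.pCore 2 X, ⁅g, y⁆ ^ 2 = 1 := by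
    refine ⟨{ carrier := {g | (∀ v : X, v ^ 2 = 1 → g * v = v * g) ∧
                ∀ y ∈ Cfsg.pCore 2 X, ⁅g, y⁆ ^ 2 = 1}
              mul_mem' := ?_
              one_mem' := ?_
              inv_mem' := ?_ }, fun g => Iff.rfl⟩
    · rintro g k ⟨hg1, hg2⟩ ⟨hk1, hk2⟩
      refine ⟨fun v hv => by rw [mul_assoc, hk1 v hv, ← mul_assoc, hg1 v hv, mul_assoc], ?_⟩
      intro y hy
      have h1 : ⁅g * k, y⁆ = g * ⁅k, y⁆ * g⁻¹ * ⁅g, y⁆ := by
        simp only [commutatorElement_def]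
        group
      have h2 : g * ⁅k, y⁆ * g⁻¹ = ⁅k, y⁆ := by
        rw [hg1 _ (hk2 y hy), mul_assoc, mul_inv_cancel, mul_one]
      rw [h1, h2]
      exact hmul2 _ _ (hk2 y hy) (hg2 y hy)
    · refine ⟨fun v _ => by rw [one_mul, mul_one], fun y _ => ?_⟩
      rw [commutatorElement_one_left, one_pow]
    · rintro g ⟨hg1, hg2⟩
      have hg1' : ∀ v : X, v ^ 2 = 1 → g⁻¹ * v = v * g⁻¹ := by
        intro v hv
        have := hg1 v hv
        calc g⁻¹ * v = g⁻¹ * (v * g) * g⁻¹ := by group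
          _ = g⁻¹ * (g * v) * g⁻¹ := by rw [this]
          _ = v * g⁻¹ := by group
      refine ⟨hg1', ?_⟩
      intro y hy
      have h1 : ⁅g⁻¹, y⁆ = g⁻¹ * ⁅g, y⁆⁻¹ * g := by
        simp only [commutatorElement_def]
        group
      have h2 : (⁅g, y⁆⁻¹) ^ 2 = 1 := by rw [inv_pow, hg2 y hy, inv_one]
      have h3 : g⁻¹ * ⁅g, y⁆⁻¹ * g = ⁅g, y⁆⁻¹ := by
        rw [hg1' _ h2, mul_assoc, inv_mul_cancel, mul_one]
      rw [h1, h3, h2]
  have hBn : B.Normal := by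
    constructor
    intro g hg k
    rw [hB] at hg ⊢
    obtain ⟨hg1, hg2⟩ := hg
    refine ⟨?_, ?_⟩
    · intro v hv
      have hv' : (k⁻¹ * v * k) ^ 2 = 1 := by
        have : (k⁻¹ * v * k) ^ 2 = k⁻¹ * v ^ 2 * k := by
          rw [pow_two, pow_two]
          group
        rw [this, hv, mul_one, inv_mul_cancel]
      have h1 := hg1 _ hv'
      calc k * g * k⁻¹ * v = k * (g * (k⁻¹ * v * k)) * k⁻¹ := by group
        _ = k * ((k⁻¹ * v * k) * g) * k⁻¹ := by rw [h1]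
        _ = v * (k * g * k⁻¹) := by group
    · intro y hy
      have h1 : ⁅k * g * k⁻¹, y⁆ = k * ⁅g, k⁻¹ * y * k⁆ * k⁻¹ := by
        simp only [commutatorElement_def]
        group
      have h2 : k⁻¹ * y * k ∈ Cfsg.pCore 2 X := by
        have := hPn.conj_mem y hy k⁻¹
        rwa [inv_inv] at this
      have h3 : (k * ⁅g, k⁻¹ * y * k⁆ * k⁻¹) ^ 2 = k * ⁅g, k⁻¹ * y * k⁆ ^ 2 * k⁻¹ := by
        rw [pow_two, pow_two]
        group
      rw [h1, h3, hg2 _ h2, mul_one, mul_inv_cancel]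
  have hBp : IsPGroup 2 B := by
    rw [IsPGroup.iff_orderOf]
    rintro ⟨g, hg⟩
    obtain ⟨a, b, hb, hab⟩ := Nat.exists_eq_two_pow_mul_odd (orderOf_pos g).ne'
    have hgB : g ^ 2 ^ a ∈ B := pow_mem hg _
    have h1 : (g ^ 2 ^ a) ^ b = 1 := by
      rw [← pow_mul, ← hab, pow_orderOf_eq_one]
    have h2 := q.stab_odd (g ^ 2 ^ a) b hb h1 ((hB _).1 hgB).1 ((hB _).1 hgB).2
    obtain ⟨j, -, hj⟩ := (Nat.dvd_prime_pow Nat.prime_two).1 (orderOf_dvd_of_pow_eq_one h2)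
    refine ⟨j, ?_⟩
    rw [← hj]
    exact Subgroup.orderOf_mk g hg
  have hBP : B ≤ Cfsg.pCore 2 X := Cfsg.Agent.Helper4.le_pCore B hBn hBp
  have hSB : (S : Subgroup X) ≤ B := by
    intro s hs
    rw [hB]
    refine ⟨?_, ?_⟩
    · intro v hv
      obtain ⟨k, hk⟩ := hsz_s2_pow S s hs
      exact q.two_central s k hk v hv
    · intro y hy
      exact hcomm s hs y (hPS hy)
  have heq : Cfsg.pCore 2 X = (S : Subgroup X) := le_antisymm hPS (hSB.trans hBP)
  rw [heq]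
  exact S.not_dvd_index

end Cfsg.Agent.HSz
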