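import Mathlib

set_option autoImplicit false

/-!
# S3797 wrapper, package Y: the automorphisms of a Sylow 2-subgroup induced by its normalizer

If the involutions of a Sylow 2-subgroup `S` of a finite solvable group `G` are central in `S` and
all involutions of `G` are conjugate, then the image of `N_G(S) → Aut S` is a solvable group of
automorphisms of `S` that is transitive on the involutions of `S` (Burnside's fusion argument,
`Sylow.conj_eq_normalizer_conj_of_mem_centralizer`).
-/

namespace Cfsg.Agent.HSz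

open Subgroup

universe u

/-- Burnside fusion for elements centralizing a Sylow subgroup, in the form used below:
two elements of `C_G(S)` that are conjugate in `G` are conjugate under `N_G(S)`. -/
theorem hsz_sylaut_fusion {G : Type u} [Group G] [Finite G] (S : Sylow 2 G) (x y : G)
    (hx : x ∈ centralizer ((S : Subgroup G) : Set G))
    (hy : y ∈ centralizer ((S : Subgroup G) : Set G)) (hxy : IsConj x y) :
    ∃ n ∈ normalizer ((S : Subgroup G) : Set G), n * x * n⁻¹ = y := by
  have : Fact (Nat.Prime 2) := ⟨Nat.prime_two⟩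
  obtain ⟨c, hc⟩ := isConj_iff.mp hxy
  have hy' : (c⁻¹)⁻¹ * x * c⁻¹ ∈ centralizer ((S : Subgroup G) : Set G) := by
    rw [inv_inv, hc]; exact hy
  obtain ⟨n, hn, hnx⟩ := S.conj_eq_normalizer_conj_of_mem_centralizer x c⁻¹ hx hy'
  refine ⟨n⁻¹, inv_mem hn, ?_⟩
  rw [inv_inv, ← hnx, inv_inv, hc]

/-- if the involutions of a Sylow 2-subgroup `S` are central in `S` and all involutions of `G` are
conjugate, the automorphisms of `S` induced by its normalizer form a solvable group that is
transitive on the involutions of `S`. -/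
theorem hsz_sylaut {G : Type u} [Group G] [Finite G] (hsol : Group.IsSolvable G) (S : Sylow 2 G)
    (hcent : ∀ x ∈ (S : Subgroup G), x ^ 2 = 1 → ∀ s ∈ (S : Subgroup G), x * s = s * x)
    (hconj : ∀ x y : G, x ≠ 1 → x ^ 2 = 1 → y ≠ 1 → y ^ 2 = 1 → IsConj x y) :
    ∃ Y : Subgroup (MulAut ↥(S : Subgroup G)), Group.IsSolvable Y ∧
      ∀ x y : ↥(S : Subgroup G), x ≠ 1 → x ^ 2 = 1 → y ≠ 1 → y ^ 2 = 1 → ∃ a ∈ Y, a x = y := by
  have := hsol
  refine ⟨(S : Subgroup G).normalizerMonoidHom.range, ?_, ?_⟩
  · exact Group.isSolvable_of_surjective (f := (S : Subgroup G).normalizerMonoidHom.rangeRestrict)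
      (MonoidHom.rangeRestrict_surjective _)
  · intro x y hx1 hx2 hy1 hy2
    have hxG1 : (x : G) ≠ 1 := fun h => hx1 (Subtype.ext h)
    have hyG1 : (y : G) ≠ 1 := fun h => hy1 (Subtype.ext h)
    have hxG2 : (x : G) ^ 2 = 1 := by
      have := congrArg (fun z : ↥(S : Subgroup G) => (z : G)) hx2
      simpa using this
    have hyG2 : (y : G) ^ 2 = 1 := by
      have := congrArg (fun z : ↥(S : Subgroup G) => (z : G)) hy2
      simpa using this
    have hxc : (x : G) ∈ centralizer ((S : Subgroup G) : Set G) := by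
      intro s hs
      exact (hcent x x.2 hxG2 s hs).symm
    have hyc : (y : G) ∈ centralizer ((S : Subgroup G) : Set G) := by
      intro s hs
      exact (hcent y y.2 hyG2 s hs).symm
    obtain ⟨n, hn, hnx⟩ := hsz_sylaut_fusion S x y hxc hyc (hconj x y hxG1 hxG2 hyG1 hyG2)
    refine ⟨(S : Subgroup G).normalizerMonoidHom ⟨n, hn⟩, ⟨⟨n, hn⟩, rfl⟩, ?_⟩
    apply Subtype.ext
    exact hnx

end Cfsg.Agent.HSz
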