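import Mathlib
import Cfsg.Prelude.Def_Local
import Cfsg.Agent.HSz.QDef
import Cfsg.Agent.HSz.TwoCentral
import Cfsg.Agent.HSz.Step2
import Cfsg.Agent.Helper1.Fitting
import Cfsg.Agent.Helper1.Fitting2
import Cfsg.Agent.Helper3.PLen
import Cfsg.Agent.Helper3.GYen

set_option autoImplicit false
set_option linter.unusedVariables false
set_option linter.style.haveILetI false
set_option linter.unusedSectionVars false

/-!
The passage between a finite solvable group `G` with one class of involutions and its quotient by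
the largest normal subgroup of odd order (package `Transfer` of the proof of S3797): the quotient
satisfies the hypotheses `hsz_Q`; the involutions of a Sylow 2-subgroup of `G` are central in it;
the 2-length of `G` is at most one.
-/

namespace Cfsg.Agent.HSz

open Subgroup

universe u

section transfer

variable {G : Type u} [Group G] [Finite G]

/-- an element of a Sylow 2-subgroup that lies in the largest normal subgroup of odd order is
trivial. -/
theorem hsz_tr_eq_one (S : Sylow 2 G) {g : G} (hS : g ∈ (S : Subgroup G))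
    (hK : g ∈ Cfsg.pPrimeCore 2 G) : g = 1 := by
  have hcop : (Nat.card (Cfsg.pPrimeCore 2 G)).Coprime 2 :=
    Cfsg.Agent.Helper1.card_pPrimeCore_coprime 2
  obtain ⟨k, hk⟩ := S.isPGroup' ⟨g, hS⟩
  have hk' : g ^ 2 ^ k = 1 := by
    have := congrArg Subtype.val hk
    simpa using this
  have h1 : orderOf g ∣ 2 ^ k := orderOf_dvd_of_pow_eq_one hk'
  have h2 : orderOf g ∣ Nat.card (Cfsg.pPrimeCore 2 G) := by
    have h3 : orderOf (⟨g, hK⟩ : Cfsg.pPrimeCore 2 G) ∣ Nat.card (Cfsg.pPrimeCore 2 G) :=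
      orderOf_dvd_natCard _
    rwa [← Subgroup.orderOf_coe] at h3
  have h4 : orderOf g ∣ Nat.gcd (2 ^ k) (Nat.card (Cfsg.pPrimeCore 2 G)) := Nat.dvd_gcd h1 h2
  have h5 : Nat.gcd (2 ^ k) (Nat.card (Cfsg.pPrimeCore 2 G)) = 1 :=
    Nat.Coprime.pow_left k hcop.symm
  rw [h5, Nat.dvd_one] at h4
  exact orderOf_eq_one_iff.1 h4

/-- an element of order at most two of the quotient is the image of an element of order at most
two. -/
theorem hsz_tr_lift (y : G ⧸ Cfsg.pPrimeCore 2 G) (hy : y ^ 2 = 1) :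
    ∃ g : G, g ^ 2 = 1 ∧ (g : G ⧸ Cfsg.pPrimeCore 2 G) = y := by
  have hcop : (Nat.card (Cfsg.pPrimeCore 2 G)).Coprime 2 :=
    Cfsg.Agent.Helper1.card_pPrimeCore_coprime 2
  obtain ⟨g, rfl⟩ := QuotientGroup.mk_surjective y
  set m := Nat.card (Cfsg.pPrimeCore 2 G) with hm
  have hodd : Odd m := by
    exact Nat.coprime_two_right.1 hcop
  have hg2 : g ^ 2 ∈ Cfsg.pPrimeCore 2 G := by
    rw [← QuotientGroup.eq_one_iff]
    exact hy
  refine ⟨g ^ m, ?_, ?_⟩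
  · rw [← pow_mul, mul_comm, pow_mul]
    have h1 : (⟨g ^ 2, hg2⟩ : Cfsg.pPrimeCore 2 G) ^ m = 1 := pow_card_eq_one'
    have := congrArg Subtype.val h1
    simpa using this
  · obtain ⟨t, ht⟩ := hodd
    show ((g ^ m : G) : G ⧸ Cfsg.pPrimeCore 2 G) = (g : G ⧸ Cfsg.pPrimeCore 2 G)
    rw [QuotientGroup.mk_pow, ht, pow_succ, pow_mul, hy, one_pow, one_mul]

/-- the quotient of `G` by its 2'-core satisfies the hypotheses. -/
theorem hsz_transfer_Q (hG : Group.IsSolvable G) (S : Sylow 2 G)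
    (htwo : ∃ x y : G, x ∈ (S : Subgroup G) ∧ y ∈ (S : Subgroup G) ∧ x ≠ y ∧ x ≠ 1 ∧ x ^ 2 = 1 ∧
      y ≠ 1 ∧ y ^ 2 = 1)
    (hconj : ∀ x y : G, x ≠ 1 → x ^ 2 = 1 → y ≠ 1 → y ^ 2 = 1 → IsConj x y) :
    hsz_Q (G ⧸ Cfsg.pPrimeCore 2 G) := by
  refine ⟨inferInstance, ?_, Cfsg.Agent.Helper1.pPrimeCore_quotient_pPrimeCore 2, ?_, ?_⟩
  · exact Group.isSolvable_of_surjective (QuotientGroup.mk'_surjective (Cfsg.pPrimeCore 2 G))
  · intro x y hx1 hx2 hy1 hy2
    obtain ⟨g, hg2, rfl⟩ := hsz_tr_lift x hx2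
    obtain ⟨h, hh2, rfl⟩ := hsz_tr_lift y hy2
    have hg1 : g ≠ 1 := by
      rintro rfl
      exact hx1 rfl
    have hh1 : h ≠ 1 := by
      rintro rfl
      exact hy1 rfl
    exact (QuotientGroup.mk' (Cfsg.pPrimeCore 2 G)).map_isConj (hconj g h hg1 hg2 hh1 hh2)
  · obtain ⟨x, y, hxS, hyS, hxy, hx1, hx2, hy1, hy2⟩ := htwo
    refine ⟨(x : G ⧸ Cfsg.pPrimeCore 2 G), (y : G ⧸ Cfsg.pPrimeCore 2 G), ?_, ?_, ?_, ?_, ?_⟩
    · intro h
      have h1 : x⁻¹ * y ∈ Cfsg.pPrimeCore 2 G := QuotientGroup.eq.1 h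
      have h2 : x⁻¹ * y ∈ (S : Subgroup G) := mul_mem (inv_mem hxS) hyS
      have h3 := hsz_tr_eq_one S h2 h1
      exact hxy (inv_mul_eq_one.1 h3)
    · intro h
      have h1 : x ∈ Cfsg.pPrimeCore 2 G := (QuotientGroup.eq_one_iff x).1 h
      exact hx1 (hsz_tr_eq_one S hxS h1)
    · rw [← QuotientGroup.mk_pow, hx2]
      rfl
    · intro h
      have h1 : y ∈ Cfsg.pPrimeCore 2 G := (QuotientGroup.eq_one_iff y).1 h
      exact hy1 (hsz_tr_eq_one S hyS h1)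
    · rw [← QuotientGroup.mk_pow, hy2]
      rfl

/-- the involutions of a Sylow 2-subgroup are central in it. -/
theorem hsz_transfer_cent (hq : hsz_Q (G ⧸ Cfsg.pPrimeCore 2 G)) (S : Sylow 2 G) :
    ∀ x ∈ (S : Subgroup G), x ^ 2 = 1 → ∀ s ∈ (S : Subgroup G), x * s = s * x := by
  intro x hxS hx2 s hsS
  obtain ⟨k, hk⟩ := S.isPGroup' ⟨s, hsS⟩
  have hk' : s ^ 2 ^ k = 1 := by
    have := congrArg Subtype.val hk
    simpa using this
  have h1 : ((s : G ⧸ Cfsg.pPrimeCore 2 G)) ^ 2 ^ k = 1 := by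
    rw [← QuotientGroup.mk_pow, hk']
    rfl
  have h2 : ((x : G ⧸ Cfsg.pPrimeCore 2 G)) ^ 2 = 1 := by
    rw [← QuotientGroup.mk_pow, hx2]
    rfl
  have h3 := hq.two_central _ k h1 _ h2
  have h4 : ((s * x : G) : G ⧸ Cfsg.pPrimeCore 2 G) = ((x * s : G) : G ⧸ Cfsg.pPrimeCore 2 G) := by
    rw [QuotientGroup.mk_mul, QuotientGroup.mk_mul]
    exact h3
  have h5 : (s * x)⁻¹ * (x * s) ∈ Cfsg.pPrimeCore 2 G := QuotientGroup.eq.1 h4
  have h6 : (s * x)⁻¹ * (x * s) ∈ (S : Subgroup G) :=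
    mul_mem (inv_mem (mul_mem hsS hxS)) (mul_mem hxS hsS)
  have h7 := hsz_tr_eq_one S h6 h5
  exact (inv_mul_eq_one.1 h7).symm

/-- 2-length at most one. -/
theorem hsz_transfer_plength (hq : hsz_Q (G ⧸ Cfsg.pPrimeCore 2 G)) :
    Cfsg.PLengthLE 2 1 G := by
  have h1 : Cfsg.PLengthLE 2 1 (G ⧸ Cfsg.pPrimeCore 2 G) :=
    Cfsg.Agent.Helper3.GYen.pLengthLE_one_of_index_pCore hq.index_pCore
  exact Cfsg.Agent.Helper3.PLen.pLengthLE_of_quotient_coprime 2 (Cfsg.pPrimeCore 2 G)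
    (Cfsg.Agent.Helper1.card_pPrimeCore_coprime 2) h1

end transfer

end Cfsg.Agent.HSz
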